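import Groth.Agent.L16.Rees.InvNearFibre
import Mathlib.RingTheory.LocalRing.Module
import Mathlib.RingTheory.Flat.FaithfullyFlat.Basic
import Mathlib.AlgebraicGeometry.Morphisms.Flat
import Mathlib.AlgebraicGeometry.Morphisms.UniversallyOpen

/-!
# Functions near a fibre without nonconstant functions come from the base
-/

set_option autoImplicit false
set_option linter.style.haveILetI false
set_option linter.unusedSectionVars false
set_option backward.isDefEq.respectTransparency false

universe u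

open CategoryTheory CategoryTheory.Limits AlgebraicGeometry TopologicalSpace Opposite
open scoped TensorProduct MonoidalCategory
open CategoryTheory.MonoidalCategory (tensorRight)

noncomputable section

namespace Groth.L16.Rees.UnitNear

open Groth.L17.BC
open Groth.L17.BC.Classes
open Groth.L17.BC.Effaced (Cov)
open Groth.L18.Frame (rs ro pull rs_rs rs_smul rs_self ro_ro ro_self IsFrame pull_rs pull_smul)
open NearFibre (fromSpecResidueField_app_top dL_glued)

section Alg

variable {A B : Type u} [CommRing A]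

/-- A cycle generating the cycles of the model after base change. -/
theorem exists_generator [CommRing B] [Algebra A B] {L K : CochainComplex (ModuleCat.{u} A) ℤ} (χ : L ⟶ K)
    [QuasiIso χ] [Subsingleton (K.X ((0 : ℤ) - 1))]
    (hB : QuasiIso (((tensorRight (ModuleCat.of A B)).mapHomologicalComplex (ComplexShape.up ℤ)).map χ))
    (x : K.X 0) (hx : (K.d 0 (0 + 1)).hom x = 0)
    (hgen : ∀ w : B ⊗[A] K.X 0, (K.d 0 (0 + 1)).hom.baseChange B w = 0 → ∃ b : B, b • ((1 : B) ⊗ₜ[A] x) = w) :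
    ∃ z : L.X 0, (L.d 0 (0 + 1)).hom z = 0 ∧ (χ.f 0).hom z = x ∧
      ∀ w : B ⊗[A] L.X 0, (L.d 0 (0 + 1)).hom.baseChange B w = 0 →
        ∃ (b : B) (q : B ⊗[A] L.X (0 - 1)), b • ((1 : B) ⊗ₜ[A] z) + (L.d (0 - 1) 0).hom.baseChange B q = w := by
  obtain ⟨z, y, hz, hzx⟩ := Transfer.exists_cycle χ 0 x hx
  rw [Subsingleton.elim y 0, map_zero, add_zero] at hzx
  refine ⟨z, hz, hzx, fun w hw => ?_⟩
  obtain ⟨b, hb⟩ := hgen ((χ.f 0).hom.baseChange B w) (by rw [← Transfer.comm_baseChange, hw, map_zero])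
  have hd : (L.d 0 (0 + 1)).hom.baseChange B (w - b • ((1 : B) ⊗ₜ[A] z)) = 0 := by
    rw [map_sub, hw, map_smul, LinearMap.baseChange_tmul, hz, TensorProduct.tmul_zero, smul_zero, sub_zero]
  obtain ⟨q, hq⟩ := Transfer.exists_boundary_baseChange χ B hB (0 - 1) 0 (0 + 1) (by norm_num) rfl _ hd 0
    (by rw [map_zero, map_sub, map_smul, LinearMap.baseChange_tmul, hzx, hb, sub_self])
  exact ⟨b, q, by rw [hq]; abel⟩

/-- A cycle generating after base change to the residue field generates up to a function invertible there. -/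
theorem exists_smul_mem_span [IsNoetherianRing A] [Field B] [Algebra A B] {P₀ P P₂ : Type u}
    [AddCommGroup P₀] [Module A P₀] [AddCommGroup P] [Module A P] [Module.Finite A P]
    [AddCommGroup P₂] [Module A P₂] (d' : P₀ →ₗ[A] P) (d : P →ₗ[A] P₂) (hdd : ∀ v, d (d' v) = 0)
    (z : P) (hz : d z = 0)
    (hgen : ∀ w : B ⊗[A] P, d.baseChange B w = 0 →
      ∃ (b : B) (q : B ⊗[A] P₀), b • ((1 : B) ⊗ₜ[A] z) + d'.baseChange B q = w)
    (hs : SplitAt d (PrimeSpectrum.comap (algebraMap A B) ⊥)) :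
    ∃ r : A, algebraMap A B r ≠ 0 ∧ ∀ n, d n = 0 → ∃ (a : A) (v : P₀), r • n = a • z + d' v := by
  obtain ⟨r₀, σ, hr₀, hσ⟩ := hs
  let N := LinearMap.ker d
  let T : Submodule A N := Submodule.span A {(⟨z, hz⟩ : N)} ⊔
    LinearMap.range (LinearMap.codRestrict N d' hdd)
  let π : P →ₗ[A] N := LinearMap.codRestrict _ (r₀ • LinearMap.id - σ ∘ₗ d) fun v => by simp [N, hσ v]
  have hπ : ∀ (k : P) (hk : d k = 0), π k = r₀ • (⟨k, hk⟩ : N) := fun k hk => by
    apply Subtype.ext
    simp [π, hk]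
  haveI : Module.Finite A N := inferInstance
  let p : PrimeSpectrum A := PrimeSpectrum.comap (algebraMap A B) ⊥
  haveI hQ : Subsingleton (B ⊗[A] (N ⧸ T)) := by
    refine subsingleton_of_forall_eq 0 fun t => ?_
    induction t using TensorProduct.induction_on with
    | zero => rfl
    | tmul c m =>
      obtain ⟨⟨k, hk⟩, rfl⟩ := T.mkQ_surjective m
      obtain ⟨b, q, hbq⟩ := hgen ((1 : B) ⊗ₜ k) (by
        rw [LinearMap.baseChange_tmul, show d k = 0 from hk, TensorProduct.tmul_zero])
      have h1 := congrArg ((T.mkQ ∘ₗ π).baseChange B) hbq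
      have hq0 : (T.mkQ ∘ₗ π).baseChange B (d'.baseChange B q) = 0 := by
        rw [← LinearMap.comp_apply, ← LinearMap.baseChange_comp,
          show (T.mkQ ∘ₗ π) ∘ₗ d' = 0 from LinearMap.ext fun v => by
            rw [LinearMap.comp_apply, LinearMap.comp_apply, hπ _ (hdd v), LinearMap.zero_apply]
            exact (Submodule.Quotient.mk_eq_zero T).2 (T.smul_mem _ (Submodule.mem_sup_right ⟨v, rfl⟩)),
          LinearMap.baseChange_zero, LinearMap.zero_apply]
      rw [map_add, map_smul, hq0, add_zero, LinearMap.baseChange_tmul, LinearMap.baseChange_tmul,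
        LinearMap.comp_apply, LinearMap.comp_apply, hπ k hk, hπ z hz, map_smul, map_smul,
        show T.mkQ (⟨z, hz⟩ : N) = 0 from
          (Submodule.Quotient.mk_eq_zero T).2 (Submodule.mem_sup_left (Submodule.mem_span_singleton_self _)),
        smul_zero, TensorProduct.tmul_zero, smul_zero, TensorProduct.tmul_smul] at h1
      have hu : algebraMap A B r₀ ≠ 0 := fun e => hr₀ e
      rw [← algebraMap_smul B r₀, eq_comm, smul_eq_zero] at h1
      have h2 := h1.resolve_left hu
      rw [show c ⊗ₜ[A] T.mkQ (⟨k, hk⟩ : N) = c • ((1 : B) ⊗ₜ[A] T.mkQ (⟨k, hk⟩ : N)) by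
        rw [TensorProduct.smul_tmul', smul_eq_mul, mul_one], h2, smul_zero]
    | add a b ha hb => rw [ha, hb, add_zero]
  have hp : p ∉ Module.support A (N ⧸ T) := by
    intro h
    rw [Module.mem_support_iff_nontrivial_residueField_tensorProduct] at h
    let κ := p.asIdeal.ResidueField
    have hker : p.asIdeal ≤ RingHom.ker (algebraMap A B) := le_of_eq rfl
    letI : Algebra κ B := (Ideal.ResidueField.lift (I := p.asIdeal) (algebraMap A B) hker
      fun a ha => isUnit_iff_ne_zero.2 ha).toAlgebra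
    haveI : IsScalarTower A κ B := IsScalarTower.of_algebraMap_eq fun a =>
      (Ideal.ResidueField.lift_algebraMap (I := p.asIdeal) (algebraMap A B) hker _ a).symm
    haveI := (TensorProduct.AlgebraTensorModule.cancelBaseChange A κ B B (N ⧸ T)).toEquiv.subsingleton
    haveI : Subsingleton (κ ⊗[A] (N ⧸ T)) :=
      Module.FaithfullyFlat.lTensor_reflects_triviality κ B (κ ⊗[A] (N ⧸ T))
    exact not_nontrivial _ h
  rw [Module.support_eq_zeroLocus, PrimeSpectrum.mem_zeroLocus, Set.not_subset] at hp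
  obtain ⟨r, hr, hrp⟩ := hp
  refine ⟨r, hrp, fun n hn => ?_⟩
  have h0 : T.mkQ (r • (⟨n, hn⟩ : N)) = 0 := by rw [map_smul]; exact Module.mem_annihilator.1 hr _
  obtain ⟨t, ht, _, ⟨v, rfl⟩, hsum⟩ := Submodule.mem_sup.1 ((Submodule.Quotient.mk_eq_zero T).1 h0)
  obtain ⟨a, rfl⟩ := Submodule.mem_span_singleton.1 ht
  exact ⟨a, v, (congrArg Subtype.val hsum).symm⟩

end Alg

variable {X S : Scheme.{u}} (f : X ⟶ S) [IsProper f] [Flat f] [IsLocallyNoetherian S]

/-- Over an affine open, functions on the preimage come from the base up to a function invertible at the point. -/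
theorem exists_scalar (y : S) (hy : Function.Bijective (algebraMap (S.residueField y) Γ(f.fiber y, ⊤)))
    {V : S.Opens} (hV : IsAffineOpen V) (hyV : y ∈ V) :
    ∃ r : Γ(S, V), IsUnit (S.evaluation V y hyV r) ∧
      ∀ s : Γ(X, f ⁻¹ᵁ V), ∃ a : Γ(S, V), f.app V a = f.app V r * s := by
  haveI : IsNoetherianRing Γ(S, V) := IsLocallyNoetherian.component_noetherian ⟨V, hV⟩
  haveI := Groth.L17.PushQCoh.hasInjectiveResolutions X
  haveI : IsLocallyNoetherian X := LocallyOfFiniteType.isLocallyNoetherian f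
  haveI : LocallyOfFinitePresentation f := inferInstance
  let F : X.Modules := Coh.structureModule X
  haveI : Coh.IsQCoh F := Groth.L19.Conormal.isQCoh_structureModule X
  have hlf : FlatMod.IsFinLocFree F :=
    Groth.L16.Existence.isFinLocFree_of_isInvertible (Groth.L18.Ample.isInvertible_structureModule X)
  have hfl := Groth.L29.DC.RelTor.isFlatOver_of_isFlat f (Groth.L29.DC.isFlat_of_isFinLocFree hlf)
  have hfp := Groth.L18.LFP.isFP_of_isFinLocFree F hlf
  obtain ⟨l⟩ := nonempty_glocal f hV F hfp hfl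
  obtain ⟨c, N, χ, hfin, hfree, -, hχ, hB⟩ := exists_quasiIso f hV F hfl l
  let L := CohIII.bcCx l.φ l.m.L
  haveI := hχ
  haveI : Subsingleton ((KF f hV c F).X ((0 : ℤ) - 1)) :=
    subsingleton_C (ρV f hV) (FV f (V := V) F) c.U (by norm_num)
  haveI : Coh.IsQCoh (F.restrict (f ⁻¹ᵁ V).ι) := Scheme.Modules.isQuasicoherent_restrictFunctor _ F
  -- the square over the residue field
  have hle' : (⊤ : (Spec (S.residueField y)).Opens) ≤ S.fromSpecResidueField y ⁻¹ᵁ V := fun z _ => by
    show S.fromSpecResidueField y z ∈ V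
    rw [Scheme.fromSpecResidueField_apply]
    exact hyV
  let f' := f.fiberToSpecResidueField y
  let g := f.fiberι y
  let q : Sq f (S.fromSpecResidueField y) f' g V ⊤ :=
    ⟨hV, isAffineOpen_top _, hle', IsPullback.of_hasPullback _ _⟩
  let B := Γ(Spec (S.residueField y), (⊤ : (Spec (S.residueField y)).Opens))
  letI : Algebra Γ(S, V) B := q.φ.hom.toAlgebra
  have halg : algebraMap Γ(S, V) B = q.φ.hom := rfl
  let εB : B ≃+* S.residueField y := (Scheme.ΓSpecIso (S.residueField y)).commRingCatIsoToRingEquiv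
  letI : Field B := (εB.toMulEquiv.isField (Field.toIsField (S.residueField y))).toField
  have hφ : ∀ a, algebraMap Γ(S, V) B a = εB.symm (S.evaluation V y hyV a) := fun a =>
    congr($(fromSpecResidueField_app_top y hyV hle') a)
  let F' := (Scheme.Modules.pullback g).obj F
  haveI : IsSeparated (f.fiberToSpecResidueField y) := MorphismProperty.of_isPullback q.pb inferInstance
  haveI : QuasiCompact (f.fiberToSpecResidueField y) := MorphismProperty.of_isPullback q.pb inferInstance
  obtain ⟨e₀, he₀⟩ := q.exists_ΦE halg c F 0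
  obtain ⟨e₁, he₁⟩ := q.exists_ΦE halg c F (0 + 1)
  have hcomm : ∀ t, e₁ ((dF f hV c F 0 (0 + 1)).baseChange _ t) = dF _ q.hV' (q.cov c) F' 0 (0 + 1) (e₀ t) := by
    intro t
    induction t using TensorProduct.induction_on with
    | zero => simp only [map_zero]
    | add a b ha hb => simp only [map_add, ha, hb]
    | tmul b x => rw [LinearMap.baseChange_tmul, he₁, he₀, map_smul, ← q.Φ₀_dF halg]
  let one : Γ(F, f ⁻¹ᵁ V) := (1 : Γ(X, f ⁻¹ᵁ V))
  let x₁ : CF f hV c F 0 := fun a => rs F (image_le _ _) one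
  have hx₁ : Glues f hV c F one x₁ := fun a => rfl
  have hdx₁ : ((KF f hV c F).d 0 (0 + 1)).hom x₁ = 0 :=
    (K_d (ρV f hV) (FV f (V := V) F) c.U 0 x₁).trans (dL_glued f hV c F one x₁ hx₁)
  have hgen : ∀ w : B ⊗[Γ(S, V)] CF f hV c F 0, (dF f hV c F 0 (0 + 1)).baseChange B w = 0 →
      ∃ b : B, b • ((1 : B) ⊗ₜ[Γ(S, V)] x₁) = w := by
    intro w hw
    have h0 : dL (ρV _ q.hV') (FV _ (V := (⊤ : (Spec (S.residueField y)).Opens)) F') (q.cov c).U 0 (e₀ w) = 0 := by
      rw [← K_d]
      exact (hcomm w).symm.trans ((congrArg e₁ hw).trans (map_zero _))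
    obtain ⟨σ, hσ⟩ := exists_glues _ q.hV' (q.cov c) F' h0
    have hframe : IsFrame F (f ⁻¹ᵁ V) one := fun W h => by
      have : (fun a : Γ(X, W) => a • rs F h one) = fun a : Γ(X, W) => a := funext fun a =>
        (congrArg (fun c : Γ(X, W) => a * c) (map_one (X.presheaf.map (homOfLE h).op).hom)).trans (mul_one a)
      rw [this]
      exact Function.bijective_id
    obtain ⟨a, ha⟩ := (hframe.pullback g).exists_coeff q.preimage_le σ
    obtain ⟨b₀, hb₀⟩ := hy.2 (show Γ(f.fiber y, ⊤) from a)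
    let b : B := εB.symm b₀
    have hab : f'.app ⊤ b = a := hb₀
    refine ⟨b, e₀.injective ?_⟩
    have hsm := glues_smul f' q.hV' (q.cov c) F' b (q.glues_pull halg c hx₁)
    rw [hab, ha] at hsm
    rw [map_smul, he₀, one_smul]
    funext i
    exact (hsm i).symm.trans (hσ i)
  obtain ⟨z, hz, hzx, hz'⟩ := exists_generator (B := B) χ (hB _) x₁ hdx₁ hgen
  haveI := hfin
  haveI := hfree
  have hdd : ∀ v, (L.d 0 (0 + 1)).hom ((L.d (0 - 1) 0).hom v) = 0 := Transfer.dd_zero L _ _ _
  have hs : SplitAt (L.d 0 (0 + 1)).hom (PrimeSpectrum.comap (algebraMap Γ(S, V) B) ⊥) := by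
    refine splitAt_of_cycles_le _ fun w hw => ?_
    obtain ⟨b, u, rfl⟩ := hz' w hw
    refine ⟨b • ((1 : B) ⊗ₜ (⟨z, hz⟩ : LinearMap.ker (L.d 0 (0 + 1)).hom)) +
      (LinearMap.codRestrict _ (L.d (0 - 1) 0).hom hdd).baseChange B u, ?_⟩
    rw [map_add, map_smul, LinearMap.baseChange_tmul, ← LinearMap.comp_apply, ← LinearMap.baseChange_comp]
    rfl
  obtain ⟨r, hr, hr'⟩ := exists_smul_mem_span (L.d (0 - 1) 0).hom (L.d 0 (0 + 1)).hom hdd z hz hz' hs
  refine ⟨r, ?_, fun s => ?_⟩
  · rw [hφ] at hr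
    exact isUnit_iff_ne_zero.2 fun h => hr (by rw [h, map_zero])
  obtain ⟨x, hdx, hx⟩ := exists_cocycle f hV c F (show Γ(F, f ⁻¹ᵁ V) from s)
  obtain ⟨n, yn, hn, hnx⟩ := Transfer.exists_cycle χ 0 x ((K_d (ρV f hV) (FV f (V := V) F) c.U 0 x).trans hdx)
  rw [Subsingleton.elim yn 0, map_zero, add_zero] at hnx
  obtain ⟨a, v, hav⟩ := hr' n hn
  refine ⟨a, ?_⟩
  have h1 := congrArg (χ.f 0).hom hav
  rw [map_add, map_smul, map_smul, hnx, hzx, Transfer.comm', Subsingleton.elim ((χ.f (0 - 1)).hom v) 0,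
    map_zero, add_zero] at h1
  have h2 := glues_inj f hV c F (glues_smul f hV c F r hx) (t := f.app V a • one) fun i => by
    rw [show (r • x) i = (a • x₁) i from congrFun h1 i]
    exact glues_smul f hV c F a hx₁ i
  exact ((mul_one (f.app V a)).symm.trans h2.symm :)

/-- Near a fibre without nonconstant functions the functions of the source are those of the base. -/
theorem exists_isIso_app_near (y : S) (hy : Function.Bijective (algebraMap (S.residueField y) Γ(f.fiber y, ⊤))) :
    ∃ U : S.Opens, y ∈ U ∧ ∀ V : S.Opens, V ≤ U → IsIso (f.app V) := by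
  haveI : LocallyOfFinitePresentation f := inferInstance
  obtain ⟨_, ⟨W₀, hW₀, rfl⟩, hyW, -⟩ :=
    S.isBasis_affineOpens.exists_subset_of_mem_open (Set.mem_univ y) isOpen_univ
  obtain ⟨r, hr, hsurj⟩ := exists_scalar f y hy hW₀ hyW
  have hne : y ∈ Set.range f := by
    haveI : Nontrivial Γ(f.fiber y, ⊤) := hy.1.nontrivial
    obtain ⟨z⟩ : Nonempty (f.fiber y) := by
      by_contra h
      haveI := not_nonempty_iff.1 h
      exact not_subsingleton Γ(f.fiber y, ⊤) inferInstance
    have : f.fiberι y z ∈ Set.range (f.fiberι y) := ⟨z, rfl⟩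
    rw [Scheme.Hom.range_fiberι] at this
    exact ⟨_, this⟩
  let R : S.Opens := ⟨Set.range f, f.isOpenMap.isOpen_range⟩
  let U : S.Opens := S.basicOpen r ⊓ R
  have hyr : y ∈ S.basicOpen r := by
    rw [Scheme.mem_basicOpen _ _ _ hyW]
    exact (IsLocalRing.residue_ne_zero_iff_isUnit _).1 hr.ne_zero
  refine ⟨U, ⟨hyr, hne⟩, fun V hVU => ?_⟩
  have hinj : ∀ W : S.Opens, W ≤ R → Function.Injective (f.app W) := by
    intro W hW
    refine (injective_iff_map_eq_zero _).2 fun a ha => ?_
    refine TopCat.Presheaf.section_ext S.sheaf W a 0 fun y' hy' => ?_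
    obtain ⟨x, rfl⟩ := hW hy'
    letI := (f.stalkMap x).hom.toAlgebra
    haveI : Module.Flat (S.presheaf.stalk (f x)) (X.presheaf.stalk x) := Flat.stalkMap f x
    haveI : IsLocalHom (algebraMap (S.presheaf.stalk (f x)) (X.presheaf.stalk x)) :=
      inferInstanceAs (IsLocalHom (f.stalkMap x).hom)
    haveI : Module.FaithfullyFlat (S.presheaf.stalk (f x)) (X.presheaf.stalk x) :=
      Module.FaithfullyFlat.of_flat_of_isLocalHom
    apply FaithfulSMul.algebraMap_injective (S.presheaf.stalk (f x)) (X.presheaf.stalk x)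
    show f.stalkMap x (S.presheaf.germ W (f x) hy' a) = f.stalkMap x (S.presheaf.germ W (f x) hy' 0)
    rw [map_zero, map_zero, Scheme.Hom.germ_stalkMap_apply, ha, map_zero]
  rw [ConcreteCategory.isIso_iff_bijective]
  refine ⟨hinj V (hVU.trans inf_le_right), fun t => ?_⟩
  have hloc : ∀ y' : V, ∃ (D : S.Opens) (hD : D ≤ V) (a : Γ(S, D)), y'.1 ∈ D ∧
      f.app D a = X.presheaf.map (homOfLE (f.preimage_mono hD)).op t := by
    rintro ⟨y', hy'⟩
    obtain ⟨g, hgV, hy'g⟩ := hW₀.exists_basicOpen_le (V := V ⊓ S.basicOpen r) ⟨y', hy', (hVU hy').1⟩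
      (S.basicOpen_le r (hVU hy').1)
    let D := S.basicOpen g
    have hDV : D ≤ V := hgV.trans inf_le_left
    have hDW : D ≤ W₀ := S.basicOpen_le g
    have e : f ⁻¹ᵁ D = X.basicOpen (f.app W₀ g) := Scheme.preimage_basicOpen f g
    haveI := isLocalization_basicOpen_of_qcqs (X := X) (U := f ⁻¹ᵁ W₀)
      (f.isCompact_preimage hW₀.isCompact)
      (f.isQuasiSeparated_preimage hW₀.isQuasiSeparated) (f.app W₀ g)
    obtain ⟨⟨s, ⟨_, k, rfl⟩⟩, hs⟩ := IsLocalization.surj (Submonoid.powers (f.app W₀ g))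
      (X.presheaf.map (homOfLE (e.ge.trans (f.preimage_mono hDV))).op t)
    obtain ⟨a, ha⟩ := hsurj s
    have hru : IsUnit (S.presheaf.map (homOfLE hDW).op (r * g ^ k)) := by
      rw [map_mul, map_pow]
      refine IsUnit.mul ?_ (IsUnit.pow k (RingedSpace.isUnit_res_basicOpen S.toLocallyRingedSpace.toRingedSpace g))
      have h1 : IsUnit (S.presheaf.map (homOfLE (S.basicOpen_le r)).op r) :=
        RingedSpace.isUnit_res_basicOpen S.toLocallyRingedSpace.toRingedSpace r
      have := h1.map (S.presheaf.map (homOfLE (hgV.trans inf_le_right : D ≤ S.basicOpen r)).op).hom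
      rw [← CommRingCat.comp_apply, ← Functor.map_comp] at this
      exact this
    refine ⟨D, hDV, ↑hru.unit⁻¹ * S.presheaf.map (homOfLE hDW).op a, hy'g, ?_⟩
    refine (hru.map (f.app D).hom).mul_left_cancel ?_
    show f.app D _ * f.app D _ = f.app D _ * _
    rw [← map_mul, ← mul_assoc, IsUnit.mul_val_inv, one_mul]
    have hres : ∀ c : Γ(S, W₀), f.app D (S.presheaf.map (homOfLE hDW).op c) =
        X.presheaf.map (homOfLE (f.preimage_mono hDW)).op (f.app W₀ c) := fun c =>
      congr($(f.naturality (homOfLE hDW).op) c)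
    have hs' := congrArg (X.presheaf.map (homOfLE e.le).op) hs
    rw [RingHom.algebraMap_toAlgebra, map_mul] at hs'
    simp only [← CommRingCat.comp_apply, ← Functor.map_comp] at hs'
    rw [hres, hres, ha, map_mul, map_mul, map_mul, mul_assoc]
    refine congrArg (_ * ·) ?_
    rw [map_pow, mul_comm]
    exact hs'.symm
  choose D hD a hmem ha using hloc
  have hcov : V ≤ ⨆ i, D i := fun y' hy' => Opens.mem_iSup.2 ⟨⟨y', hy'⟩, hmem ⟨y', hy'⟩⟩
  obtain ⟨s, hs, -⟩ := S.sheaf.existsUnique_gluing' D V (fun i => homOfLE (hD i)) hcov a fun i j => by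
    apply hinj _ (inf_le_left.trans ((hD i).trans (hVU.trans inf_le_right)))
    have h1 := congr($(f.naturality (homOfLE (inf_le_left : D i ⊓ D j ≤ D i)).op) (a i))
    have h2 := congr($(f.naturality (homOfLE (inf_le_right : D i ⊓ D j ≤ D j)).op) (a j))
    refine h1.trans (Eq.trans ?_ h2.symm)
    show X.presheaf.map _ (f.app (D i) (a i)) = X.presheaf.map _ (f.app (D j) (a j))
    rw [ha, ha, ← CommRingCat.comp_apply, ← CommRingCat.comp_apply, ← Functor.map_comp, ← Functor.map_comp]
    rfl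
  refine ⟨s, TopCat.Sheaf.eq_of_locally_eq' X.sheaf (fun i => f ⁻¹ᵁ D i) (f ⁻¹ᵁ V)
    (fun i => homOfLE (f.preimage_mono (hD i))) ?_ _ _ fun i => ?_⟩
  · intro x hx
    obtain ⟨i, hi⟩ := Opens.mem_iSup.1 (hcov hx)
    exact Opens.mem_iSup.2 ⟨i, hi⟩
  · show X.presheaf.map _ (f.app V s) = _
    rw [show X.presheaf.map (homOfLE (f.preimage_mono (hD i))).op (f.app V s) =
      f.app (D i) (S.presheaf.map (homOfLE (hD i)).op s) from (congr($(f.naturality (homOfLE (hD i)).op) s)).symm]
    exact (congrArg (f.app (D i)) (hs i)).trans (ha i)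

end Groth.L16.Rees.UnitNear
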