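import Groth.Agent.L16.Rees.FormalFunctions.Completion

/-!
# The theorem on formal functions
-/

set_option autoImplicit false
set_option linter.style.haveILetI false

universe u

open CategoryTheory CategoryTheory.Limits AlgebraicGeometry TopologicalSpace Opposite

noncomputable section

namespace Groth.L16.Rees

open Formal (modPow modPowπ toHHmodPow HHlim HHmodPow HHmodPowTrans toHHlim)
open Formal2 (modPowLE modPowπ_modPowLE)
open CohLinear (hmap hmap_comp hmap_id overLin)

variable {A : Type u} [CommRing A] (I : Ideal A) {X : Scheme.{u}} [X.Over (Spec (CommRingCat.of A))]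
  (F : X.Modules)

variable [IsNoetherianRing A] [IsProper (X ↘ Spec (CommRingCat.of A))]
variable {F}

theorem exists_preimage (hF : Coh.IsCoh F) (p : ℕ) (y : HHlim I F p) :
    ∀ n, ∃ z, toHHmodPow I F p n z = y.1 n := by
  obtain ⟨d, hd⟩ := exists_range_eq I hF p
  intro n
  obtain ⟨z, hz⟩ := hd n (n + d) (Nat.le_add_right n d) le_rfl (y.1 (n + d))
  exact ⟨z, hz.trans (HHlim_compat I F y (Nat.le_add_right n d))⟩

theorem ofCompletion_bijective (hF : Coh.IsCoh F) (p : ℕ) : Function.Bijective (ofCompletion I F p) := by
  obtain ⟨c, hc⟩ := exists_ker_le I hF p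
  refine ⟨(injective_iff_map_eq_zero _).2 fun x hx => ?_, fun y => ?_⟩
  · ext n
    obtain ⟨z, hz⟩ := Submodule.Quotient.mk_surjective _ (x.val (n + c + 1))
    have h0 : toHHmodPow I F p (n + c) z = 0 := by
      rw [← toQuot_mk, hz]
      exact congrFun (congrArg Subtype.val hx) (n + c)
    have h1 := hc (n + c) (Nat.le_add_left c n) z h0
    rw [Nat.add_sub_cancel] at h1
    rw [← x.2 (show n ≤ n + c + 1 by omega), ← hz]
    exact (Submodule.Quotient.mk_eq_zero _).2 h1
  · choose z hz using exists_preimage I hF p y
    refine ⟨⟨fun n => Submodule.Quotient.mk (z (n + c)), fun {m n} h => ?_⟩, ?_⟩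
    · refine (Submodule.Quotient.eq _).2 ?_
      have h0 : toHHmodPow I F p (m + c) (z (n + c) - z (m + c)) = 0 := by
        rw [map_sub, hz, ← modPowLE_toHHmodPow I F p (Nat.add_le_add_right h c), hz, HHlim_compat I F y (Nat.add_le_add_right h c), sub_self]
      have h1 := hc (m + c) (Nat.le_add_left c m) _ h0
      rwa [Nat.add_sub_cancel] at h1
    · ext n
      show toHHmodPow I F p n (z (n + 1 + c)) = y.1 n
      rw [← modPowLE_toHHmodPow I F p (show n ≤ n + 1 + c by omega), hz, HHlim_compat I F y (show n ≤ n + 1 + c by omega)]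

/-- The completion of cohomology is the limit of cohomology. -/
def completionEquiv (hF : Coh.IsCoh F) (p : ℕ) : AdicCompletion I (Coh.HH X F p) ≃+ HHlim I F p :=
  AddEquiv.ofBijective _ (ofCompletion_bijective I hF p)

/-- A finite module over a complete Noetherian ring is complete. -/
theorem isAdicComplete_of_finite [IsAdicComplete I A] (M : Type u) [AddCommGroup M] [Module A M]
    [Module.Finite A M] : IsAdicComplete I M where
  toIsHausdorff := IsHausdorff.of_le_jacobson I M (IsAdicComplete.le_jacobson_bot I)
  toIsPrecomplete := by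
    rw [← AdicCompletion.of_surjective_iff]
    intro x
    obtain ⟨t, rfl⟩ := AdicCompletion.ofTensorProduct_surjective_of_finite I M x
    induction t using TensorProduct.induction_on with
    | zero => exact ⟨0, by rw [map_zero, map_zero]⟩
    | tmul r m =>
      obtain ⟨a, rfl⟩ := AdicCompletion.of_surjective I A r
      refine ⟨a • m, ?_⟩
      rw [AdicCompletion.ofTensorProduct_tmul, map_smul]
      ext n
      simp [AdicCompletion.smul_eval]
      rfl
    | add s t hs ht =>
      obtain ⟨u, hu⟩ := hs
      obtain ⟨v, hv⟩ := ht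
      exact ⟨u + v, by rw [map_add, map_add, hu, hv]⟩

/-- Formal functions over a complete base. -/
theorem toHHlim_bijective [IsAdicComplete I A] (hF : Coh.IsCoh F) (p : ℕ) :
    Function.Bijective (toHHlim I F p) := by
  haveI : Module.Finite A (Coh.HH X F p) := ProperFinite.finite_HH A hF p
  haveI := isAdicComplete_of_finite I (Coh.HH X F p)
  exact (ofCompletion_bijective I hF p).comp (AdicCompletion.of_bijective I (Coh.HH X F p))

end Groth.L16.Rees
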