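import Groth.Agent.L18.RelAmpleCrit
import Groth.Agent.L16.Existence.Twist
import Groth.Agent.L16.Exist.AdicGen
import Groth.Agent.L00.KFlatStalk
import Groth.Agent.L17.BC.Cochains

/-!
# Ampleness from the vanishing of the first cohomology of twisted ideals
-/

set_option autoImplicit false
set_option linter.style.haveILetI false
set_option linter.unusedSectionVars false
set_option backward.isDefEq.respectTransparency false

universe u

open CategoryTheory CategoryTheory.Limits AlgebraicGeometry TopologicalSpace Opposite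

noncomputable section

namespace Groth.L16.Rees.SerreCrit

open Groth.L18.Frame (rs ro rs_rs rs_self rs_smul ro_ro IsFrame)
open Groth.L18.GenLoc
open Groth.L18.Ample
open Groth.L18.IdealModule

variable {X : Scheme.{u}}

/-- Tensoring the inclusion of an ideal with an invertible module stays mono. -/
theorem mono_idealMap (I : X.IdealSheafData) {M : X.Modules} (hM : PicF.IsInvertible M) :
    Mono (idealMap I M) := by
  haveI : Mono (ClSub.idealModι I) := inferInstanceAs (Mono (kernel.ι _))
  haveI := Groth.L17.ChangeRings.preservesMono_tensorLeftF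
    (Groth.L29.DC.isFlat_of_isFinLocFree (Groth.L16.Existence.isFinLocFree_of_isInvertible hM))
  haveI : Mono (Groth.L00.Tensor.tensorMap (𝟙 M) (ClSub.idealModι I)) :=
    inferInstanceAs (Mono ((Groth.L00.Tensor.tensorLeftF M).map (ClSub.idealModι I)))
  have h := Groth.L00.Stk.tensorComm_natural (ClSub.idealModι I) (𝟙 M)
  haveI : Mono (idealMap I M ≫ (Groth.L00.Tensor.tensorComm (Coh.structureModule X) M).hom) := by
    unfold idealMap
    rw [h]
    infer_instance
  exact mono_of_mono (idealMap I M) (Groth.L00.Tensor.tensorComm (Coh.structureModule X) M).hom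

/-- Away from the support the inclusion is locally surjective on sections. -/
theorem exists_preimage_away (I : X.IdealSheafData) {M : X.Modules} (hM : PicF.IsInvertible M) {y : X}
    (hy : y ∉ I.support) :
    ∃ U : X.Opens, y ∈ U ∧ ∀ V ≤ U, Function.Surjective ((idealMap I M).app V) := by
  obtain ⟨W, ε, hyW, hε⟩ := Groth.L18.Frame.exists_frame hM y
  obtain ⟨_, ⟨V, hV, rfl⟩, hyV, -⟩ := X.isBasis_affineOpens.exists_subset_of_mem_open hyW W.2
  rw [I.mem_support_iff_of_mem (U := ⟨V, hV⟩) hyV, Scheme.mem_zeroLocus_iff] at hy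
  push Not at hy
  obtain ⟨b, hb, hyb⟩ := hy
  obtain ⟨m, hm⟩ := (mem_ideal_iff I hV b).1 hb
  let U := X.basicOpen b ⊓ W
  let one : Γ(Coh.structureModule X, U) := (1 : Γ(X, U))
  have hone : IsFrame (Coh.structureModule X) U one := fun V' h => by
    have : (fun a : Γ(X, V') => a • rs (Coh.structureModule X) h one) = fun a : Γ(X, V') => a * 1 := by
      funext a
      show a * X.presheaf.map (homOfLE h).op (1 : Γ(X, U)) = a * 1
      rw [map_one]
    rw [this]
    simp only [mul_one]
    exact Function.bijective_id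
  have hle : U ≤ V := inf_le_left.trans (X.basicOpen_le b)
  have hu : IsUnit (ro hle b) := by
    have h1 : IsUnit (ro (X.basicOpen_le b) b) := RingedSpace.isUnit_res_basicOpen _ b
    have h2 := h1.map (X.presheaf.map (homOfLE (inf_le_left : U ≤ X.basicOpen b)).op).hom
    have e : ro (inf_le_left : U ≤ X.basicOpen b) (ro (X.basicOpen_le b) b) = ro hle b := ro_ro _ _ _
    rwa [← e]
  have hF' := (isFrame_tens hone (hε.mono (inf_le_right : U ≤ W))).smul_unit hu
  have e1 : (idealMap I M).app U (tens _ M U (rs _ hle m) (rs M inf_le_right ε)) =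
      ro hle b • tens _ M U one (rs M inf_le_right ε) := by
    rw [idealMap, tensorMap_tens, ← tens_smul_left]
    congr 1
    rw [hom_app_rs]
    show (show Γ(X, U) from ro hle ((ClSub.idealModι I).app V m)) = ro hle b * 1
    rw [mul_one]
    exact congrArg (ro hle) hm
  refine ⟨U, ⟨hyb, hyW⟩, fun V' hV' n => ?_⟩
  obtain ⟨a, ha⟩ := hF'.exists_coeff hV' n
  refine ⟨a • rs _ hV' (tens _ M U (rs _ hle m) (rs M inf_le_right ε)), ?_⟩
  rw [Scheme.Modules.Hom.app_smul, hom_app_rs, e1]
  exact ha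

/-- Serre's criterion of ampleness. -/
theorem isAmple_of_vanishing [CompactSpace X] {L : X.Modules} (hL : PicF.IsInvertible L)
    (h : ∀ (I : X.Modules) (i : I ⟶ Coh.structureModule X), Mono i → Coh.IsQCoh I →
      ∃ n : ℕ, Subsingleton (Coh.HH X (CohB1.tensorMod I (CohB1.tensorPow L (n + 1))) 1)) :
    CohB1.IsAmple L := by
  suffices key : ∀ x : X, IsClosed ({x} : Set X) → ∃ (n : ℕ) (s : Coh.structureModule X ⟶ CohB1.tensorPow L (n + 1)),
      x ∈ CohB1.genLocus _ s ∧ IsAffineOpen (CohB1.genLocus _ s) by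
    refine ⟨hL, inferInstance, fun y => ?_⟩
    obtain ⟨x, hx, hxc⟩ := IsClosed.exists_closed_singleton (isClosed_closure (s := ({y} : Set X)))
      ⟨y, subset_closure rfl⟩
    obtain ⟨n, s, hs, ha⟩ := key x hxc
    exact ⟨n, s, (specializes_iff_mem_closure.2 hx).mem_open (CohB1.genLocus _ s).2 hs, ha⟩
  intro x hxc
  obtain ⟨_, ⟨W, hW, rfl⟩, hxW, -⟩ :=
    X.isBasis_affineOpens.exists_subset_of_mem_open (Set.mem_univ x) isOpen_univ
  replace hW : IsAffineOpen W := hW
  let Z : Closeds X := ⟨(W : Set X)ᶜ ∪ {x}, W.2.isClosed_compl.union hxc⟩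
  let I := Scheme.IdealSheafData.vanishingIdeal Z
  have hsupp : (I.support : Set X) = Z := Scheme.IdealSheafData.coe_support_vanishingIdeal Z
  haveI : Mono (ClSub.idealModι I) := inferInstanceAs (Mono (kernel.ι _))
  obtain ⟨n, hn⟩ := h (ClSub.idealMod I) (ClSub.idealModι I) inferInstance inferInstance
  set M := CohB1.tensorPow L (n + 1)
  have hM : PicF.IsInvertible M := isInvertible_tensorPow hL _
  let N := CohB1.tensorMod (Coh.structureModule X) M
  have hN : PicF.IsInvertible N := isInvertible_tensor (isInvertible_structureModule X) hM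
  let μ := idealMap I M
  haveI : Mono μ := mono_idealMap I hM
  let π := cokernel.π μ
  let T : ShortComplex X.Modules := ShortComplex.mk μ π (cokernel.condition μ)
  have hT : T.ShortExact := { exact := ShortComplex.exact_cokernel μ }
  let Q := cokernel μ
  -- the quotient vanishes away from the support
  have hQ : ∀ (V : X.Opens), (∀ y ∈ V, y ∉ I.support) → ∀ q : Γ(Q, V), q = 0 := by
    intro V hV q
    refine TopCat.Presheaf.section_ext ⟨Q.presheaf, Q.isSheaf⟩ V q 0 fun y hy => ?_
    haveI : Subsingleton (Q.presheaf.stalk y) := by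
      refine subsingleton_of_forall_eq 0 fun a => ?_
      obtain ⟨b, rfl⟩ := (Groth.L21.Mod.epi_iff_stalk_surjective π).1 inferInstance y a
      obtain ⟨U, hU, hsurj⟩ := exists_preimage_away I hM (hV y hy)
      obtain ⟨U', hU', c, rfl⟩ := TopCat.Presheaf.exists_germ_eq (F := N.presheaf) (x := y) b
      obtain ⟨d, hd⟩ := hsurj (U' ⊓ U) inf_le_right (rs N inf_le_left c)
      rw [← TopCat.Presheaf.germ_res_apply N.presheaf (homOfLE (inf_le_left : U' ⊓ U ≤ U')) y ⟨hU', hU⟩ c]
      erw [Groth.L21.Mod.stalkF_map_germ]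
      refine (congrArg (Q.presheaf.germ (U' ⊓ U) y ⟨hU', hU⟩) ?_).trans (map_zero _)
      show π.app _ (rs N inf_le_left c) = 0
      rw [← hd]
      exact congr($(congrArg (fun k => Scheme.Modules.Hom.app k (U' ⊓ U)) (cokernel.condition μ)) d)
    exact Subsingleton.elim _ _
  obtain ⟨W₀, e₀, hxW₀, he₀⟩ := Groth.L18.Frame.exists_frame hN x
  let W₁ := W₀ ⊓ W
  have hxW₁ : x ∈ W₁ := ⟨hxW₀, hxW⟩
  let e := rs N (inf_le_left : W₁ ≤ W₀) e₀
  have he : IsFrame N W₁ e := he₀.mono _
  let G : X.Opens := ⟨({x} : Set X)ᶜ, hxc.isOpen_compl⟩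
  have hov : ∀ y ∈ W₁ ⊓ G, y ∉ I.support := fun y hy hs => by
    rcases hsupp.le hs with h' | h'
    · exact h' hy.1.2
    · exact hy.2 h'
  let P : TopCat.Sheaf Ab X.toTopCat := ⟨Q.presheaf, Q.isSheaf⟩
  let Us : Bool → X.Opens := fun b => if b then W₁ else G
  obtain ⟨σ, hσ, -⟩ := P.existsUnique_gluing' Us ⊤ (fun b => homOfLE le_top) (fun y _ => by
      by_cases hy : y = x
      · exact Opens.mem_iSup.2 ⟨true, hy ▸ hxW₁⟩
      · exact Opens.mem_iSup.2 ⟨false, hy⟩)
    (fun b => match b with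
      | true => π.app W₁ e
      | false => (0 : Γ(Q, G)))
    (fun i j => by
      cases i <;> cases j
      · rfl
      · exact (hQ (G ⊓ W₁) (fun y hy => hov y ⟨hy.2, hy.1⟩) _).trans (hQ (G ⊓ W₁) (fun y hy => hov y ⟨hy.2, hy.1⟩) _).symm
      · exact (hQ (W₁ ⊓ G) hov _).trans (hQ (W₁ ⊓ G) hov _).symm
      · rfl)
  obtain ⟨s₀, hs₀⟩ := Groth.L16.Exist.Adic.surjective_app_top hT hn σ
  replace hs₀ : π.app ⊤ s₀ = σ := hs₀
  let s := Groth.L16.homOfSection N s₀
  have hlift : ∀ (V : X.Opens) (q : Γ(N, V)), π.app V q = 0 → ∃ t, μ.app V t = q := fun V q hq =>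
    (Groth.L17.BC.Cochains.exact_left hT.exact V).2 q hq
  have hxs : x ∈ CohB1.genLocus _ s := by
    obtain ⟨a, ha⟩ := he.exists_coeff le_rfl (rs N le_top s₀)
    rw [rs_self] at ha
    have hxa : x ∈ X.basicOpen a := by
      by_contra hxa
      obtain ⟨t, ht⟩ := hlift W₁ (rs N le_top s₀ - e) (by
        rw [map_sub, sub_eq_zero, hom_app_rs, hs₀]
        exact hσ true)
      have hxa' : x ∈ X.basicOpen (a - 1) := by
        rw [Scheme.mem_basicOpen _ _ _ hxW₁] at hxa ⊢
        rw [map_sub, map_one]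
        rcases IsLocalRing.isUnit_or_isUnit_of_isUnit_add (a := X.presheaf.germ W₁ x hxW₁ a)
          (b := 1 - X.presheaf.germ W₁ x hxW₁ a) (by rw [add_sub_cancel]; exact isUnit_one) with h1 | h1
        · exact absurd h1 hxa
        · rw [← neg_sub]; exact h1.neg
      have hu : IsUnit (ro (X.basicOpen_le (a - 1)) (a - 1)) := RingedSpace.isUnit_res_basicOpen _ _
      have hf := (he.mono (X.basicOpen_le (a - 1))).smul_unit hu
      rw [← rs_smul, sub_smul, one_smul, ha, ← ht] at hf
      exact genLocus_idealMap_le I hM t _ (X.basicOpen_le _) hf hxa' (hsupp.ge (Or.inr rfl))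
    have hg := genLocus_inf_eq s he (a := a) (by rw [ha, secOf_homOfSection])
    exact (hg.ge hxa).1
  have hle : CohB1.genLocus _ s ≤ W := by
    intro y hy
    by_contra hyW
    have hyx : y ≠ x := fun e => hyW (e ▸ hxW)
    let V := CohB1.genLocus _ s ⊓ G
    obtain ⟨t, ht⟩ := hlift V (rs N le_top s₀) (by
      rw [hom_app_rs, hs₀, ← rs_rs Q (le_top : G ≤ ⊤) (inf_le_right : V ≤ G)]
      rw [show rs Q (le_top : G ≤ ⊤) σ = (0 : Γ(Q, G)) from hσ false]
      exact map_zero _)
    have hfr := (isFrame_genLocus s).mono (inf_le_left : V ≤ _)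
    rw [secOf_homOfSection, rs_rs, ← ht, ← rs_self N le_rfl ((idealMap I M).app V t)] at hfr
    exact genLocus_idealMap_le I hM t V le_rfl hfr ⟨hy, hyx⟩ (hsupp.ge (Or.inl hyW))
  refine ⟨n, s ≫ (Groth.L00.Tensor.tensorUnitLeft M).hom, ?_⟩
  rw [Groth.L16.genLocus_comp_iso]
  exact ⟨hxs, isAffineOpen_genLocus_of_le hN s hW hle⟩

end Groth.L16.Rees.SerreCrit
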