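import Groth.Agent.L16.Existence.AmpleVanish
import Groth.Agent.L16.Rees.SerreCrit
import Groth.Agent.L17.BC.Fibre
import Groth.Agent.L21.Mod.Stalks

/-!
# Higher direct images of twists by relatively ample modules
-/

set_option autoImplicit false
set_option linter.style.haveILetI false
set_option linter.unusedSectionVars false
set_option backward.isDefEq.respectTransparency false

universe u

open CategoryTheory CategoryTheory.Limits AlgebraicGeometry TopologicalSpace Opposite

noncomputable section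

namespace Groth.L16.Rees.RelVanish

open Groth.L17.BC (fV FV)

variable {X Y : Scheme.{u}}

/-- Quasi-coherent submodules of coherent modules are coherent. -/
theorem isCoh_of_mono [IsLocallyNoetherian X] {I M : X.Modules} (i : I ⟶ M) [Mono i] [Coh.IsQCoh I]
    (hM : Coh.IsCoh M) : Coh.IsCoh I := by
  refine CohClosedPush.isCoh_of_finite_sections I fun x => ?_
  obtain ⟨_, ⟨V, hV, rfl⟩, hxV, -⟩ := X.isBasis_affineOpens.exists_subset_of_mem_open (Set.mem_univ x) isOpen_univ
  haveI : IsNoetherianRing Γ(X, V) := IsLocallyNoetherian.component_noetherian ⟨V, hV⟩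
  haveI : Module.Finite Γ(X, V) Γ(M, V) := Groth.L20.ModStalk.finite_sections M hM hV
  let l : Γ(I, V) →ₗ[Γ(X, V)] Γ(M, V) :=
    { toFun := fun m => i.app V m
      map_add' := fun a b => map_add _ a b
      map_smul' := fun r m => Scheme.Modules.Hom.app_smul i r m }
  have hl : Function.Injective l :=
    (Groth.L17.BC.Cochains.exact_left (ShortComplex.exact_cokernel i) V).1
  exact ⟨V, hxV, hV, Module.Finite.of_injective l hl⟩

theorem isCoh_structureModule (X : Scheme.{u}) [IsLocallyNoetherian X] : Coh.IsCoh (Coh.structureModule X) :=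
  ProperFinite.isCoh_of_isInvertible (Groth.L18.Ample.isInvertible_structureModule X)

/-- Serre vanishing, with the twist on the right. -/
theorem exists_vanishing {A : Type u} [CommRing A] [IsNoetherianRing A] {X : Scheme.{u}}
    (g : X ⟶ Spec (CommRingCat.of A)) [IsProper g] {L : X.Modules} (hL : CohB1.IsAmple L) {M : X.Modules}
    (hM : Coh.IsCoh M) :
    ∃ d₀ : ℕ, ∀ d : ℕ, d₀ ≤ d → ∀ q : ℕ, 0 < q →
      Subsingleton (Coh.HH X (CohB1.tensorMod M (CohB1.tensorPow L d)) q) := by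
  letI : X.Over (Spec (CommRingCat.of A)) := ⟨g⟩
  haveI : IsProper (X ↘ Spec (CommRingCat.of A)) := inferInstanceAs (IsProper g)
  obtain ⟨d₀, h⟩ := Existence.exists_vanishing_of_isAmple (A := A) hL hM
  exact ⟨d₀, fun d hd q hq => ProjSpace.subsingleton_of_iso (Groth.L00.Tensor.tensorComm _ _) q (h d hd q hq)⟩

/-- Restriction commutes with twisting. -/
def twistRestrictIso {U : X.Opens} (M L : X.Modules) (n : ℕ) :
    (CohB1.tensorMod M (CohB1.tensorPow L n)).restrict U.ι ≅
      CohB1.tensorMod (M.restrict U.ι) (CohB1.tensorPow (L.restrict U.ι) n) :=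
  let r := fun K : X.Modules => (Scheme.Modules.restrictFunctorIsoPullback U.ι).app K
  r _ ≪≫ (Groth.L29.DC.PullTensor.pullTensor U.ι M (CohB1.tensorPow L n)).symm ≪≫
    Groth.L00.Tensor.tensorIso (r M).symm
      (Groth.L18.Ample.pullPow U.ι L n ≪≫ Groth.L00.Tensor.tensorPowIso (r L).symm n)

variable (f : X ⟶ Y) [QuasiCompact f] [QuasiSeparated f] [HasInjectiveResolutions X.Modules]
  (N : X.Modules) [Coh.IsQCoh N] (p : ℕ) {W : Y.Opens} (hW : IsAffineOpen W)

include hW in
theorem exists_chart : ∃ P : (Spec Γ(Y, W)).Modules, Coh.IsQCoh P ∧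
    Nonempty (((Coh.Rpush f p).obj N).restrict hW.fromSpec ≅ P) ∧
    Nonempty (Coh.HH (↑(f ⁻¹ᵁ W) : Scheme.{u}) (FV f (V := W) N) p ≃ ↑((moduleSpecΓFunctor (R := Γ(Y, W))).obj P)) := by
  haveI := Groth.L17.PushQCoh.hasInjectiveResolutions (f ⁻¹ᵁ W : Scheme.{u})
  haveI : QuasiCompact (fV f hW) := inferInstanceAs (QuasiCompact ((f ∣_ W) ≫ hW.isoSpec.hom))
  haveI : QuasiSeparated (fV f hW) := inferInstanceAs (QuasiSeparated ((f ∣_ W) ≫ hW.isoSpec.hom))
  haveI : Coh.IsQCoh (FV f (V := W) N) := Scheme.Modules.isQuasicoherent_restrictFunctor _ N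
  obtain ⟨i⟩ := Groth.L17.PushQCoh.nonempty_Rpush_restrict_iso f hW.fromSpec (f ⁻¹ᵁ W).ι (fV f hW)
    (by rw [hW.opensRange_fromSpec, Scheme.Opens.opensRange_ι]) (Groth.L17.BC.fV_fromSpec f hW) N p
  obtain ⟨e⟩ := Groth.L17.ProperCoh.nonempty_Γ_Rpush_equiv (fV f hW) (FV f (V := W) N) p
  exact ⟨_, Groth.L17.PushQCoh.isQCoh_Rpush _ _ p, ⟨i⟩, ⟨e.toEquiv⟩⟩

include hW in
/-- Vanishing of cohomology over an affine open empties the support of the higher direct image there. -/
theorem notMem_support (h : Subsingleton (Coh.HH (↑(f ⁻¹ᵁ W) : Scheme.{u}) (FV f (V := W) N) p))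
    {y : Y} (hy : y ∈ W) : y ∉ CohB1.support ((Coh.Rpush f p).obj N) := by
  obtain ⟨P, hP, ⟨i⟩, ⟨e⟩⟩ := exists_chart f N p hW
  haveI := hP
  haveI : Subsingleton ↑((moduleSpecΓFunctor (R := Γ(Y, W))).obj P) := e.symm.subsingleton
  have h0 : IsZero P := ((tilde.functor Γ(Y, W)).map_isZero (ModuleCat.isZero_of_subsingleton _)).of_iso
    (Groth.L18.TildeF.counitIso P).symm
  have h1 := h0.of_iso i
  rw [Groth.L21.Mod.isZero_iff_support_eq_empty, Groth.L21.Mod.support_restrict] at h1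
  intro hs
  obtain ⟨q, rfl⟩ : y ∈ Set.range hW.fromSpec := by rw [hW.range_fromSpec]; exact hy
  exact Set.eq_empty_iff_forall_notMem.1 h1 q hs

include hW in
/-- A vanishing higher direct image has no cohomology over affine opens. -/
theorem subsingleton_of_isZero (h : IsZero ((Coh.Rpush f p).obj N)) :
    Subsingleton (Coh.HH (↑(f ⁻¹ᵁ W) : Scheme.{u}) (FV f (V := W) N) p) := by
  obtain ⟨P, -, ⟨i⟩, ⟨e⟩⟩ := exists_chart f N p hW
  have h0 : IsZero P := ((Scheme.Modules.restrictFunctor hW.fromSpec).map_isZero h).of_iso i.symm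
  haveI : Subsingleton ↑((moduleSpecΓFunctor (R := Γ(Y, W))).obj P) :=
    ModuleCat.subsingleton_of_isZero ((moduleSpecΓFunctor (R := Γ(Y, W))).map_isZero h0)
  exact e.subsingleton

omit [QuasiCompact f] [QuasiSeparated f] [Coh.IsQCoh N] in
/-- Twists by a relatively ample module kill higher direct images. -/
theorem exists_isZero_of_relAmple [IsProper f] [IsNoetherian Y] (L : X.Modules) (hL : PicF.IsInvertible L)
    (ha : ∀ W : Y.Opens, IsAffineOpen W → CohB1.IsAmple (L.restrict (f ⁻¹ᵁ W).ι))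
    (M : X.Modules) (hM : Coh.IsCoh M) :
    ∃ n₀ : ℕ, ∀ n : ℕ, n₀ ≤ n → ∀ q : ℕ, 0 < q →
      IsZero ((Coh.Rpush f q).obj (CohB1.tensorMod M (CohB1.tensorPow L n))) := by
  classical
  haveI : IsLocallyNoetherian X := LocallyOfFiniteType.isLocallyNoetherian f
  obtain ⟨s, hs⟩ := isCompact_univ.elim_finite_subcover (fun V : Y.affineOpens => (V.1 : Set Y))
    (fun V => V.1.2) fun x _ => by
      obtain ⟨_, ⟨V, hV, rfl⟩, hxV, -⟩ :=
        Y.isBasis_affineOpens.exists_subset_of_mem_open (Set.mem_univ x) isOpen_univ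
      exact Set.mem_iUnion.2 ⟨⟨V, hV⟩, hxV⟩
  have h1 : ∀ V : Y.affineOpens, ∃ n₀ : ℕ, ∀ n : ℕ, n₀ ≤ n → ∀ q : ℕ, 0 < q →
      Subsingleton (Coh.HH (↑(f ⁻¹ᵁ V.1) : Scheme.{u}) (CohB1.tensorMod (M.restrict (f ⁻¹ᵁ V.1).ι)
        (CohB1.tensorPow (L.restrict (f ⁻¹ᵁ V.1).ι) n)) q) := fun V => by
    haveI : IsNoetherianRing Γ(Y, V.1) := IsLocallyNoetherian.component_noetherian V
    exact exists_vanishing (A := Γ(Y, V.1)) (fV f V.2) (ha V.1 V.2) (Groth.L17.BC.isCoh_FV f hM)
  choose n₀ hn₀ using h1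
  refine ⟨s.sup n₀, fun n hn q hq => ?_⟩
  rw [Groth.L21.Mod.isZero_iff_support_eq_empty]
  refine Set.eq_empty_of_forall_notMem fun y => ?_
  obtain ⟨V, hVs, hyV⟩ := Set.mem_iUnion₂.1 (hs (Set.mem_univ y))
  have hc : Coh.IsCoh (CohB1.tensorMod M (CohB1.tensorPow L n)) :=
    have hP := ProperFinite.isCoh_of_isInvertible (Groth.L18.Ample.isInvertible_tensorPow hL n)
    haveI : Coh.IsQCoh M := hM.1
    haveI : Coh.IsQCoh (CohB1.tensorPow L n) := hP.1
    ⟨Groth.L00.Tensor.isQCoh_tensorMod _ _, Groth.L00.Tensor.isFT_tensorMod _ _ hM.2 hP.2⟩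
  haveI := hc.1
  exact notMem_support f _ q V.2 (ProjSpace.subsingleton_of_iso (twistRestrictIso M L n) q
    (hn₀ V n ((Finset.le_sup hVs).trans hn) q hq)) hyV

/-- A submodule of the structure module of an open extends. -/
theorem exists_extension {U : X.Opens} [QuasiCompact U.ι] (I : U.toScheme.Modules)
    (i : I ⟶ Coh.structureModule U.toScheme) [Mono i] [Coh.IsQCoh I] :
    ∃ (J : X.Modules) (j : J ⟶ Coh.structureModule X), Mono j ∧ Coh.IsQCoh J ∧ Nonempty (J.restrict U.ι ≅ I) := by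
  haveI : Coh.IsQCoh (Coh.structureModule X) := Groth.L21.Extend.isQCoh_of_isInvertible
    (Groth.L18.Ample.isInvertible_structureModule X)
  haveI : Coh.IsQCoh (Coh.structureModule U.toScheme) := Groth.L21.Extend.isQCoh_of_isInvertible
    (Groth.L18.Ample.isInvertible_structureModule _)
  haveI : Coh.IsQCoh (cokernel i) := Groth.L16.Devissage.isQCoh_cokernel i
  haveI : Coh.IsQCoh ((Coh.push U.ι).obj (cokernel i)) := QcqsPush.isQCoh_push (cokernel i) U.ι
  let R := Scheme.Modules.restrictFunctor U.ι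
  let adj := Scheme.Modules.restrictAdjunction U.ι
  let u : R.obj (Coh.structureModule X) ≅ Coh.structureModule U.toScheme :=
    (Scheme.Modules.restrictFunctorIsoPullback U.ι).app _ ≪≫ Groth.L29.LocFree.pullbackUnitIso U.ι
  let φ : Coh.structureModule X ⟶ (Coh.push U.ι).obj (cokernel i) :=
    adj.homEquiv _ _ (u.hom ≫ cokernel.π i)
  refine ⟨kernel φ, kernel.ι φ, inferInstance, Groth.L18.IdealModule.isQCoh_kernel φ, ⟨?_⟩⟩
  haveI : PreservesLimit (parallelPair φ 0) R := inferInstance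
  haveI : IsIso (adj.counit.app (cokernel i)) := inferInstance
  have hc : R.map φ ≫ adj.counit.app (cokernel i) = u.hom ≫ cokernel.π i :=
    (adj.homEquiv_counit _ _ _).symm.trans ((adj.homEquiv _ _).symm_apply_apply _)
  refine PreservesKernel.iso R φ ≪≫ kernel.mapIso (R.map φ) (cokernel.π i) u (asIso (adj.counit.app (cokernel i))) hc ≪≫ ?_
  exact (Abelian.monoIsKernelOfCokernel (CokernelCofork.ofπ _ (cokernel.condition i))
    (cokernelIsCokernel i)).conePointUniqueUpToIso (kernelIsKernel (cokernel.π i)) |>.symm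

omit [QuasiCompact f] [QuasiSeparated f] [Coh.IsQCoh N] in
/-- Relative ampleness from the vanishing of the first higher direct images of twisted ideals. -/
theorem isRelAmple_of_vanishing [IsProper f] [IsNoetherian Y] (L : X.Modules) (hL : PicF.IsInvertible L)
    (h : ∀ (J : X.Modules) (ι : J ⟶ Coh.structureModule X), Mono ι → Coh.IsCoh J →
      ∃ n : ℕ, IsZero ((Coh.Rpush f 1).obj (CohB1.tensorMod J (CohB1.tensorPow L (n + 1))))) :
    RelAmple.IsRelAmple f L := by
  haveI : IsLocallyNoetherian X := LocallyOfFiniteType.isLocallyNoetherian f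
  refine ⟨inferInstance, fun V => ?_⟩
  haveI : CompactSpace (↑(f ⁻¹ᵁ V.1) : Scheme.{u}) :=
    isCompact_iff_compactSpace.1 (f.isCompact_preimage V.2.isCompact)
  haveI : QuasiCompact (f ⁻¹ᵁ V.1).ι := inferInstance
  refine SerreCrit.isAmple_of_vanishing (Groth.L18.Ample.isInvertible_restrict hL _) fun I i hi hI => ?_
  haveI := hi
  haveI := hI
  obtain ⟨J, j, hj, hJ, ⟨e⟩⟩ := exists_extension I i
  haveI := hj
  haveI := hJ
  have hJc : Coh.IsCoh J := isCoh_of_mono j (isCoh_structureModule X)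
  obtain ⟨n, hn⟩ := h J j hj hJc
  have hc : Coh.IsCoh (CohB1.tensorMod J (CohB1.tensorPow L (n + 1))) :=
    have hP := ProperFinite.isCoh_of_isInvertible (Groth.L18.Ample.isInvertible_tensorPow hL (n + 1))
    haveI : Coh.IsQCoh (CohB1.tensorPow L (n + 1)) := hP.1
    ⟨Groth.L00.Tensor.isQCoh_tensorMod _ _, Groth.L00.Tensor.isFT_tensorMod _ _ hJc.2 hP.2⟩
  haveI := hc.1
  refine ⟨n, ProjSpace.subsingleton_of_iso
    (twistRestrictIso J L (n + 1) ≪≫ Groth.L00.Tensor.tensorIso e (Iso.refl _)).symm 1 ?_⟩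
  exact subsingleton_of_isZero f _ 1 V.2 hn

end Groth.L16.Rees.RelVanish
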