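import Groth.Agent.L18.FiberStalk
import Groth.Agent.L20.UnivInj
import Groth.Agent.L16.CohKernel
import Groth.Agent.L16.CohSupport
import Groth.Agent.L20.ModStalk
import Groth.Agent.L00.PullStalk
import Groth.Agent.L21.Mod.Stalks
import Groth.Prelude.Def_FlatMod2
import Mathlib.RingTheory.Nakayama
import Mathlib.LinearAlgebra.TensorProduct.RightExactness

/-!
Monomorphisms and epimorphisms of coherent modules, tested on a fibre.
-/

set_option autoImplicit false
set_option linter.style.haveILetI false
set_option linter.unusedSectionVars false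
set_option backward.isDefEq.respectTransparency false

universe u

open CategoryTheory CategoryTheory.Limits AlgebraicGeometry TopologicalSpace Opposite
open scoped TensorProduct

noncomputable section

namespace Groth.L16.Rees.FibreMonoEpi

section Alg

variable {S S' : Type u} [CommRing S] [CommRing S'] [Algebra S S'] (M : Type u) [AddCommGroup M] [Module S M]

theorem one_tmul_eq_zero_iff (hs : Function.Surjective (algebraMap S S')) (a : M) :
    ((1 : S') ⊗ₜ[S] a = 0) ↔ a ∈ RingHom.ker (algebraMap S S') • (⊤ : Submodule S M) := by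
  have hfg : Function.Exact (RingHom.ker (algebraMap S S')).subtype (Algebra.linearMap S S') := fun c =>
    ⟨fun hc => ⟨⟨c, hc⟩, rfl⟩, fun ⟨d, hd⟩ => hd ▸ d.2⟩
  have h := rTensor_exact M hfg hs
  constructor
  · intro h0
    obtain ⟨t, ht⟩ := (h ((1 : S) ⊗ₜ a)).1 (by rw [LinearMap.rTensor_tmul, Algebra.linearMap_apply, map_one, h0])
    have hmem : ∀ t, TensorProduct.lid S M ((RingHom.ker (algebraMap S S')).subtype.rTensor M t) ∈
        RingHom.ker (algebraMap S S') • (⊤ : Submodule S M) := fun t => by
      induction t using TensorProduct.induction_on with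
      | zero => rw [map_zero, map_zero]; exact Submodule.zero_mem _
      | tmul r m =>
        rw [LinearMap.rTensor_tmul, TensorProduct.lid_tmul]
        exact Submodule.smul_mem_smul r.2 trivial
      | add x y hx hy => rw [map_add, map_add]; exact Submodule.add_mem _ hx hy
    have := hmem t
    rwa [ht, TensorProduct.lid_tmul, one_smul] at this
  · intro ha
    refine Submodule.smul_induction_on (p := fun x => (1 : S') ⊗ₜ[S] x = 0) ha (fun r hr m _ => ?_)
      (fun x y hx hy => by rw [TensorProduct.tmul_add, hx, hy, add_zero])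
    rw [TensorProduct.tmul_smul, TensorProduct.smul_tmul', Algebra.smul_def, mul_one,
      RingHom.mem_ker.1 hr, TensorProduct.zero_tmul]

/-- Nakayama along a surjection. -/
theorem surjective_of_baseChange [IsLocalRing S] [Nontrivial S'] (hs : Function.Surjective (algebraMap S S'))
    {N : Type u} [AddCommGroup N] [Module S N] [Module.Finite S N] (v : M →ₗ[S] N)
    (h : Function.Surjective (v.baseChange S')) : Function.Surjective v := by
  have key : ∀ t : S' ⊗[S] M, ∃ a : M, t = (1 : S') ⊗ₜ a := fun t => by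
    obtain ⟨a, rfl⟩ := TensorProduct.mk_surjective S M S' hs t
    exact ⟨a, rfl⟩
  rw [← LinearMap.range_eq_top, eq_top_iff]
  refine Submodule.le_of_le_smul_of_le_jacobson_bot (I := RingHom.ker (algebraMap S S'))
    Module.Finite.fg_top ?_ fun b _ => ?_
  · rw [IsLocalRing.jacobson_eq_maximalIdeal ⊥ bot_ne_top]
    exact IsLocalRing.le_maximalIdeal (RingHom.ker_ne_top _)
  · obtain ⟨t, ht⟩ := h ((1 : S') ⊗ₜ b)
    obtain ⟨a, rfl⟩ := key t
    rw [LinearMap.baseChange_tmul, ← sub_eq_zero, ← TensorProduct.tmul_sub,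
      one_tmul_eq_zero_iff _ hs] at ht
    rw [show b = v a - (v a - b) by abel]
    exact Submodule.sub_mem _ (Submodule.mem_sup_left ⟨a, rfl⟩) (Submodule.mem_sup_right ht)

variable {R : Type u} [CommRing R] [IsLocalRing R] [IsLocalRing S] [IsNoetherianRing S] [Algebra R S]
  [IsLocalHom (algebraMap R S)] [Module R M] [IsScalarTower R S M] [Module.Finite S M]

/-- A map to a flat module, injective on the closed fibre, is injective. -/
theorem injective_of_baseChange (hs : Function.Surjective (algebraMap S S'))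
    (hker : RingHom.ker (algebraMap S S') = (IsLocalRing.maximalIdeal R).map (algebraMap R S))
    {N : Type u} [AddCommGroup N] [Module S N] [Module R N] [IsScalarTower R S N] [Module.Flat R N]
    (v : M →ₗ[S] N) (h : Function.Injective (v.baseChange S')) : Function.Injective v := by
  refine Groth.L20.injective_of_lTensor_self (v.restrictScalars R)
    (Groth.L20.lTensor_injective_of_residueField S (v.restrictScalars R) ?_ R)
  rw [Groth.L20.injective_lTensor_residueField_iff]
  intro a ha
  have key : ∀ (P : Type u) [AddCommGroup P] [Module S P] [Module R P] [IsScalarTower R S P] (c : P),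
      c ∈ IsLocalRing.maximalIdeal R • (⊤ : Submodule R P) ↔
        c ∈ RingHom.ker (algebraMap S S') • (⊤ : Submodule S P) := fun P _ _ _ _ c => by
    rw [hker]
    exact (SetLike.ext_iff.1 ((Ideal.smul_restrictScalars (R := R) (S := S) (M := P) _ ⊤).trans
      (congrArg (_ • ·) (Submodule.restrictScalars_top R S P))) c).symm
  refine (key M a).2 ((one_tmul_eq_zero_iff M hs a).1 (h ?_))
  rw [map_zero, LinearMap.baseChange_tmul, one_tmul_eq_zero_iff N hs]
  exact (key N _).1 ha

end Alg

variable {X Y : Scheme.{u}}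

theorem finite_stalk {M : X.Modules} (hM : Coh.IsCoh M) (x : X) :
    Module.Finite (X.presheaf.stalk x) (M.presheaf.stalk x) := by
  haveI : Coh.IsQCoh M := hM.1
  obtain ⟨_, ⟨V, hV, rfl⟩, hx, -⟩ :=
    X.isBasis_affineOpens.exists_subset_of_mem_open (Set.mem_univ x) isOpen_univ
  letI := X.presheaf.algebra_section_stalk ⟨x, hx⟩
  haveI := hV.isLocalization_stalk ⟨x, hx⟩
  haveI := Groth.L20.ModStalk.finite_sections M hM hV
  letI := Groth.L20.ModStalk.stalkModule M hx
  haveI : IsScalarTower Γ(X, V) (X.presheaf.stalk x) (M.presheaf.stalk x) :=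
    IsScalarTower.of_algebraMap_smul fun _ _ => rfl
  haveI := Groth.L20.ModStalk.isLocalizedModule_germ M hV hx
  exact Module.Finite.of_isLocalizedModule (hV.primeIdealOf ⟨x, hx⟩).asIdeal.primeCompl
    (Groth.L20.ModStalk.germₗ M hx)

/-- The base change of a stalk map is the stalk map of the pullback. -/
theorem baseChange_stalk (g : X ⟶ Y) {F G : Y.Modules} (φ : F ⟶ G) (z : X) :
    letI : Algebra (Y.presheaf.stalk (g z)) (X.presheaf.stalk z) := (g.stalkMap z).hom.toAlgebra
    (Function.Injective ((Groth.L00.Stk.F X z).map ((Scheme.Modules.pullback g).map φ)) ↔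
      Function.Injective (((Groth.L00.Stk.F Y (g z)).map φ).hom.baseChange (X.presheaf.stalk z))) ∧
    (Function.Surjective ((Groth.L00.Stk.F X z).map ((Scheme.Modules.pullback g).map φ)) ↔
      Function.Surjective (((Groth.L00.Stk.F Y (g z)).map φ).hom.baseChange (X.presheaf.stalk z))) := by
  letI : Algebra (Y.presheaf.stalk (g z)) (X.presheaf.stalk z) := (g.stalkMap z).hom.toAlgebra
  let eF := ((Groth.L00.PullStalk.stalkIso g z).app F).toLinearEquiv
  let eG := ((Groth.L00.PullStalk.stalkIso g z).app G).toLinearEquiv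
  have hnat : ∀ w, eG ((Groth.L00.Stk.F X z).map ((Scheme.Modules.pullback g).map φ) w) =
      ((Groth.L00.Stk.F Y (g z)).map φ).hom.baseChange (X.presheaf.stalk z) (eF w) := fun w => by
    have h1 := ConcreteCategory.congr_hom ((Groth.L00.PullStalk.stalkIso g z).hom.naturality φ) w
    refine h1.trans ?_
    show ((ModuleCat.extendScalars _).map ((Groth.L00.Stk.F Y (g z)).map φ)) (eF w) = _
    induction eF w using TensorProduct.induction_on with
    | zero => exact (map_zero _).trans (map_zero _).symm
    | tmul s m => rfl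
    | add a b ha hb => exact (map_add _ _ _).trans ((congrArg₂ (· + ·) ha hb).trans (map_add _ _ _).symm)
  have hcomp : ⇑eG ∘ ⇑((Groth.L00.Stk.F X z).map ((Scheme.Modules.pullback g).map φ)) =
      ⇑(((Groth.L00.Stk.F Y (g z)).map φ).hom.baseChange (X.presheaf.stalk z)) ∘ ⇑eF := funext hnat
  exact ⟨by rw [← eG.injective.of_comp_iff, hcomp, Function.Injective.of_comp_iff' _ eF.bijective],
    by rw [← Function.Surjective.of_comp_iff' eG.bijective, hcomp, eF.surjective.of_comp_iff]⟩

theorem stk_map_eq {M N : X.Modules} (φ : M ⟶ N) (x : X) :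
    (⇑((Groth.L21.Mod.stalkF X x).map φ) : M.presheaf.stalk x → N.presheaf.stalk x) =
      ⇑((Groth.L00.Stk.F X x).map φ) := rfl

variable (f : X ⟶ Y) (y : Y) {F G : X.Modules}

theorem injective_stalk [IsLocallyNoetherian X] (hF : Coh.IsCoh F) (hG : FlatMod.IsFlatOver f G) (u : F ⟶ G)
    [Mono ((Scheme.Modules.pullback (f.fiberι y)).map u)] (z : f.fiber y) :
    Function.Injective ((Groth.L21.Mod.stalkF X (f.fiberι y z)).map u) := by
  set g := f.fiberι y
  letI : Algebra (X.presheaf.stalk (g z)) ((f.fiber y).presheaf.stalk z) := (g.stalkMap z).hom.toAlgebra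
  letI : Algebra (Y.presheaf.stalk (f (g z))) (X.presheaf.stalk (g z)) := (f.stalkMap (g z)).hom.toAlgebra
  haveI : IsLocalHom (algebraMap (Y.presheaf.stalk (f (g z))) (X.presheaf.stalk (g z))) :=
    inferInstanceAs (IsLocalHom (f.stalkMap (g z)).hom)
  letI := FlatMod.moduleStalkOver f F (g z)
  letI := FlatMod.moduleStalkOver f G (g z)
  haveI : IsScalarTower (Y.presheaf.stalk (f (g z))) (X.presheaf.stalk (g z)) (F.presheaf.stalk (g z)) :=
    IsScalarTower.of_algebraMap_smul fun _ _ => rfl
  haveI : IsScalarTower (Y.presheaf.stalk (f (g z))) (X.presheaf.stalk (g z)) (G.presheaf.stalk (g z)) :=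
    IsScalarTower.of_algebraMap_smul fun _ _ => rfl
  haveI : Module.Flat (Y.presheaf.stalk (f (g z))) (G.presheaf.stalk (g z)) := hG (g z)
  haveI := finite_stalk hF (g z)
  haveI : IsNoetherianRing (X.presheaf.stalk (g z)) := inferInstance
  obtain ⟨hsurj, hker⟩ := Groth.L18.stalkMap_fiberι f y z
  have h := (baseChange_stalk g u z).1.1 (by
    rw [← stk_map_eq]
    exact (Groth.L21.Mod.mono_iff_stalk_injective _).1 inferInstance z)
  rw [stk_map_eq]
  exact injective_of_baseChange (F.presheaf.stalk (g z)) hsurj hker (N := G.presheaf.stalk (g z))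
    (show F.presheaf.stalk (g z) →ₗ[X.presheaf.stalk (g z)] G.presheaf.stalk (g z) from
      ((Groth.L00.Stk.F X (g z)).map u).hom) h

theorem surjective_stalk (hG : Coh.IsCoh G) (u : F ⟶ G)
    [Epi ((Scheme.Modules.pullback (f.fiberι y)).map u)] (z : f.fiber y) :
    Function.Surjective ((Groth.L21.Mod.stalkF X (f.fiberι y z)).map u) := by
  set g := f.fiberι y
  letI : Algebra (X.presheaf.stalk (g z)) ((f.fiber y).presheaf.stalk z) := (g.stalkMap z).hom.toAlgebra
  haveI := finite_stalk hG (g z)
  obtain ⟨hsurj, -⟩ := Groth.L18.stalkMap_fiberι f y z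
  have h := (baseChange_stalk g u z).2.1 (by
    rw [← stk_map_eq]
    exact (Groth.L21.Mod.epi_iff_stalk_surjective _).1 inferInstance z)
  rw [stk_map_eq]
  exact surjective_of_baseChange (F.presheaf.stalk (g z)) hsurj (N := G.presheaf.stalk (g z))
    (show F.presheaf.stalk (g z) →ₗ[X.presheaf.stalk (g z)] G.presheaf.stalk (g z) from
      ((Groth.L00.Stk.F X (g z)).map u).hom) h

/-- A closed set over a proper map to the spectrum of a local ring avoiding the closed fibre is empty. -/
theorem isEmpty_of_avoid {A : Type u} [CommRing A] [IsLocalRing A] (f : X ⟶ Spec (CommRingCat.of A)) [IsProper f]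
    {Z : Set X} (hZ : IsClosed Z) (h : ∀ z : f.fiber (IsLocalRing.closedPoint A), f.fiberι _ z ∉ Z) : Z = ∅ := by
  by_contra hne
  obtain ⟨x, hx⟩ := Set.nonempty_iff_ne_empty.2 hne
  have hcl : IsClosed (f '' Z) := f.isClosedMap _ hZ
  obtain ⟨x', hx', hfx⟩ : IsLocalRing.closedPoint A ∈ f '' Z :=
    (IsLocalRing.specializes_closedPoint (R := A) (f x)).mem_closed hcl ⟨x, hx, rfl⟩
  have hr : x' ∈ Set.range (f.fiberι (IsLocalRing.closedPoint A)) := by rw [Scheme.Hom.range_fiberι]; exact hfx
  obtain ⟨z, rfl⟩ := hr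
  exact h z hx'

variable {A : Type u} [CommRing A] [IsLocalRing A] (f' : X ⟶ Spec (CommRingCat.of A)) [IsProper f']
  [IsLocallyNoetherian X] (u : F ⟶ G)

theorem mono_of_fibre (hF : Coh.IsCoh F) (hG : Coh.IsCoh G) (hfl : FlatMod.IsFlatOver f' G)
    [Mono ((Scheme.Modules.pullback (f'.fiberι (IsLocalRing.closedPoint A))).map u)] : Mono u := by
  refine Preadditive.mono_of_isZero_kernel u ((Groth.L21.Mod.isZero_iff_support_eq_empty _).2 ?_)
  have hK := (Groth.L16.CohKernel.isCoh_kernel_cokernel hF hG u).1
  refine isEmpty_of_avoid f' (Groth.L16.CohSupport.isClosed_support _ hK.2) fun z hz => hz ?_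
  set x := f'.fiberι (IsLocalRing.closedPoint A) z
  refine subsingleton_of_forall_eq 0 fun a => ?_
  refine (map_eq_zero_iff ((Groth.L21.Mod.stalkF X x).map (kernel.ι u)).hom
    ((Groth.L21.Mod.mono_iff_stalk_injective (kernel.ι u)).1 inferInstance x)).1 ?_
  refine (map_eq_zero_iff ((Groth.L21.Mod.stalkF X x).map u).hom (injective_stalk f' _ hF hfl u z)).1 ?_
  show ((Groth.L21.Mod.stalkF X x).map (kernel.ι u) ≫ (Groth.L21.Mod.stalkF X x).map u) a = 0
  rw [← Functor.map_comp, kernel.condition, Functor.map_zero]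
  rfl

theorem epi_of_fibre (hF : Coh.IsCoh F) (hG : Coh.IsCoh G)
    [Epi ((Scheme.Modules.pullback (f'.fiberι (IsLocalRing.closedPoint A))).map u)] : Epi u := by
  refine Preadditive.epi_of_isZero_cokernel u ((Groth.L21.Mod.isZero_iff_support_eq_empty _).2 ?_)
  have hK := (Groth.L16.CohKernel.isCoh_kernel_cokernel hF hG u).2
  refine isEmpty_of_avoid f' (Groth.L16.CohSupport.isClosed_support _ hK.2) fun z hz => hz ?_
  refine subsingleton_of_forall_eq 0 fun a => ?_
  obtain ⟨b, rfl⟩ := (Groth.L21.Mod.epi_iff_stalk_surjective (cokernel.π u)).1 inferInstance _ a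
  obtain ⟨c, rfl⟩ := surjective_stalk f' _ hG u z b
  rw [← ConcreteCategory.comp_apply, ← Functor.map_comp, cokernel.condition, Functor.map_zero]
  rfl

end Groth.L16.Rees.FibreMonoEpi
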