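import Groth.Agent.L16.Rees.RelVanish
import Groth.Agent.L16.Exist.AdicVanish
import Groth.Agent.L16.Exist.PushPull
import Groth.Agent.L16.Devissage
import Groth.Agent.L16.SchSupport
import Groth.Agent.L16.Rees.FibreMonoEpi
import Groth.Agent.L03.Euler.Basic
import Groth.Agent.L17.CoverVanishing
import Groth.Agent.L17.KilledUnit
import Groth.Agent.L22.Ideal
import Groth.Agent.L18.AmplePull

/-!
# Ampleness descends along finite surjective morphisms
-/

set_option autoImplicit false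
set_option linter.style.haveILetI false
set_option linter.unusedSectionVars false
set_option backward.isDefEq.respectTransparency false

universe u

open CategoryTheory CategoryTheory.Limits AlgebraicGeometry TopologicalSpace Opposite

noncomputable section

namespace Groth.L16.Rees.FiniteAmple

open Groth.L16.CohSupport Groth.L16.Devissage
open Groth.L00.Tensor (tensorLeftF tensorIso)

variable {X Y : Scheme.{u}} (L : X.Modules)

/-- The twists of `M` have no cohomology in degree `p`, eventually. -/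
def Van (M : X.Modules) (p : ℕ) : Prop :=
  ∃ n₀ : ℕ, ∀ n : ℕ, n₀ ≤ n → Subsingleton (Coh.HH X ((tensorLeftF (CohB1.tensorPow L n)).obj M) p)

variable {L}

theorem finLocFree_pow (hL : PicF.IsInvertible L) (n : ℕ) : FlatMod.IsFinLocFree (CohB1.tensorPow L n) :=
  Groth.L16.Existence.isFinLocFree_of_isInvertible (Groth.L18.Ample.isInvertible_tensorPow hL n)

theorem Van.middle (hL : PicF.IsInvertible L) {S : ShortComplex X.Modules} (hS : S.ShortExact) {p : ℕ}
    (h₁ : Van L S.X₁ p) (h₃ : Van L S.X₃ p) : Van L S.X₂ p := by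
  obtain ⟨a, ha⟩ := h₁
  obtain ⟨b, hb⟩ := h₃
  refine ⟨max a b, fun n hn => subsingleton_of_forall_eq 0 fun x => ?_⟩
  obtain ⟨z, hT⟩ := Groth.L16.Exist.Adic.shortExact_tensor (finLocFree_pow hL n) hS
  haveI := ha n (le_of_max_le_left hn)
  haveI := hb n (le_of_max_le_right hn)
  obtain ⟨y, hy⟩ := (Groth.L16.CohLinear.exact_hmap_hmap hT p x).1 (Subsingleton.elim _ _)
  rw [← hy, Subsingleton.elim y 0, map_zero]

theorem Van.right (hL : PicF.IsInvertible L) {S : ShortComplex X.Modules} (hS : S.ShortExact) {p : ℕ}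
    (h₁ : Van L S.X₁ (p + 1)) (h₂ : Van L S.X₂ p) : Van L S.X₃ p := by
  obtain ⟨a, ha⟩ := h₁
  obtain ⟨b, hb⟩ := h₂
  refine ⟨max a b, fun n hn => subsingleton_of_forall_eq 0 fun x => ?_⟩
  obtain ⟨z, hT⟩ := Groth.L16.Exist.Adic.shortExact_tensor (finLocFree_pow hL n) hS
  haveI := ha n (le_of_max_le_left hn)
  haveI := hb n (le_of_max_le_right hn)
  obtain ⟨y, hy⟩ := (Groth.L16.CohLinear.exact_hmap_delta hT p x).1 (Subsingleton.elim _ _)
  rw [← hy, Subsingleton.elim y 0, map_zero]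

theorem Van.of_isZero (hL : PicF.IsInvertible L) {M : X.Modules} (hM : IsZero M) (p : ℕ) : Van L M p := by
  refine ⟨0, fun n _ => ?_⟩
  have hS : (ShortComplex.mk (0 : M ⟶ M) (0 : M ⟶ M) zero_comp).ShortExact := by
    haveI : Mono (0 : M ⟶ M) := ⟨fun _ _ _ => hM.eq_of_tgt _ _⟩
    haveI : Epi (0 : M ⟶ M) := ⟨fun _ _ _ => hM.eq_of_src _ _⟩
    exact { exact := ShortComplex.exact_of_isZero_X₂ _ hM }
  obtain ⟨z, hT⟩ := Groth.L16.Exist.Adic.shortExact_tensor (finLocFree_pow hL n) hS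
  haveI := hT.mono_f
  refine Groth.L03.Euler.subsingleton_HH_of_isZero ?_ p
  have h0 : (tensorLeftF (CohB1.tensorPow L n)).map (0 : M ⟶ M) = 0 :=
    (cancel_mono ((tensorLeftF (CohB1.tensorPow L n)).map (0 : M ⟶ M))).1 (z.trans zero_comp.symm)
  rw [IsZero.iff_id_eq_zero]
  refine ((tensorLeftF (CohB1.tensorPow L n)).map_id M).symm.trans ?_
  rw [hM.eq_of_src (𝟙 M) 0]
  exact h0

theorem Van.of_push (hL : PicF.IsInvertible L) (f : Y ⟶ X) [IsAffineHom f] (K : Y.Modules) [Coh.IsQCoh K]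
    {p : ℕ} (h : Van ((Scheme.Modules.pullback f).obj L) K p) : Van L ((Coh.push f).obj K) p := by
  obtain ⟨a, ha⟩ := h
  refine ⟨a, fun n hn => ?_⟩
  haveI : Coh.IsQCoh (CohB1.tensorPow ((Scheme.Modules.pullback f).obj L) n) :=
    Groth.L21.Extend.isQCoh_of_isInvertible
      (Groth.L18.Ample.isInvertible_tensorPow (Groth.L18.Ample.isInvertible_pullback f hL) n)
  refine ProjSpace.subsingleton_of_iso
    ((Groth.L17.ProjFormula.projIso f (CohB1.tensorPow L n) (finLocFree_pow hL n)).app K ≪≫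
      (Coh.push f).mapIso (tensorIso (Groth.L18.Ample.pullPow f L n) (Iso.refl K))) p ?_
  haveI : Coh.IsQCoh (CohB1.tensorMod (CohB1.tensorPow ((Scheme.Modules.pullback f).obj L) n) K) :=
    Groth.L00.Tensor.isQCoh_tensorMod _ _
  obtain ⟨e'⟩ := Groth.L17.nonempty_HH_push_of_isAffineHom f
    (CohB1.tensorMod (CohB1.tensorPow ((Scheme.Modules.pullback f).obj L) n) K) p
  exact @Equiv.subsingleton _ _ e'.symm.toEquiv (ha n hn)

/-- A finitely generated nonzero module over a local ring maps onto the residue field. -/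
theorem exists_to_residue {R : CommRingCat.{u}} [IsLocalRing R] (M : ModuleCat.{u} R) [Module.Finite R M]
    [Nontrivial M] : ∃ α : M ⟶ ModuleCat.of R (IsLocalRing.ResidueField R), α ≠ 0 := by
  obtain ⟨K, hK, -⟩ := (eq_top_or_exists_le_coatom (⊥ : Submodule R M)).resolve_left bot_ne_top
  haveI : IsSimpleModule R (M ⧸ K) := isSimpleModule_iff_isCoatom.2 hK
  obtain ⟨J, hJ, ⟨e⟩⟩ := isSimpleModule_iff_quot_maximal.1 (‹IsSimpleModule R (M ⧸ K)›)
  obtain rfl : J = IsLocalRing.maximalIdeal R := IsLocalRing.eq_maximalIdeal hJ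
  refine ⟨ModuleCat.ofHom (e.toLinearMap.comp K.mkQ), fun h => ?_⟩
  obtain ⟨m, -, hm⟩ := SetLike.exists_of_lt hK.1.lt_top
  exact hm ((Submodule.Quotient.mk_eq_zero K).1 (e.map_eq_zero_iff.1 congr($(h) m)))

/-- The direct image of the structure module is nonzero at every point of the image. -/
theorem nontrivial_stalk_push (f : Y ⟶ X) {x : X} (hx : x ∈ Set.range f) :
    Nontrivial (((Coh.push f).obj (Coh.structureModule Y)).presheaf.stalk x) := by
  let O := (Coh.push f).obj (Coh.structureModule Y)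
  let one : Γ(O, ⊤) := (1 : Γ(Y, f ⁻¹ᵁ ⊤))
  refine ⟨O.presheaf.germ ⊤ x trivial one, O.presheaf.germ ⊤ x trivial 0, fun h => ?_⟩
  obtain ⟨W, hxW, i, i', e⟩ := TopCat.Presheaf.germ_eq O.presheaf x (U := ⊤) (V := ⊤) trivial trivial one 0 h
  obtain ⟨z, hz⟩ := hx
  have h1 : (Y.presheaf.map ((Opens.map f.base).map i).op (1 : Γ(Y, f ⁻¹ᵁ ⊤)) : Γ(Y, f ⁻¹ᵁ W)) = 0 :=
    e.trans (map_zero _)
  rw [map_one] at h1
  have h2 := congrArg (Y.presheaf.germ (f ⁻¹ᵁ W) z (show f z ∈ W from hz ▸ hxW)) h1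
  rw [map_one, map_zero] at h2
  exact one_ne_zero h2

/-- The key construction: a map from a direct image onto the sections near `y`. -/
theorem exists_map_from_push [AlgebraicGeometry.IsNoetherian X] (f : Y ⟶ X) [IsFinite f]
    {y : X} (hy : y ∈ Set.range f) {M' : X.Modules} (hM' : Coh.IsCoh M') (N : ModuleCat.{u} (X.presheaf.stalk y))
    (hN : IsSimpleModule (X.presheaf.stalk y) N) (m : M' ⟶ Groth.L00.Sky.sky y N) [Mono m] (hlen : 1 ≤ len y M') :
    ∃ (K : Y.Modules) (_ : Coh.IsCoh K) (a : (Coh.push f).obj K ⟶ M'), len y (cokernel a) = 0 := by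
  haveI : IsLocallyNoetherian Y := LocallyOfFiniteType.isLocallyNoetherian f
  let O := (Coh.push f).obj (Coh.structureModule Y)
  have hO : Coh.IsCoh O := Groth.L16.Exist.isCoh_pushforward f (RelVanish.isCoh_structureModule Y)
  haveI : Module.Finite (X.presheaf.stalk y) ((Groth.L00.Stk.F X y).obj O) := FibreMonoEpi.finite_stalk hO y
  haveI : Nontrivial ((Groth.L00.Stk.F X y).obj O) := nontrivial_stalk_push f hy
  obtain ⟨β₀, hβ₀⟩ := exists_to_residue ((Groth.L00.Stk.F X y).obj O)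
  obtain ⟨J, hJ, ⟨eJ⟩⟩ := isSimpleModule_iff_quot_maximal.1 hN
  obtain rfl : J = IsLocalRing.maximalIdeal (X.presheaf.stalk y) := IsLocalRing.eq_maximalIdeal hJ
  let β : (Groth.L00.Stk.F X y).obj O ⟶ N := β₀ ≫ ModuleCat.ofHom eJ.symm.toLinearMap
  have hβ : β ≠ 0 := fun h => hβ₀ (by
    ext v
    exact eJ.symm.map_eq_zero_iff.1 congr($(h) v))
  haveI : Coh.IsQCoh (Groth.L00.Sky.sky y N) := isQCoh_sky y N (smul_eq_zero_of_simple N hN)
  haveI : Coh.IsQCoh M' := hM'.1
  let ψ : O ⟶ Groth.L00.Sky.sky y N := Groth.L00.Sky.toHom O N β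
  let φ : O ⟶ cokernel m := ψ ≫ cokernel.π m
  haveI : Coh.IsQCoh (cokernel m) := isQCoh_cokernel m
  let C := Abelian.image φ
  have hC : Coh.IsCoh C := isCoh_image hO φ
  have hyC : y ∉ CohB1.support C := by
    have e := len_add (shortExact_image_cokernel m) y
    have hsky : len y (Groth.L00.Sky.sky y N) = 1 := (len_sky y N).trans (Module.length_eq_one_iff.2 hN)
    have hS : (ShortComplex.mk m (cokernel.π m) (cokernel.condition _)).ShortExact :=
      { exact := ShortComplex.exact_cokernel m }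
    have e' := len_add hS y
    dsimp only at e'
    rw [hsky] at e'
    refine fun h => (len_eq_zero_iff y (cokernel m)).1 ?_ (Groth.L21.Mod.support_mono (Abelian.image.ι φ) h)
    have : 1 + len y (cokernel m) ≤ 1 + 0 := by
      rw [add_zero]
      exact (add_le_add_left hlen _).trans e'.ge
    exact nonpos_iff_eq_zero.1 ((ENat.add_le_add_iff_left (by simp)).1 this)
  let A := Groth.L16.SchSupport.annIdeal hC
  let I := A.comap f
  let K := ClSub.idealMod I
  haveI : Mono (ClSub.idealModι I) := inferInstanceAs (Mono (kernel.ι _))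
  have hK : Coh.IsCoh K := RelVanish.isCoh_of_mono (ClSub.idealModι I) (RelVanish.isCoh_structureModule Y)
  let a₀ : (Coh.push f).obj K ⟶ O := (Coh.push f).map (ClSub.idealModι I)
  haveI : Coh.IsQCoh ((Coh.push f).obj K) := (Groth.L16.Exist.isCoh_pushforward f hK).1
  have key : a₀ ≫ Abelian.factorThruImage φ = 0 := by
    refine Groth.L16.AffineBC.hom_ext_affine _ _ fun U hU v => ?_
    show (Abelian.factorThruImage φ).app U (a₀.app U v) = 0
    let c : Γ(Y, f ⁻¹ᵁ U) →+ Γ(C, U) := ((Abelian.factorThruImage φ).app U).hom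
    have hc : ∀ (r : Γ(X, U)) (b : Γ(Y, f ⁻¹ᵁ U)), c (f.app U r * b) = r • c b := fun r b =>
      (Abelian.factorThruImage φ).app_smul r b
    have hv : (show Γ(Y, f ⁻¹ᵁ U) from (ClSub.idealModι I).app (f ⁻¹ᵁ U) v) ∈
        I.ideal ⟨f ⁻¹ᵁ U, hU.preimage f⟩ :=
      (Groth.L18.IdealModule.mem_ideal_iff I (hU.preimage f) _).2 ⟨v, rfl⟩
    rw [Groth.L22.Ideals.comap_ideal f A ⟨U, hU⟩ ⟨f ⁻¹ᵁ U, hU.preimage f⟩ le_rfl,
      ← Scheme.Hom.app_eq_appLE] at hv
    show c (show Γ(Y, f ⁻¹ᵁ U) from (ClSub.idealModι I).app (f ⁻¹ᵁ U) v) = 0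
    generalize (show Γ(Y, f ⁻¹ᵁ U) from (ClSub.idealModι I).app (f ⁻¹ᵁ U) v) = b at hv ⊢
    suffices ∀ t : Γ(Y, f ⁻¹ᵁ U), c (t * b) = 0 by simpa using this 1
    induction hv using Submodule.span_induction with
    | mem b hb =>
      obtain ⟨r, hr, rfl⟩ := hb
      intro t
      rw [mul_comm, hc]
      exact Module.mem_annihilator.1 hr _
    | zero => intro t; rw [mul_zero, map_zero]
    | add b b' _ _ h h' => intro t; rw [mul_add, map_add, h, h', add_zero]
    | smul s b _ h => intro t; rw [smul_eq_mul, ← mul_assoc, h]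
  let a : (Coh.push f).obj K ⟶ M' := Abelian.monoLift m (a₀ ≫ ψ) (by
    rw [Category.assoc]
    show a₀ ≫ φ = 0
    rw [← Abelian.image.fac φ, ← Category.assoc, key, zero_comp])
  have ha : a ≫ m = a₀ ≫ ψ := Abelian.monoLift_comp m _ _
  refine ⟨K, hK, a, ?_⟩
  obtain ⟨v, hv⟩ := exists_map_sky y O N β hβ
  obtain ⟨_, ⟨W, hW, rfl⟩, hyW, -⟩ := X.isBasis_affineOpens.exists_subset_of_mem_open (Set.mem_univ y) isOpen_univ
  have hyA : y ∉ A.support := fun h => hyC ((Groth.L16.SchSupport.mem_support_annIdeal hC y).1 h)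
  rw [A.mem_support_iff_of_mem (U := ⟨W, hW⟩) hyW, Scheme.mem_zeroLocus_iff] at hyA
  push Not at hyA
  obtain ⟨r, hr, hyr⟩ := hyA
  obtain ⟨W₁, hyW₁, s₁, hs₁⟩ := TopCat.Presheaf.exists_germ_eq O.presheaf v
  obtain ⟨_, ⟨W₂, hW₂, rfl⟩, hyW₂, hle⟩ := X.isBasis_affineOpens.exists_subset_of_mem_open
    (show y ∈ (W ⊓ W₁ : X.Opens) from ⟨hyW, hyW₁⟩) (W ⊓ W₁).2
  have hle₁ : W₂ ≤ W₁ := fun z hz => (hle hz).2
  have hle₀ : W₂ ≤ W := fun z hz => (hle hz).1
  let r₂ : Γ(X, W₂) := X.presheaf.map (homOfLE hle₀).op r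
  have hr₂ : r₂ ∈ A.ideal ⟨W₂, hW₂⟩ := by
    rw [← A.map_ideal (U := ⟨W₂, hW₂⟩) (V := ⟨W, hW⟩) hle₀]
    exact Ideal.mem_map_of_mem _ hr
  let s₂ : Γ(O, W₂) := O.presheaf.map (homOfLE hle₁).op s₁
  have hmem : (show Γ(Y, f ⁻¹ᵁ W₂) from r₂ • s₂) ∈ I.ideal ⟨f ⁻¹ᵁ W₂, hW₂.preimage f⟩ := by
    rw [Groth.L22.Ideals.comap_ideal f A ⟨W₂, hW₂⟩ ⟨f ⁻¹ᵁ W₂, hW₂.preimage f⟩ le_rfl,
      ← Scheme.Hom.app_eq_appLE]
    exact Ideal.mul_mem_right _ _ (Ideal.mem_map_of_mem _ hr₂)
  obtain ⟨k, hk⟩ := (Groth.L18.IdealModule.mem_ideal_iff I (hW₂.preimage f) _).1 hmem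
  have hu : IsUnit (X.presheaf.germ W₂ y hyW₂ r₂) := by
    rw [TopCat.Presheaf.germ_res_apply]
    exact (X.mem_basicOpen r y hyW).1 hyr
  have hne : (Groth.L00.Stk.F X y).map (a ≫ m) (((Coh.push f).obj K).presheaf.germ W₂ y hyW₂ k) ≠ 0 := by
    rw [ha, Functor.map_comp, ModuleCat.comp_apply]
    have e1 : (Groth.L00.Stk.F X y).map a₀ (((Coh.push f).obj K).presheaf.germ W₂ y hyW₂ k) =
        (X.presheaf.germ W₂ y hyW₂ r₂ : X.presheaf.stalk y) • (v : (Groth.L00.Stk.F X y).obj O) := by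
      refine (TopCat.Presheaf.stalkFunctor_map_germ_apply W₂ y hyW₂ a₀.mapPresheaf k).trans ?_
      refine (congrArg (O.presheaf.germ W₂ y hyW₂) (show a₀.app W₂ k = r₂ • s₂ from hk)).trans ?_
      refine (Groth.L17.KilledUnit.germ_smul₀ O hyW₂ r₂ s₂).trans ?_
      congr 1
      rw [← hs₁]
      exact TopCat.Presheaf.germ_res_apply O.presheaf _ _ _ _
    rw [e1, map_smul]
    exact fun h => hv (hu.smul_eq_zero.1 h)
  have h1 : 1 ≤ len y (Abelian.image a) := len_image_pos a y ⟨_, fun h => hne (by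
    rw [Functor.map_comp, ModuleCat.comp_apply, h]
    exact map_zero _)⟩
  have e₂ := len_add (shortExact_image_cokernel a) y
  dsimp only at e₂
  have hM1 : len y M' ≤ 1 := ((len_of_mono m y).trans (len_sky y N).le).trans (Module.length_eq_one_iff.2 hN).le
  have : 1 + len y (cokernel a) ≤ 1 + 0 := by
    rw [add_zero]
    exact ((add_le_add_left h1 _).trans e₂.ge).trans hM1
  exact nonpos_iff_eq_zero.1 ((ENat.add_le_add_iff_left (by simp)).1 this)

/-- Twists by a module ample after pullback to a covering by finite morphisms kill cohomology. -/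
theorem van_of_ample_pullback [AlgebraicGeometry.IsNoetherian X] [X.IsSeparated] {ι : Type*} {Z : ι → Scheme.{u}}
    (f : ∀ i, Z i ⟶ X) [∀ i, IsFinite (f i)] (hcov : ∀ x : X, ∃ i, x ∈ Set.range (f i)) (hL : PicF.IsInvertible L)
    (hY : ∀ i, ∀ K : (Z i).Modules, Coh.IsCoh K → ∀ p, 0 < p → Van ((Scheme.Modules.pullback (f i)).obj L) K p) :
    ∀ M : X.Modules, Coh.IsCoh M → ∀ p, 0 < p → Van L M p := by
  obtain ⟨d, hd⟩ := Groth.L17.exists_bound_qcqs (X := X) ⊤ isCompact_univ
  suffices ∀ k p : ℕ, 0 < p → d ≤ p + k → ∀ M : X.Modules, Coh.IsCoh M → Van L M p from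
    fun M hM p hp => this d p hp (Nat.le_add_left _ _) M hM
  intro k
  induction k with
  | zero =>
    intro p _ hdp M hM
    refine ⟨0, fun n _ => ?_⟩
    haveI : Coh.IsQCoh M := hM.1
    haveI : Coh.IsQCoh (CohB1.tensorPow L n) :=
      Groth.L21.Extend.isQCoh_of_isInvertible (Groth.L18.Ample.isInvertible_tensorPow hL n)
    haveI : Coh.IsQCoh ((tensorLeftF (CohB1.tensorPow L n)).obj M) := Groth.L00.Tensor.isQCoh_tensorMod _ _
    have := subsingleton_of_forall_eq 0 (hd ((tensorLeftF (CohB1.tensorPow L n)).obj M) p hdp)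
    exact (Groth.L17.hTopEquiv (X := X.toTopCat) (Coh.toAb ((tensorLeftF (CohB1.tensorPow L n)).obj M)) p).subsingleton
  | succ k ih =>
    intro p hp hdp M hM
    have up : ∀ G : X.Modules, Coh.IsCoh G → Van L G (p + 1) := fun G hG => ih (p + 1) (by omega) (by omega) G hG
    refine induction_support (Q := fun M => Van L M p) isClosed_univ (fun M h => Van.of_isZero hL h p)
      (fun T hT hTX y hy hmax small n ihn M hM hsM hlen => ?_) hM (Set.subset_univ _)
    let N : ModuleCat.{u} (X.presheaf.stalk y) := ModuleCat.of _ (IsLocalRing.ResidueField (X.presheaf.stalk y))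
    have hN : IsSimpleModule (X.presheaf.stalk y) N := Module.length_eq_one_iff.1 (length_residueField _)
    obtain ⟨α, hα⟩ := exists_quotient_simple ((Groth.L00.Stk.F X y).obj M) N
      (show len y M ≠ ⊤ from hlen ▸ ENat.coe_ne_top _) (show len y M ≠ 0 from hlen ▸ by simp) hN
    haveI : Coh.IsQCoh (Groth.L00.Sky.sky y N) := isQCoh_sky y N (smul_eq_zero_of_simple N hN)
    let φ : M ⟶ Groth.L00.Sky.sky y N := Groth.L00.Sky.toHom M N α
    let M' := Abelian.image φ
    have hM' : Coh.IsCoh M' := isCoh_image hM φ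
    have hlenM' : 1 ≤ len y M' := len_image_pos φ y (exists_map_sky y M N α hα)
    have hsM' : CohB1.support M' ⊆ T := (Groth.L21.Mod.support_epi (Abelian.factorThruImage φ)).trans hsM
    have e₀ := len_add (shortExact_kernel_image φ) y
    dsimp only at e₀
    have hPk : Van L (kernel φ) p := ihn _ (isCoh_kernel hM φ)
      ((Groth.L21.Mod.support_mono (kernel.ι φ)).trans hsM) (by
        rw [hlen] at e₀
        by_contra hc
        have : ((n + 1 : ℕ) : ℕ∞) + 1 ≤ len y (kernel φ) + len y M' :=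
          add_le_add (by exact_mod_cast Order.add_one_le_of_lt (not_le.1 hc)) hlenM'
        rw [← e₀] at this
        exact absurd this (not_le.2 (by exact_mod_cast Nat.lt_succ_self (n + 1))))
    refine Van.middle hL (shortExact_kernel_image φ) hPk ?_
    obtain ⟨i, hi⟩ := hcov y
    obtain ⟨K, hK, a, ha⟩ := exists_map_from_push (f i) hi hM' N hN (Abelian.image.ι φ) hlenM'
    haveI : Coh.IsQCoh K := hK.1
    have hP := Groth.L16.Exist.isCoh_pushforward (f i) hK
    haveI : Coh.IsQCoh M' := hM'.1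
    have hkc := Groth.L16.CohKernel.isCoh_kernel_cokernel hP hM' a
    have hPI : Van L (Abelian.image a) p :=
      Van.right hL (shortExact_kernel_image a) (up _ hkc.1) (Van.of_push hL (f i) K (hY i K hK p hp))
    exact Van.middle hL (shortExact_image_cokernel a) hPI
      (small _ hkc.2 ((Groth.L21.Mod.support_epi (cokernel.π a)).trans hsM') ha)

/-- Ampleness descends along a covering by finite morphisms of a scheme proper over an affine base. -/
theorem isAmple_of_pullback_cover {A : Type u} [CommRing A] [IsNoetherianRing A] (g : X ⟶ Spec (CommRingCat.of A))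
    [IsProper g] {ι : Type*} {Z : ι → Scheme.{u}} (f : ∀ i, Z i ⟶ X) [∀ i, IsFinite (f i)]
    (hcov : ∀ x : X, ∃ i, x ∈ Set.range (f i)) (hL : PicF.IsInvertible L)
    (ha : ∀ i, CohB1.IsAmple ((Scheme.Modules.pullback (f i)).obj L)) : CohB1.IsAmple L := by
  haveI : CompactSpace X := QuasiCompact.compactSpace_of_compactSpace g
  haveI : IsLocallyNoetherian X := LocallyOfFiniteType.isLocallyNoetherian g
  haveI : AlgebraicGeometry.IsNoetherian X := {}
  haveI : X.IsSeparated := ⟨by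
    rw [← Limits.terminal.comp_from g]
    infer_instance⟩
  have hY : ∀ i, ∀ K : (Z i).Modules, Coh.IsCoh K → ∀ p, 0 < p → Van ((Scheme.Modules.pullback (f i)).obj L) K p :=
    fun i K hK p hp => by
      haveI : IsProper (f i ≫ g) := inferInstance
      obtain ⟨d₀, hd₀⟩ := RelVanish.exists_vanishing (f i ≫ g) (ha i) hK
      exact ⟨d₀, fun d hd => ProjSpace.subsingleton_of_iso (Groth.L00.Tensor.tensorComm _ _) p (hd₀ d hd p hp)⟩
  refine SerreCrit.isAmple_of_vanishing hL fun I i hi hI => ?_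
  haveI := hi
  haveI := hI
  obtain ⟨n₀, hn⟩ := van_of_ample_pullback f hcov hL hY I
    (RelVanish.isCoh_of_mono i (RelVanish.isCoh_structureModule X)) 1 one_pos
  exact ⟨n₀, ProjSpace.subsingleton_of_iso (Groth.L00.Tensor.tensorComm _ _) 1 (hn (n₀ + 1) n₀.le_succ)⟩

/-- Ampleness descends along a finite surjective morphism of schemes proper over an affine base. -/
theorem isAmple_of_pullback {A : Type u} [CommRing A] [IsNoetherianRing A] (g : X ⟶ Spec (CommRingCat.of A))
    [IsProper g] (f : Y ⟶ X) [IsFinite f] [Surjective f] (hL : PicF.IsInvertible L)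
    (ha : CohB1.IsAmple ((Scheme.Modules.pullback f).obj L)) : CohB1.IsAmple L :=
  isAmple_of_pullback_cover g (fun _ : PUnit.{1} => f) (fun x => ⟨⟨⟩, f.surjective x⟩) hL fun _ => ha

end Groth.L16.Rees.FiniteAmple
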