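import Groth.Agent.L17.BC.FreeBC
import Groth.Agent.L17.BC.Sheaf
import Groth.Agent.L18.AmpleLocal
import Groth.Agent.L18.AmplePull
import Groth.Agent.L18.AmpleGG
import Groth.Agent.L18.GenLocus
import Groth.Agent.L18.LocFreeFP
import Groth.Agent.L08.Cube.Inverse
import Groth.Agent.L29.DCoh.PullTensor
import Groth.Agent.L29.DCoh.RelTor
import Groth.Agent.L29.LocFree
import Groth.Agent.L16.Existence.Vanishing

/-!
# Sections near a fibre lift, and invertible modules isomorphic on a fibre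
-/

set_option autoImplicit false
set_option linter.style.haveILetI false
set_option linter.unusedSectionVars false
set_option backward.isDefEq.respectTransparency false

universe u

open CategoryTheory CategoryTheory.Limits AlgebraicGeometry TopologicalSpace Opposite
open scoped TensorProduct MonoidalCategory
open CategoryTheory.MonoidalCategory (tensorRight)

noncomputable section

namespace Groth.L16.Rees.NearFibre

open Groth.L17.BC
open Groth.L17.BC.Classes
open Groth.L17.BC.Effaced (Cov)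
open Groth.L18.Frame (rs ro pull rs_rs rs_smul rs_self ro_ro IsFrame pull_rs pull_smul)

/-- At a split point with invertible scalar every base changed cycle comes from cycles. -/
theorem cycles_le_of_split {A B : Type u} [CommRing A] [CommRing B] [Algebra A B] {P P₂ : Type u}
    [AddCommGroup P] [Module A P] [AddCommGroup P₂] [Module A P₂] (d : P →ₗ[A] P₂) (r : A) (σ : P₂ →ₗ[A] P)
    (hr : IsUnit (algebraMap A B r)) (hσ : ∀ v, d (σ (d v)) = r • d v) :
    LinearMap.ker (d.baseChange B) ≤ LinearMap.range ((LinearMap.ker d).subtype.baseChange B) := by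
  intro w hw
  let π : P →ₗ[A] LinearMap.ker d := LinearMap.codRestrict _ (r • LinearMap.id - σ ∘ₗ d) fun v => by simp [hσ v]
  refine ⟨(hr.unit⁻¹).1 • π.baseChange B w, ?_⟩
  rw [map_smul, ← LinearMap.comp_apply, ← LinearMap.baseChange_comp,
    show (LinearMap.ker d).subtype ∘ₗ π = r • LinearMap.id - σ ∘ₗ d from rfl, LinearMap.baseChange_sub,
    LinearMap.baseChange_smul, LinearMap.baseChange_id, LinearMap.baseChange_comp, LinearMap.sub_apply,
    LinearMap.comp_apply, show d.baseChange B w = 0 from hw, map_zero, sub_zero, LinearMap.smul_apply,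
    LinearMap.id_apply, ← algebraMap_smul B r w, smul_smul, IsUnit.val_inv_mul, one_smul]

/-- Clearing denominators in a base change. -/
theorem exists_clear {A B Z : Type u} [CommRing A] [CommRing B] [Algebra A B] [AddCommGroup Z] [Module A Z]
    (hfrac : ∀ b : B, ∃ a r : A, IsUnit (algebraMap A B r) ∧ algebraMap A B r * b = algebraMap A B a)
    (t : B ⊗[A] Z) : ∃ (r : A) (z : Z), IsUnit (algebraMap A B r) ∧ r • t = (1 : B) ⊗ₜ z := by
  induction t using TensorProduct.induction_on with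
  | zero => exact ⟨1, 0, by rw [map_one]; exact isUnit_one, by rw [smul_zero, TensorProduct.tmul_zero]⟩
  | tmul b z =>
    obtain ⟨a, r, hr, h⟩ := hfrac b
    exact ⟨r, a • z, hr, by
      rw [TensorProduct.smul_tmul', Algebra.smul_def, h, TensorProduct.tmul_smul, TensorProduct.smul_tmul',
        Algebra.smul_def, mul_one]⟩
  | add x y hx hy =>
    obtain ⟨r, z, hr, h⟩ := hx
    obtain ⟨r', z', hr', h'⟩ := hy
    refine ⟨r' * r, r' • z + r • z', by rw [map_mul]; exact hr'.mul hr, ?_⟩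
    rw [smul_add, mul_smul, h, mul_comm r' r, mul_smul, h', ← TensorProduct.tmul_smul, ← TensorProduct.tmul_smul,
      ← TensorProduct.tmul_add]

theorem fromSpecResidueField_app_top {S : Scheme.{u}} (y : S) {V : S.Opens} (hy : y ∈ V)
    (e : (⊤ : (Spec (S.residueField y)).Opens) ≤ S.fromSpecResidueField y ⁻¹ᵁ V) :
    (S.fromSpecResidueField y).appLE V ⊤ e = S.evaluation V y hy ≫ (Scheme.ΓSpecIso (S.residueField y)).inv := by
  have h1 : (⊤ : (Spec (S.presheaf.stalk y)).Opens) ≤ S.fromSpecStalk y ⁻¹ᵁ V := fun z _ => by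
    have hz : z ⤳ IsLocalRing.closedPoint (S.presheaf.stalk y) := IsLocalRing.specializes_closedPoint z
    exact (hz.map (S.fromSpecStalk y).continuous).mem_open V.2 (by rw [Scheme.fromSpecStalk_closedPoint]; exact hy)
  change (Spec.map (S.residue y) ≫ S.fromSpecStalk y).appLE V ⊤ e = _
  rw [← Scheme.Hom.appLE_comp_appLE (Spec.map (S.residue y)) (S.fromSpecStalk y) V ⊤ ⊤ h1 le_top,
    show (S.fromSpecStalk y).appLE V ⊤ h1 = S.presheaf.germ V y hy ≫ (Scheme.ΓSpecIso _).inv by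
      rw [Scheme.Hom.appLE, Scheme.fromSpecStalk_app hy, Category.assoc, Category.assoc, ← Functor.map_comp]
      congr 1,
    Category.assoc, show (Spec.map (S.residue y)).appLE ⊤ ⊤ le_top = (Spec.map (S.residue y)).appTop from
      Scheme.Hom.appLE_eq_app _, ← Scheme.ΓSpecIso_inv_naturality, ← Category.assoc]
  rfl
theorem exists_frac {S : Scheme.{u}} {V : S.Opens} (hV : IsAffineOpen V) (y : S) (hy : y ∈ V) :
    ∀ b : S.residueField y, ∃ a r : Γ(S, V), IsUnit (S.evaluation V y hy r) ∧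
      S.evaluation V y hy r * b = S.evaluation V y hy a := by
  intro b
  letI := S.presheaf.algebra_section_stalk ⟨y, hy⟩
  haveI := hV.isLocalization_stalk ⟨y, hy⟩
  obtain ⟨c, rfl⟩ := S.residue_surjective y b
  obtain ⟨⟨a, r⟩, h⟩ := IsLocalization.surj (hV.primeIdealOf ⟨y, hy⟩).asIdeal.primeCompl c
  refine ⟨a, r, ?_, ?_⟩
  · rw [← Scheme.germ_residue]
    exact (IsLocalization.map_units (S.presheaf.stalk y) r).map (S.residue y).hom
  · rw [← Scheme.germ_residue]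
    show S.residue y (algebraMap Γ(S, V) (S.presheaf.stalk y) r) * S.residue y c =
      S.residue y (algebraMap Γ(S, V) (S.presheaf.stalk y) a)
    rw [← map_mul, mul_comm, h]

/-- Split cycles stay cycles after a change of the indices. -/
theorem splitAt_of_eq {A : Type u} [CommRing A] (L : CochainComplex (ModuleCat.{u} A) ℤ) (x : PrimeSpectrum A)
    {i j i' j' : ℤ} (hi : i = i') (hj : j = j') (h : SplitAt (L.d i j).hom x) : SplitAt (L.d i' j').hom x := by
  subst hi; subst hj; exact h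

variable {X S : Scheme.{u}} (f : X ⟶ S) [IsProper f] [LocallyOfFinitePresentation f]
  (F : X.Modules) [Coh.IsQCoh F]

/-- A model over an affine open, split in degree zero where the fibre cohomology vanishes. -/
theorem exists_split_model (hfp : CohB1.IsFP F) (hfl : FlatMod.IsFlatOver f F)
    (y : S) (h1 : Subsingleton (CohIII.fiberH f F y 1)) {V : S.Opens} (hV : IsAffineOpen V) (hy : y ∈ V) :
    ∃ (c : Cov f (V := V)) (L : CochainComplex (ModuleCat.{u} Γ(S, V)) ℤ) (χ : L ⟶ KF f hV c F) (r : Γ(S, V))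
      (τ : L.X (0 + 1) →ₗ[Γ(S, V)] L.X 0), QuasiIso χ ∧
      (∀ M : ModuleCat.{u} Γ(S, V), QuasiIso (((tensorRight M).mapHomologicalComplex (ComplexShape.up ℤ)).map χ)) ∧
      IsUnit (S.evaluation V y hy r) ∧ ∀ v, (L.d 0 (0 + 1)).hom (τ ((L.d 0 (0 + 1)).hom v)) = r • (L.d 0 (0 + 1)).hom v := by
  obtain ⟨l⟩ := nonempty_glocal f hV F hfp hfl
  obtain ⟨c, N, χ, hfin, hfree, -, hχ, hB⟩ := exists_quasiIso f hV F hfl l
  let L := CohIII.bcCx l.φ l.m.L
  letI : Algebra Γ(S, V) (S.residueField y) := (S.evaluation V y hy).hom.toAlgebra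
  obtain ⟨θ, hθ, hθ0⟩ : ∃ θ : LinearMap.ker ((L.d ((1 : ℕ) : ℤ) (((1 : ℕ) : ℤ) + 1)).hom.baseChange (S.residueField y)) →ₗ[S.residueField y]
        CohIII.fiberH f F y 1, Function.Surjective θ ∧
        ∀ z, θ z = 0 ↔ ∃ u, (L.d (((1 : ℕ) : ℤ) - 1) ((1 : ℕ) : ℤ)).hom.baseChange (S.residueField y) u = z.1 := by
    obtain ⟨e⟩ := l.exists_fibre_equiv hy 1
    obtain ⟨q₁, hq₁, hq0⟩ := exists_homology_cls (K := S.residueField y) l.φ l.m.L ((1 : ℕ) : ℤ)
    exact ⟨e.toLinearMap.comp q₁, e.surjective.comp hq₁, fun z => (map_eq_zero_iff e e.injective).trans (hq0 z)⟩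
  have hex : LinearMap.ker ((L.d ((1 : ℕ) : ℤ) (((1 : ℕ) : ℤ) + 1)).hom.baseChange (S.residueField y)) ≤
      LinearMap.range ((L.d (((1 : ℕ) : ℤ) - 1) ((1 : ℕ) : ℤ)).hom.baseChange (S.residueField y)) :=
    fun z hz => (hθ0 ⟨z, hz⟩).1 (Subsingleton.elim _ _)
  haveI := hfin
  haveI := hfree
  have hs1 : SplitAt (L.d ((1 : ℕ) : ℤ) (((1 : ℕ) : ℤ) + 1)).hom
      (PrimeSpectrum.comap (algebraMap Γ(S, V) (S.residueField y)) ⊥) := by
    refine splitAt_of_cycles_le _ (hex.trans ?_)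
    let e : L.X (((1 : ℕ) : ℤ) - 1) →ₗ[Γ(S, V)] LinearMap.ker (L.d ((1 : ℕ) : ℤ) (((1 : ℕ) : ℤ) + 1)).hom :=
      LinearMap.codRestrict _ (L.d _ _).hom fun v => Transfer.dd_zero L _ _ _ v
    rintro _ ⟨u, rfl⟩
    exact ⟨e.baseChange _ u, by
      rw [← LinearMap.comp_apply, ← LinearMap.baseChange_comp]
      rfl⟩
  obtain ⟨r, τ, hr, hτ⟩ := splitAt_of_eq L _ (i' := 0) (j' := 0 + 1) (by norm_num) (by norm_num)
    (hs1.prev (LinearMap.ext fun x => Transfer.dd_zero L _ _ _ x) hex)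
  exact ⟨c, L, χ, r, τ, hχ, hB, isUnit_iff_ne_zero.2 fun h0 => hr h0, hτ⟩

/-- Degree zero cycles after base change come from cycles up to a unit. -/
theorem exists_cycle_lift {A B : Type u} [CommRing A] [CommRing B] [Algebra A B]
    {L K : CochainComplex (ModuleCat.{u} A) ℤ} (χ : L ⟶ K) [QuasiIso χ] [Subsingleton (K.X (0 - 1))]
    (hB : QuasiIso (((tensorRight (ModuleCat.of A B)).mapHomologicalComplex (ComplexShape.up ℤ)).map χ))
    (r : A) (τ : L.X (0 + 1) →ₗ[A] L.X 0) (hr : IsUnit (algebraMap A B r))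
    (hτ : ∀ v, (L.d 0 (0 + 1)).hom (τ ((L.d 0 (0 + 1)).hom v)) = r • (L.d 0 (0 + 1)).hom v)
    (hfrac : ∀ b : B, ∃ a r : A, IsUnit (algebraMap A B r) ∧ algebraMap A B r * b = algebraMap A B a)
    (w : B ⊗[A] K.X 0) (hw : (K.d 0 (0 + 1)).hom.baseChange B w = 0) :
    ∃ (r₁ : A) (x : K.X 0), IsUnit (algebraMap A B r₁) ∧ (K.d 0 (0 + 1)).hom x = 0 ∧
      (1 : B) ⊗ₜ[A] x = algebraMap A B r₁ • w := by
  obtain ⟨q₀, y₀, hq₀, hy₀⟩ := Transfer.coneExact_baseChange χ B hB 0 0 w (map_zero _)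
    ((map_zero _).trans hw.symm)
  haveI : Subsingleton (B ⊗[A] K.X (0 - 1)) := by
    refine subsingleton_of_forall_eq 0 fun t => ?_
    induction t using TensorProduct.induction_on with
    | zero => rfl
    | tmul b x => rw [Subsingleton.elim x 0]; exact TensorProduct.tmul_zero _ _
    | add a b ha hb => rw [ha, hb, add_zero]
  rw [Subsingleton.elim y₀ 0, map_zero, add_zero] at hy₀
  obtain ⟨t, ht⟩ := cycles_le_of_split (L.d 0 (0 + 1)).hom r τ hr hτ hq₀
  obtain ⟨r₁, z, hr₁, hz⟩ := exists_clear hfrac t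
  refine ⟨r₁, (χ.f 0).hom z.1, hr₁, ?_, ?_⟩
  · rw [← Transfer.comm' χ, show (L.d 0 (0 + 1)).hom z.1 = 0 from z.2, map_zero]
  · rw [algebraMap_smul, ← hy₀, ← ht]
    show (χ.f 0).hom.baseChange B ((1 : B) ⊗ₜ z.1) = _
    rw [show (1 : B) ⊗ₜ[A] z.1 = (LinearMap.ker (L.d 0 (0 + 1)).hom).subtype.baseChange B ((1 : B) ⊗ₜ z) from rfl,
      ← hz, LinearMap.map_smul_of_tower, LinearMap.map_smul_of_tower]

theorem hfrac_B {V : S.Opens} (hV : IsAffineOpen V) (y : S) (hy : y ∈ V)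
    [Algebra Γ(S, V) Γ(Spec (S.residueField y), (⊤ : (Spec (S.residueField y)).Opens))]
    (hφ : ∀ a, algebraMap Γ(S, V) Γ(Spec (S.residueField y), (⊤ : (Spec (S.residueField y)).Opens)) a =
      (Scheme.ΓSpecIso (S.residueField y)).inv (S.evaluation V y hy a))
    (b : Γ(Spec (S.residueField y), (⊤ : (Spec (S.residueField y)).Opens))) :
    ∃ a r : Γ(S, V), IsUnit (algebraMap Γ(S, V) Γ(Spec (S.residueField y), (⊤ : (Spec (S.residueField y)).Opens)) r) ∧
      algebraMap Γ(S, V) Γ(Spec (S.residueField y), (⊤ : (Spec (S.residueField y)).Opens)) r * b =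
        algebraMap Γ(S, V) _ a := by
  obtain ⟨a, r, h, h'⟩ := exists_frac hV y hy ((Scheme.ΓSpecIso (S.residueField y)).hom b)
  refine ⟨a, r, ?_, ?_⟩
  · rw [hφ]; exact h.map _
  · rw [hφ, hφ, ← h', map_mul]
    exact congrArg (_ * ·) (congr($((Scheme.ΓSpecIso (S.residueField y)).hom_inv_id) b)).symm

/-- The cochain of a section is a cocycle. -/
theorem dL_glued {X' Y' : Scheme.{u}} (f' : X' ⟶ Y') {V' : Y'.Opens} (hV' : IsAffineOpen V')
    (c : Cov f' (V := V')) (F' : X'.Modules) (σ : Γ(F', f' ⁻¹ᵁ V')) (z : CF f' hV' c F' 0)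
    (hz : Glues f' hV' c F' σ z) : dL (ρV f' hV') (FV f' (V := V') F') c.U 0 z = 0 := by
  refine funext fun a => ?_
  rw [dL_apply _ _ _ le_rfl]
  obtain ⟨l', hl'⟩ := a
  obtain ⟨i, j, rfl⟩ : ∃ i j, l' = [i, j] := List.length_eq_two.1 (by omega)
  erw [Fin.sum_univ_two]
  simp only [Fin.val_zero, Fin.val_one, pow_zero, one_smul, pow_one, neg_smul, ← sub_eq_add_neg]
  refine sub_eq_zero.2 ?_
  let e : Idx c.ι ((0 : ℤ) + 1) := ⟨[i, j], by simp⟩
  show rs F' ((f' ⁻¹ᵁ V').ι.image_mono (opn_le_erase c.U e.1 0))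
      (show Γ(F', (f' ⁻¹ᵁ V').ι ''ᵁ opn c.U (sing f' c j).1) from z (sing f' c j)) =
    rs F' ((f' ⁻¹ᵁ V').ι.image_mono (opn_le_erase c.U e.1 1))
      (show Γ(F', (f' ⁻¹ᵁ V').ι ''ᵁ opn c.U (sing f' c i).1) from z (sing f' c i))
  rw [← hz (sing f' c j), ← hz (sing f' c i), rs_rs, rs_rs]

/-- A section on a fibre with vanishing first cohomology lifts, up to a function on the base invertible
at the point, near the fibre. -/
theorem exists_lift_scalar (hfp : CohB1.IsFP F) (hfl : FlatMod.IsFlatOver f F)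
    (y : S) (h1 : Subsingleton (CohIII.fiberH f F y 1))
    {V : S.Opens} (hV : IsAffineOpen V) (hy : y ∈ V)
    (σ : Γ((Scheme.Modules.pullback (f.fiberι y)).obj F, f.fiberToSpecResidueField y ⁻¹ᵁ ⊤))
    (hle : f.fiberToSpecResidueField y ⁻¹ᵁ ⊤ ≤ f.fiberι y ⁻¹ᵁ (f ⁻¹ᵁ V)) :
    ∃ (s : Γ(F, f ⁻¹ᵁ V)) (r : Γ(S, V)), IsUnit (S.evaluation V y hy r) ∧
      IsUnit (ro hle ((f.fiberι y).app (f ⁻¹ᵁ V) (f.app V r))) ∧
      rs _ hle (pull (f.fiberι y) F (f ⁻¹ᵁ V) s) = ro hle ((f.fiberι y).app (f ⁻¹ᵁ V) (f.app V r)) • σ := by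
  have hle' : (⊤ : (Spec (S.residueField y)).Opens) ≤ S.fromSpecResidueField y ⁻¹ᵁ V := fun z _ => by
    show S.fromSpecResidueField y z ∈ V
    rw [Scheme.fromSpecResidueField_apply]
    exact hy
  have key : ∀ a : Γ(S, V), ro hle ((f.fiberι y).app (f ⁻¹ᵁ V) (f.app V a)) =
      (f.fiberToSpecResidueField y).app ⊤ ((S.fromSpecResidueField y).appLE V ⊤ hle' a) := fun a => by
    have hc : f.fiberι y ≫ f = f.fiberToSpecResidueField y ≫ S.fromSpecResidueField y := pullback.condition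
    have h1 : ∀ (k k' : f.fiber y ⟶ S) (h : k = k') (e₁ : f.fiberToSpecResidueField y ⁻¹ᵁ ⊤ ≤ k ⁻¹ᵁ V)
        (e₂ : f.fiberToSpecResidueField y ⁻¹ᵁ ⊤ ≤ k' ⁻¹ᵁ V), k.appLE V _ e₁ a = k'.appLE V _ e₂ a := by
      rintro k _ rfl e₁ e₂; rfl
    have e₂ : f.fiberToSpecResidueField y ⁻¹ᵁ ⊤ ≤ f.fiberToSpecResidueField y ⁻¹ᵁ (S.fromSpecResidueField y ⁻¹ᵁ V) :=
      Scheme.Hom.preimage_mono _ hle'
    refine (h1 _ _ hc hle e₂).trans ?_
    refine congr($((Scheme.Hom.appLE_comp_appLE (f.fiberToSpecResidueField y) (S.fromSpecResidueField y) V ⊤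
      (f.fiberToSpecResidueField y ⁻¹ᵁ ⊤) hle' le_rfl).symm) a).trans ?_
    show (f.fiberToSpecResidueField y).appLE ⊤ _ le_rfl _ = _
    rw [Scheme.Hom.appLE_eq_app]
    rfl
  let q : Sq f (S.fromSpecResidueField y) (f.fiberToSpecResidueField y) (f.fiberι y) V ⊤ :=
    ⟨hV, isAffineOpen_top _, hle', IsPullback.of_hasPullback _ _⟩
  letI : Algebra Γ(S, V) Γ(Spec (S.residueField y), (⊤ : (Spec (S.residueField y)).Opens)) := q.φ.hom.toAlgebra
  have halg : algebraMap Γ(S, V) Γ(Spec (S.residueField y), (⊤ : (Spec (S.residueField y)).Opens)) = q.φ.hom := rfl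
  have hφ : ∀ a, algebraMap Γ(S, V) Γ(Spec (S.residueField y), (⊤ : (Spec (S.residueField y)).Opens)) a =
      (Scheme.ΓSpecIso (S.residueField y)).inv (S.evaluation V y hy a) := fun a =>
    congr($(fromSpecResidueField_app_top y hy hle') a)
  obtain ⟨c, L, χ, r, τ, hχ, hB, hr, hτ⟩ := exists_split_model f F hfp hfl y h1 hV hy
  haveI := hχ
  haveI : Subsingleton ((KF f hV c F).X (0 - 1)) := subsingleton_C (ρV f hV) (FV f (V := V) F) c.U (by omega)
  haveI : Coh.IsQCoh (F.restrict (f ⁻¹ᵁ V).ι) := Scheme.Modules.isQuasicoherent_restrictFunctor _ F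
  let F' := (Scheme.Modules.pullback (f.fiberι y)).obj F
  haveI : IsSeparated (f.fiberToSpecResidueField y) := MorphismProperty.of_isPullback q.pb inferInstance
  haveI : QuasiCompact (f.fiberToSpecResidueField y) := MorphismProperty.of_isPullback q.pb inferInstance
  obtain ⟨e₀, he₀⟩ := q.exists_ΦE halg c F 0
  obtain ⟨e₁, he₁⟩ := q.exists_ΦE halg c F (0 + 1)
  have hcomm : ∀ t, e₁ ((dF f hV c F 0 (0 + 1)).baseChange _ t) = dF _ q.hV' (q.cov c) F' 0 (0 + 1) (e₀ t) := by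
    intro t
    induction t using TensorProduct.induction_on with
    | zero => simp only [map_zero]
    | add a b ha hb => simp only [map_add, ha, hb]
    | tmul b x => rw [LinearMap.baseChange_tmul, he₁, he₀, map_smul, ← q.Φ₀_dF halg]
  let z' : CF _ q.hV' (q.cov c) F' 0 := fun a => rs F' (image_le _ _) σ
  have hz' : Glues _ q.hV' (q.cov c) F' σ z' := fun a => rfl
  have hdz' : dF _ q.hV' (q.cov c) F' 0 (0 + 1) z' = 0 :=
    (K_d (ρV _ q.hV') _ (q.cov c).U 0 z').trans (dL_glued _ q.hV' (q.cov c) F' σ z' hz')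
  have hw : (dF f hV c F 0 (0 + 1)).baseChange _ (e₀.symm z') = 0 := by
    refine e₁.injective ?_
    rw [hcomm, e₀.apply_symm_apply, hdz', map_zero]
  obtain ⟨r₁, x, hr₁, hxd, hxw⟩ := exists_cycle_lift χ (hB _) r τ (by rw [hφ]; exact hr.map _) hτ
    (hfrac_B hV y hy hφ) (e₀.symm z') hw
  obtain ⟨s, hs⟩ := exists_glues f hV c F ((K_d (ρV f hV) (FV f (V := V) F) c.U 0 x).symm.trans hxd)
  have hgl := q.glues_pull halg c hs
  have h3 := congrArg e₀ hxw
  rw [he₀, one_smul, map_smul, e₀.apply_symm_apply] at h3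
  refine ⟨s, r₁, by
    have := hr₁.map (Scheme.ΓSpecIso (S.residueField y)).hom.hom
    rw [hφ] at this
    rwa [show (Scheme.ΓSpecIso (S.residueField y)).hom.hom ((Scheme.ΓSpecIso (S.residueField y)).inv
      (S.evaluation V y hy r₁)) = _ from
      congr($((Scheme.ΓSpecIso (S.residueField y)).inv_hom_id) (S.evaluation V y hy r₁))] at this,
    (key r₁).symm ▸ hr₁.map _, ?_⟩
  refine glues_inj _ q.hV' (q.cov c) F' hgl fun a => ?_
  rw [show ro hle ((f.fiberι y).app (f ⁻¹ᵁ V) (f.app V r₁)) =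
    (f.fiberToSpecResidueField y).app ⊤ (algebraMap Γ(S, V) _ r₁) from key r₁]
  rw [h3, Classes.smul_apply, rs_smul, hz' a]

/-- A section on a fibre with vanishing first cohomology lifts, up to a unit, near the fibre. -/
theorem exists_lift (hfp : CohB1.IsFP F) (hfl : FlatMod.IsFlatOver f F)
    (y : S) (h1 : Subsingleton (CohIII.fiberH f F y 1))
    {V : S.Opens} (hV : IsAffineOpen V) (hy : y ∈ V)
    (σ : Γ((Scheme.Modules.pullback (f.fiberι y)).obj F, f.fiberToSpecResidueField y ⁻¹ᵁ ⊤))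
    (hle : f.fiberToSpecResidueField y ⁻¹ᵁ ⊤ ≤ f.fiberι y ⁻¹ᵁ (f ⁻¹ᵁ V)) :
    ∃ (s : Γ(F, f ⁻¹ᵁ V)) (u : Γ(f.fiber y, f.fiberToSpecResidueField y ⁻¹ᵁ ⊤)),
      IsUnit u ∧ rs _ hle (pull (f.fiberι y) F (f ⁻¹ᵁ V) s) = u • σ := by
  obtain ⟨s, r, -, hu, he⟩ := exists_lift_scalar f F hfp hfl y h1 hV hy σ hle
  exact ⟨s, _, hu, he⟩

omit [Coh.IsQCoh F] in
/-- A nowhere vanishing section on a fibre comes from one near the fibre. -/
theorem exists_frame_near [IsLocallyNoetherian S] [Flat f] {N : X.Modules} (hN : PicF.IsInvertible N) (y : S)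
    (h1 : Subsingleton (CohIII.fiberH f N y 1))
    (σ : Γ((Scheme.Modules.pullback (f.fiberι y)).obj N, ⊤)) (hσ : IsFrame _ ⊤ σ) :
    ∃ (U : S.Opens) (s : Γ(N, f ⁻¹ᵁ U)), y ∈ U ∧ IsFrame N (f ⁻¹ᵁ U) s := by
  haveI := Groth.L21.Extend.isQCoh_of_isInvertible hN
  have hlf := Groth.L16.Existence.isFinLocFree_of_isInvertible hN
  have hfl := Groth.L29.DC.RelTor.isFlatOver_of_isFlat f (Groth.L29.DC.isFlat_of_isFinLocFree hlf)
  obtain ⟨_, ⟨V, hV, rfl⟩, hy, -⟩ :=
    S.isBasis_affineOpens.exists_subset_of_mem_open (Set.mem_univ y) isOpen_univ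
  have hle : f.fiberToSpecResidueField y ⁻¹ᵁ ⊤ ≤ f.fiberι y ⁻¹ᵁ (f ⁻¹ᵁ V) := fun z _ => by
    show f (f.fiberι y z) ∈ V
    have : f.fiberι y z ∈ Set.range (f.fiberι y) := ⟨z, rfl⟩
    rw [Scheme.Hom.range_fiberι] at this
    rw [show f (f.fiberι y z) = y from this]
    exact hy
  obtain ⟨s, u, hu, he⟩ := exists_lift f N (Groth.L18.LFP.isFP_of_isFinLocFree N hlf) hfl y h1 hV hy
    (rs _ le_top σ) hle
  have hσ' := (hσ.mono (le_top : f.fiberToSpecResidueField y ⁻¹ᵁ ⊤ ≤ ⊤)).smul_unit hu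
  rw [← he] at hσ'
  have key : ∀ x : X, f x = y → ∃ (W : X.Opens) (h : W ≤ f ⁻¹ᵁ V), x ∈ W ∧ IsFrame N W (rs N h s) := by
    intro x hx
    obtain ⟨z, rfl⟩ : x ∈ Set.range (f.fiberι y) := by rw [Scheme.Hom.range_fiberι]; exact hx
    obtain ⟨W₀, e₀, hxW₀, he₀⟩ := Groth.L18.Frame.exists_frame hN (f.fiberι y z)
    let W := W₀ ⊓ f ⁻¹ᵁ V
    obtain ⟨a, ha⟩ := (he₀.mono (inf_le_left : W ≤ W₀)).exists_coeff le_rfl (rs N inf_le_right s)
    rw [rs_self] at ha
    have hxW : f.fiberι y z ∈ W := ⟨hxW₀, by show f _ ∈ V; rw [hx]; exact hy⟩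
    have hWle : f.fiberι y ⁻¹ᵁ W ≤ f.fiberToSpecResidueField y ⁻¹ᵁ ⊤ := fun _ _ => trivial
    have hp := (he₀.mono (inf_le_left : W ≤ W₀)).pullback (f.fiberι y)
    have hq := hσ'.mono hWle
    rw [rs_rs, show rs _ (hWle.trans hle) (pull (f.fiberι y) N (f ⁻¹ᵁ V) s) =
      pull (f.fiberι y) N W (rs N inf_le_right s) from pull_rs (f.fiberι y) N inf_le_right s, ← ha, pull_smul] at hq
    have hua := Groth.L18.Frame.isUnit_of_isFrame hp hq
    have hxa : f.fiberι y z ∈ X.basicOpen a := by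
      have hz : z ∈ f.fiberι y ⁻¹ᵁ W := hxW
      have : z ∈ (f.fiber y).basicOpen ((f.fiberι y).app W a) := by
        rw [Scheme.basicOpen_of_isUnit _ hua]; exact hz
      rw [← Scheme.preimage_basicOpen] at this
      exact this
    refine ⟨X.basicOpen a, (X.basicOpen_le a).trans inf_le_right, hxa, ?_⟩
    have hf := ((he₀.mono (inf_le_left : W ≤ W₀)).mono (X.basicOpen_le a)).smul_unit
      (RingedSpace.isUnit_res_basicOpen X.toLocallyRingedSpace.toRingedSpace a)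
    rw [← rs_smul, ha, rs_rs] at hf
    exact hf
  choose W hWle hxW hWf using key
  let G : X.Opens := ⨆ (x : X) (h : f x = y), W x h
  have hcl : IsClosed (f '' (G : Set X)ᶜ) := f.isClosedMap _ G.2.isClosed_compl
  let U : S.Opens := V ⊓ ⟨(f '' (G : Set X)ᶜ)ᶜ, hcl.isOpen_compl⟩
  have hyU : y ∈ U := ⟨hy, fun ⟨x, hx, hxy⟩ => hx (Opens.mem_iSup.2 ⟨x, Opens.mem_iSup.2 ⟨hxy, hxW x hxy⟩⟩)⟩
  refine ⟨U, rs N (f.preimage_mono inf_le_left) s, hyU, ?_⟩
  refine IsFrame.of_cover (ι := {x : X // f x = y}) (fun p => W p.1 p.2 ⊓ f ⁻¹ᵁ U) (fun p => inf_le_right)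
    (fun x hx => ?_) (fun p => ?_)
  · have : x ∈ G := by
      by_contra hn
      exact hx.2 ⟨x, hn, rfl⟩
    obtain ⟨x', hx'⟩ := Opens.mem_iSup.1 this
    obtain ⟨h, hW⟩ := Opens.mem_iSup.1 hx'
    exact Opens.mem_iSup.2 ⟨⟨x', h⟩, hW, hx⟩
  · have := (hWf p.1 p.2).mono (inf_le_left : W p.1 p.2 ⊓ f ⁻¹ᵁ U ≤ _)
    rw [rs_rs] at this ⊢
    exact this

open Groth.L00.Tensor (tensorIso tensorAssoc tensorComm tensorUnitLeft tensorUnitRight)
open Groth.L29.DC.PullTensor (pullTensor)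

omit [Coh.IsQCoh F] in
/-- Invertible modules isomorphic on a fibre with vanishing first cohomology are isomorphic near it. -/
theorem exists_iso_near [IsLocallyNoetherian S] [Flat f] (y : S)
    (h1 : Subsingleton (Coh.HH (f.fiber y) (Coh.structureModule (f.fiber y)) 1))
    (L M : X.Modules) (hL : PicF.IsInvertible L) (hM : PicF.IsInvertible M)
    (hy : Nonempty (CohIII.fiberMod f L y ≅ CohIII.fiberMod f M y)) :
    ∃ U : S.Opens, y ∈ U ∧ Nonempty (L.restrict (f ⁻¹ᵁ U).ι ≅ M.restrict (f ⁻¹ᵁ U).ι) := by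
  obtain ⟨L', hL', ⟨j⟩⟩ := Groth.L08.Cube.exists_inverse hL
  obtain ⟨i⟩ := hy
  let N := CohB1.tensorMod L' M
  have hN : PicF.IsInvertible N := Groth.L18.GenLoc.isInvertible_tensor hL' hM
  let g := f.fiberι y
  let ε : (Scheme.Modules.pullback g).obj N ≅ Coh.structureModule (f.fiber y) :=
    (pullTensor g L' M).symm ≪≫ tensorIso (Iso.refl _) i.symm ≪≫ pullTensor g L' L ≪≫
      (Scheme.Modules.pullback g).mapIso (tensorComm L' L ≪≫ j) ≪≫ Groth.L29.LocFree.pullbackUnitIso g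
  have h1N : Subsingleton (CohIII.fiberH f N y 1) :=
    (HHequiv ε 1).toEquiv.subsingleton
  let σ : Γ((Scheme.Modules.pullback g).obj N, ⊤) := ε.inv.app ⊤ (1 : Γ(f.fiber y, ⊤))
  have hσ : IsFrame _ ⊤ σ := fun V h => by
    have hfun : (fun a : Γ(f.fiber y, V) => a • rs _ h σ) = fun a : Γ(f.fiber y, V) => ε.inv.app V a := by
      funext a
      have h2 : rs _ h σ = ε.inv.app V (rs (Coh.structureModule (f.fiber y)) h (1 : Γ(f.fiber y, ⊤))) :=
        (congr($(ε.inv.mapPresheaf.naturality (homOfLE h).op) (1 : Γ(f.fiber y, ⊤)))).symm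
      rw [h2]
      refine (ε.inv.app_smul a _).symm.trans (congrArg (ε.inv.app V) ?_)
      exact (congrArg (fun c : Γ(f.fiber y, V) => a * c) (map_one ((f.fiber y).presheaf.map (homOfLE h).op).hom)).trans (mul_one a)
    rw [hfun]
    exact ConcreteCategory.bijective_of_isIso (ε.inv.app V)
  obtain ⟨U, s, hyU, hs⟩ := exists_frame_near f hN y h1N σ hσ
  let G := f ⁻¹ᵁ U
  have hs' : IsFrame (N.restrict G.ι) ⊤ (show Γ(N, G.ι ''ᵁ ⊤) from rs N G.ι_image_top.le s) :=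
    (Groth.L18.Ample.isFrame_restrict_iff N G ⊤ _).mpr (hs.mono _)
  obtain ⟨t⟩ := Groth.L08.Cube.nonempty_iso_of_frame_top hs'
  let P := Scheme.Modules.pullback G.ι
  let rp := fun (K : X.Modules) => (Scheme.Modules.restrictFunctorIsoPullback G.ι).app K
  let e : P.obj L ≅ P.obj M :=
    (tensorUnitRight _).symm ≪≫ tensorIso (Iso.refl _) (t.symm ≪≫ rp N) ≪≫ pullTensor G.ι L N ≪≫
      P.mapIso ((tensorAssoc L L' M).symm ≪≫ tensorIso j (Iso.refl M) ≪≫ tensorUnitLeft M)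
  exact ⟨U, hyU, ⟨rp L ≪≫ e ≪≫ (rp M).symm⟩⟩

end Groth.L16.Rees.NearFibre
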