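import Groth.Agent.L18.FiberStalk
import Groth.Agent.L16.Rees.InvNearFibre
import Mathlib.AlgebraicGeometry.ZariskisMainTheorem
import Mathlib.RingTheory.Nakayama
import Mathlib.RingTheory.Flat.Basic
import Mathlib.RingTheory.Ideal.GoingUp

/-!
# A morphism which is an isomorphism on a fibre of a flat family is one near the fibre
-/

set_option autoImplicit false
set_option linter.style.haveILetI false
set_option linter.unusedSectionVars false
set_option backward.isDefEq.respectTransparency false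

universe u

open CategoryTheory CategoryTheory.Limits AlgebraicGeometry TopologicalSpace Opposite
open scoped TensorProduct

noncomputable section

namespace Groth.L16.Rees.IsoNear

/-- Fibrewise criterion for bijectivity of a finite local homomorphism into a flat algebra. -/
theorem bijective_of_fibre {D R S F : Type u} [CommRing D] [CommRing R] [CommRing S] [CommRing F]
    [IsLocalRing D] [IsLocalRing R] [IsNoetherianRing R] (a : D →+* R) [IsLocalHom a] (φ : R →+* S) (σ : S →+* F)
    (hfin : φ.Finite) (hflat : (φ.comp a).Flat) (hsurj : Function.Surjective (σ.comp φ))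
    (hker : RingHom.ker (σ.comp φ) = (IsLocalRing.maximalIdeal D).map a)
    (hσ : RingHom.ker σ = (IsLocalRing.maximalIdeal D).map (φ.comp a)) : Function.Bijective φ := by
  let m := IsLocalRing.maximalIdeal D
  let J : Ideal R := m.map a
  have hJ : J ≤ IsLocalRing.maximalIdeal R :=
    Ideal.map_le_iff_le_comap.2 fun d hd => map_nonunit a d hd
  letI : Algebra R S := φ.toAlgebra
  haveI : Module.Finite R S := hfin
  have hφs : Function.Surjective φ := by
    let N : Submodule R S := LinearMap.range (Algebra.linearMap R S)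
    have h : (⊤ : Submodule R S) ≤ N ⊔ J • ⊤ := fun s _ => by
      obtain ⟨r, hr⟩ := hsurj (σ s)
      have hd : s - φ r ∈ (J • ⊤ : Submodule R S) := by
        rw [Ideal.smul_top_eq_map]
        show s - φ r ∈ (m.map a).map φ
        rw [Ideal.map_map, ← hσ, RingHom.mem_ker, map_sub, ← RingHom.comp_apply, hr, sub_self]
      exact Submodule.mem_sup.2 ⟨φ r, ⟨r, rfl⟩, _, hd, add_sub_cancel _ _⟩
    have := Submodule.le_of_le_smul_of_le_jacobson_bot Module.Finite.fg_top
      (hJ.trans (IsLocalRing.maximalIdeal_le_jacobson ⊥)) h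
    exact fun s => this Submodule.mem_top
  refine ⟨?_, hφs⟩
  · letI : Algebra D R := a.toAlgebra
    letI : Algebra D S := (φ.comp a).toAlgebra
    haveI : IsScalarTower D R S := IsScalarTower.of_algebraMap_eq fun _ => rfl
    haveI : Module.Flat D S := hflat
    let K : Ideal R := RingHom.ker φ
    let φD : R →ₗ[D] S := (IsScalarTower.toAlgHom D R S).toLinearMap
    let KD : Submodule D R := K.restrictScalars D
    let μ : ∀ (V : Type u) [AddCommGroup V] [Module D V], m ⊗[D] V →ₗ[D] V :=
      fun V _ _ => TensorProduct.lift ((LinearMap.lsmul D V).comp m.subtype)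
    have hmem : K ≤ J • K := fun k hk => by
      have hkJ : k ∈ J := hker.le (show σ (φ k) = 0 by rw [show φ k = 0 from hk, map_zero])
      obtain ⟨t, ht⟩ : ∃ t, μ R t = k := by
        change k ∈ LinearMap.range (μ R)
        refine Submodule.span_induction (p := fun z _ => z ∈ LinearMap.range (μ R)) ?_ (zero_mem _)
          (fun _ _ _ _ h h' => add_mem h h') (fun c z _ hz => ?_) (show k ∈ Ideal.span (a '' m) from hkJ)
        · rintro _ ⟨d, hd, rfl⟩
          exact ⟨(⟨d, hd⟩ : m) ⊗ₜ 1, by simp [μ, Algebra.smul_def]; rfl⟩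
        · obtain ⟨t, rfl⟩ := hz
          refine ⟨(LinearMap.mulLeft D c).lTensor m t, ?_⟩
          exact LinearMap.congr_fun (TensorProduct.ext' (g := μ R ∘ₗ (LinearMap.mulLeft D c).lTensor m)
            (h := LinearMap.mulLeft D c ∘ₗ μ R) fun d r => by simp [μ]) t
      have h0 : φD.lTensor m t = 0 := by
        have hinj : Function.Injective (μ S) := by
          have : μ S = (TensorProduct.lid D S).toLinearMap ∘ₗ m.subtype.rTensor S :=
            TensorProduct.ext' fun d v => by simp [μ]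
          rw [this]
          exact (TensorProduct.lid D S).injective.comp
            (Module.Flat.rTensor_preserves_injective_linearMap _ m.injective_subtype)
        refine hinj ?_
        rw [map_zero, show μ S (φD.lTensor m t) = φD (μ R t) from
          LinearMap.congr_fun (TensorProduct.ext' (g := μ S ∘ₗ φD.lTensor m) (h := φD ∘ₗ μ R)
            fun d r => by simp [μ, φD, Algebra.smul_def, map_mul, ← IsScalarTower.algebraMap_apply]) t, ht]
        exact hk
      have hex : Function.Exact KD.subtype φD := fun r => ⟨fun h => ⟨⟨r, h⟩, rfl⟩, fun ⟨s, hs⟩ => hs ▸ s.2⟩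
      obtain ⟨v, rfl⟩ := (lTensor_exact m hex hφs t).1 h0
      rw [← ht]
      clear ht h0
      induction v using TensorProduct.induction_on with
      | zero => simp
      | tmul d s =>
        simp only [LinearMap.lTensor_tmul, μ, TensorProduct.lift.tmul, LinearMap.comp_apply,
          Submodule.subtype_apply, LinearMap.lsmul_apply]
        rw [Algebra.smul_def]
        exact Submodule.smul_mem_smul (Ideal.mem_map_of_mem a d.2) s.2
      | add x y hx hy => rw [map_add, map_add]; exact add_mem hx hy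
    refine (injective_iff_map_eq_zero φ).2 fun k hk => ?_
    have := Submodule.eq_bot_of_le_smul_of_le_jacobson_bot J K (IsNoetherian.noetherian _) hmem
      (hJ.trans (IsLocalRing.maximalIdeal_le_jacobson ⊥))
    exact (Submodule.mem_bot R).1 (this ▸ (show k ∈ K from hk))

variable {X Y Z : Scheme.{u}}

/-- The stalk map at a point over a fibre on which the morphism is an isomorphism is bijective. -/
theorem bijective_stalkMap (f : X ⟶ Y) (h : Y ⟶ Z) [IsLocallyNoetherian Y] [Flat (f ≫ h)] (z : Z)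
    [IsIso (CohIII.fiberMapOver f (f ≫ h) h rfl z)] (ξ : (f ≫ h).fiber z)
    (hfin : (f.stalkMap ((f ≫ h).fiberι z ξ)).hom.Finite) :
    Function.Bijective (f.stalkMap ((f ≫ h).fiberι z ξ)) := by
  let i := (f ≫ h).fiberι z
  let μ := CohIII.fiberMapOver f (f ≫ h) h rfl z
  let ι : (f ≫ h).fiber z ⟶ Y := i ≫ f
  have hι : ι = μ ≫ h.fiberι z := (pullback.lift_fst _ _ _).symm
  haveI : IsPreimmersion ι := hι ▸ inferInstance
  have hz : h (ι ξ) = z := by
    have : i ξ ∈ Set.range i := ⟨ξ, rfl⟩
    rw [Scheme.Hom.range_fiberι] at this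
    exact this
  have hp : ∀ t, t = z → ∃ p : (f ≫ h).fiber z ⟶ Spec (Z.residueField t),
      IsPullback ι p h (Z.fromSpecResidueField t) := by
    rintro t rfl
    refine ⟨μ ≫ h.fiberToSpecResidueField _, ?_⟩
    exact (IsPullback.of_hasPullback h (Z.fromSpecResidueField _)).of_iso (asIso μ).symm (Iso.refl _) (Iso.refl _)
      (Iso.refl _) (by simp [hι, μ]; rfl) (by simp [μ]; rfl) (by simp) (by simp)
  obtain ⟨p, H⟩ := hp _ hz
  have hker := Groth.L18.stalkMap_fiberι_aux h ι ξ (ι ξ) rfl p H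
  have hc : ι.stalkMap ξ = f.stalkMap (i ξ) ≫ i.stalkMap ξ := Scheme.Hom.stalkMap_comp i f ξ
  rw [hc, CommRingCat.hom_comp] at hker
  have hσ := (Groth.L18.stalkMap_fiberι (f ≫ h) z ξ).2
  rw [Scheme.Hom.stalkMap_comp, CommRingCat.hom_comp] at hσ
  have hs := ι.stalkMap_surjective ξ
  rw [hc] at hs
  have hfl := Flat.stalkMap (f ≫ h) (i ξ)
  rw [Scheme.Hom.stalkMap_comp, CommRingCat.hom_comp] at hfl
  haveI : IsNoetherianRing (Y.presheaf.stalk (f (i ξ))) := inferInstance
  exact bijective_of_fibre (h.stalkMap (f (i ξ))).hom (f.stalkMap (i ξ)).hom (i.stalkMap ξ).hom hfin hfl hs hker hσ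

/-- Over an affine open on which the morphism is finite, a point with one preimage and bijective stalk map
has a neighbourhood over which the morphism is an isomorphism. -/
theorem exists_isIso_restrict (f : X ⟶ Y) [IsLocallyNoetherian Y] {W : Y.Opens} (hW : IsAffineOpen W)
    (hW' : IsAffineOpen (f ⁻¹ᵁ W)) (hfinW : (f.app W).hom.Finite) (x : X) (hxW : f x ∈ W)
    (huniq : ∀ x', f x' = f x → x' = x)
    (hbij : (f.stalkMap x).hom.Finite → Function.Bijective (f.stalkMap x)) :
    ∃ D : Y.Opens, f x ∈ D ∧ IsIso (f ∣_ D) := by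
  classical
  let R := Γ(Y, W)
  let S := Γ(X, f ⁻¹ᵁ W)
  haveI : IsNoetherianRing R := IsLocallyNoetherian.component_noetherian ⟨W, hW⟩
  letI : Algebra R S := (f.app W).hom.toAlgebra
  haveI : Module.Finite R S := hfinW
  haveI : Algebra.IsIntegral R S := inferInstance
  let p := (hW.primeIdealOf ⟨f x, hxW⟩).asIdeal
  let q := (hW'.primeIdealOf ⟨x, hxW⟩).asIdeal
  have hqp : q.comap (f.app W).hom = p := by
    have h1 := congrArg (fun P : PrimeSpectrum R => P.asIdeal)
      (IsAffineOpen.comap_primeIdealOf_appLE (f := f) W hW (f ⁻¹ᵁ W) hW' le_rfl hxW)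
    rw [← Scheme.Hom.appLE_eq_app]
    exact h1
  have hq : p.primesOver S = {q} := by
    ext Q
    constructor
    · rintro ⟨hQ, ⟨hQp⟩⟩
      let x' := hW'.fromSpec ⟨Q, hQ⟩
      have hx' : x' ∈ f ⁻¹ᵁ W := hW'.range_fromSpec.le ⟨_, rfl⟩
      have e : hW'.primeIdealOf ⟨x', hx'⟩ = ⟨Q, hQ⟩ :=
        hW'.fromSpec.isOpenEmbedding.injective (hW'.fromSpec_primeIdealOf _)
      have h1 := IsAffineOpen.comap_primeIdealOf_appLE (f := f) W hW (f ⁻¹ᵁ W) hW' le_rfl hx'
      have h2 : hW.primeIdealOf ⟨f x', hx'⟩ = hW.primeIdealOf ⟨f x, hxW⟩ := by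
        rw [← h1, e]
        apply PrimeSpectrum.ext
        rw [PrimeSpectrum.comap_asIdeal, Scheme.Hom.appLE_eq_app]
        exact hQp.symm
      have h3 : f x' = f x := by
        exact ((hW.fromSpec_primeIdealOf ⟨f x', hx'⟩).symm.trans (congrArg hW.fromSpec h2)).trans
          (hW.fromSpec_primeIdealOf _)
      have h4 := huniq x' h3
      show Q = q
      rw [← show (hW'.primeIdealOf ⟨x', hx'⟩).asIdeal = Q from congrArg PrimeSpectrum.asIdeal e]
      simp only [q, h4]
    · rintro rfl
      exact ⟨(hW'.primeIdealOf _).isPrime, ⟨hqp.symm⟩⟩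
  let gY : R →+* Y.presheaf.stalk (f x) := (Y.presheaf.germ W (f x) hxW).hom
  let gX : S →+* X.presheaf.stalk x := (X.presheaf.germ (f ⁻¹ᵁ W) x hxW).hom
  have hg : ∀ r, (f.stalkMap x).hom (gY r) = gX (algebraMap R S r) := fun r =>
    Scheme.Hom.germ_stalkMap_apply f W x hxW r
  letI : Algebra R (Y.presheaf.stalk (f x)) := Y.presheaf.algebra_section_stalk ⟨f x, hxW⟩
  letI : Algebra S (X.presheaf.stalk x) := X.presheaf.algebra_section_stalk (U := f ⁻¹ᵁ W) ⟨x, hxW⟩
  haveI hlY : IsLocalization.AtPrime (Y.presheaf.stalk (f x)) p := hW.isLocalization_stalk ⟨f x, hxW⟩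
  haveI hlX : IsLocalization.AtPrime (X.presheaf.stalk x) q := hW'.isLocalization_stalk ⟨x, hxW⟩
  have hdvd : ∀ t, t ∉ q → ∃ d ∉ p, t ∣ algebraMap R S d :=
    Ideal.exists_notMem_dvd_algebraMap_of_primesOver_eq_singleton hq
  have hunit : ∀ d ∉ p, IsUnit (gY d) := fun d hd => IsLocalization.map_units (Y.presheaf.stalk (f x)) (⟨d, hd⟩ : p.primeCompl)
  have hfinst : (f.stalkMap x).hom.Finite := by
    letI : Algebra (Y.presheaf.stalk (f x)) (X.presheaf.stalk x) := (f.stalkMap x).hom.toAlgebra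
    obtain ⟨G, hG⟩ := (Module.Finite.fg_top : (⊤ : Submodule R S).FG)
    refine ⟨⟨G.image gX, eq_top_iff.2 fun v _ => ?_⟩⟩
    have hspan : ∀ s, gX s ∈ Submodule.span (Y.presheaf.stalk (f x)) ((G.image gX : Finset _) : Set (X.presheaf.stalk x)) := by
      intro s
      have hs : s ∈ Submodule.span R (G : Set S) := hG ▸ Submodule.mem_top
      induction hs using Submodule.span_induction with
      | mem g hg' => exact Submodule.subset_span (Finset.mem_image_of_mem gX hg')
      | zero => rw [map_zero]; exact zero_mem _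
      | add g g' _ _ h h' => rw [map_add]; exact add_mem h h'
      | smul c g _ h =>
        rw [Algebra.smul_def, map_mul, ← hg]
        exact Submodule.smul_mem _ (gY c) h
    obtain ⟨⟨s, t⟩, hst⟩ := IsLocalization.surj q.primeCompl v
    obtain ⟨d, hd, c, hc⟩ := hdvd t.1 t.2
    have hv : v * (f.stalkMap x).hom (gY d) = gX (s * c) := by
      rw [hg, hc, map_mul, map_mul, ← mul_assoc]
      exact congrArg (· * gX c) hst
    have := Submodule.smul_mem _ (↑(hunit d hd).unit⁻¹ : Y.presheaf.stalk (f x)) (hspan (s * c))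
    rw [← hv, Algebra.smul_def, mul_comm v, ← mul_assoc, RingHom.algebraMap_toAlgebra, ← map_mul,
      IsUnit.val_inv_mul, map_one, one_mul] at this
    exact this
  have hb := hbij hfinst
  let K : Ideal R := RingHom.ker (algebraMap R S)
  have hkill : ∀ k ∈ K, ∃ d ∉ p, d * k = 0 := fun k hk => by
    have : gY k = gY 0 := hb.1 (by
      show (f.stalkMap x).hom (gY k) = (f.stalkMap x).hom (gY 0)
      rw [hg, hg, show algebraMap R S k = 0 from hk, map_zero, map_zero, map_zero])
    obtain ⟨d, hd⟩ := (IsLocalization.eq_iff_exists p.primeCompl (Y.presheaf.stalk (f x))).1 this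
    exact ⟨d.1, d.2, by rw [hd, mul_zero]⟩
  have hlift : ∀ s : S, ∃ d ∉ p, ∃ a, algebraMap R S d * s = algebraMap R S a := fun s => by
    obtain ⟨u, hu⟩ := hb.2 (gX s)
    obtain ⟨⟨a, t⟩, hat⟩ := IsLocalization.surj p.primeCompl u
    have h1 : gX (algebraMap R S t.1 * s) = gX (algebraMap R S a) := by
      rw [map_mul, ← hg, ← hg, ← hu, ← show u * gY t.1 = gY a from hat, map_mul, mul_comm]
    obtain ⟨c, hc⟩ := (IsLocalization.eq_iff_exists q.primeCompl (X.presheaf.stalk x)).1 h1
    obtain ⟨d, hd, e, he⟩ := hdvd c.1 c.2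
    refine ⟨d * t.1, p.primeCompl.mul_mem hd t.2, d * a, ?_⟩
    rw [map_mul, map_mul, he]
    linear_combination e * hc
  choose dk hdk hdk' using hkill
  choose ds hds as has using hlift
  obtain ⟨GK, hGK⟩ := IsNoetherian.noetherian K
  obtain ⟨GS, hGS⟩ := (Module.Finite.fg_top : (⊤ : Submodule R S).FG)
  let r := (∏ k ∈ GK.attach, dk k.1 (hGK ▸ Submodule.subset_span k.2)) * ∏ s ∈ GS, ds s
  have hr : r ∉ p := p.primeCompl.mul_mem (prod_mem fun _ _ => hdk _ _) (prod_mem fun _ _ => hds _)
  have hK : ∀ k ∈ K, r * k = 0 := by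
    intro k hk
    rw [← hGK] at hk
    induction hk using Submodule.span_induction with
    | mem g hg' =>
      obtain ⟨c, hc⟩ : dk g (hGK ▸ Submodule.subset_span hg') ∣ r :=
        (Finset.dvd_prod_of_mem (fun k : {k // k ∈ GK} => dk k.1 (hGK ▸ Submodule.subset_span k.2))
          (GK.mem_attach ⟨g, hg'⟩)).mul_right _
      rw [hc, mul_right_comm, hdk', zero_mul]
    | zero => exact mul_zero r
    | add g g' _ _ h h' => rw [mul_add, h, h', add_zero]
    | smul c g _ h => rw [smul_eq_mul, mul_left_comm, h, mul_zero]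
  have hS : ∀ s, ∃ a, algebraMap R S r * s = algebraMap R S a := by
    intro s
    have hs : s ∈ Submodule.span R (GS : Set S) := hGS ▸ Submodule.mem_top
    induction hs using Submodule.span_induction with
    | mem g hg' =>
      obtain ⟨c, hc⟩ : ds g ∣ r := (Finset.dvd_prod_of_mem ds hg').mul_left _
      exact ⟨c * as g, by rw [hc, map_mul, map_mul, ← has]; ring⟩
    | zero => exact ⟨0, by rw [mul_zero, map_zero]⟩
    | add g g' _ _ h h' =>
      obtain ⟨a, ha⟩ := h
      obtain ⟨a', ha'⟩ := h'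
      exact ⟨a + a', by rw [mul_add, ha, ha', map_add]⟩
    | smul c g _ h =>
      obtain ⟨a, ha⟩ := h
      exact ⟨c * a, by rw [Algebra.smul_def, mul_left_comm, ha, map_mul]⟩
  let D := Y.basicOpen r
  have hD : IsAffineOpen D := hW.basicOpen r
  have hD' : IsAffineOpen (f ⁻¹ᵁ D) := by
    rw [Scheme.preimage_basicOpen]; exact hW'.basicOpen _
  refine ⟨D, ?_, ?_⟩
  · rw [Scheme.mem_basicOpen _ _ _ hxW]
    exact hunit r hr
  haveI := hW.isLocalization_basicOpen r
  haveI := hW'.isLocalization_basicOpen (f.app W r)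
  have hmap : Function.Bijective (IsLocalization.Away.map Γ(Y, D) Γ(X, X.basicOpen (f.app W r)) (f.app W).hom r) := by
    constructor
    · refine (injective_iff_map_eq_zero _).2 fun u hu => ?_
      obtain ⟨a, ⟨_, n, rfl⟩, rfl⟩ := IsLocalization.exists_mk'_eq (Submonoid.powers r) u
      rw [IsLocalization.Away.map, IsLocalization.map_mk', IsLocalization.mk'_eq_zero_iff] at hu
      obtain ⟨⟨_, k, rfl⟩, hk⟩ := hu
      refine (IsLocalization.mk'_eq_zero_iff _ _).2 ⟨⟨_, k + 1, rfl⟩, ?_⟩
      have : r ^ k * a ∈ K := by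
        show algebraMap R S (r ^ k * a) = 0
        rw [map_mul, map_pow]
        exact hk
      show r ^ (k + 1) * a = 0
      rw [pow_succ', mul_assoc, hK _ this]
    · intro v
      obtain ⟨s, ⟨_, n, rfl⟩, rfl⟩ := IsLocalization.exists_mk'_eq (Submonoid.powers (f.app W r)) v
      obtain ⟨a, ha⟩ := hS s
      refine ⟨IsLocalization.mk' _ a (⟨r ^ (n + 1), n + 1, rfl⟩ : Submonoid.powers r), ?_⟩
      rw [IsLocalization.Away.map, IsLocalization.map_mk', IsLocalization.mk'_eq_iff_eq, ]
      congr 1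
      show (f.app W r) ^ n * f.app W a = (f.app W) (r ^ (n + 1)) * s
      rw [show (f.app W) a = f.app W r * s from ha.symm, map_pow, pow_succ, mul_assoc]
  haveI : IsIso (f.app D) := by
    rw [hW.app_basicOpen_eq_away_map f hW' r]
    haveI : IsIso (CommRingCat.ofHom
        (IsLocalization.Away.map Γ(Y, Y.basicOpen r) Γ(X, X.basicOpen (f.app W r)) (f.app W).hom r)) :=
      (ConcreteCategory.isIso_iff_bijective _).2 hmap
    infer_instance
  haveI : IsAffine D.toScheme := hD
  haveI : IsAffine (f ⁻¹ᵁ D).toScheme := hD'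
  haveI : IsIso (f ∣_ D).appTop := by
    rw [morphismRestrict_appTop]
    haveI : IsIso (f.app (D.ι ''ᵁ ⊤)) := by rw [D.ι_image_top]; infer_instance
    infer_instance
  exact ((MorphismProperty.isomorphisms _).arrow_mk_iso_iff (arrowIsoSpecΓOfIsAffine (f ∣_ D))).2
    (inferInstanceAs (IsIso (Spec.map (f ∣_ D).appTop)))

/-- Properties local at the target restrict to smaller opens. -/
theorem restrict_of_le {P : MorphismProperty Scheme.{u}} [IsZariskiLocalAtTarget P] (f : X ⟶ Y) {W V : Y.Opens}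
    (hWV : W ≤ V) (hV : P (f ∣_ V)) : P (f ∣_ W) := by
  have := IsZariskiLocalAtTarget.restrict hV (V.ι ⁻¹ᵁ W)
  rwa [P.arrow_mk_iso_iff (morphismRestrictRestrict f V _), Groth.L21.Mod.image_preimage_of_le hWV] at this

/-- An isomorphism on a fibre, out of a flat family, is an isomorphism near the fibre. -/
theorem exists_isIso_near (f : X ⟶ Y) (h : Y ⟶ Z) [IsLocallyNoetherian Z] [IsProper (f ≫ h)] [IsProper h] (z : Z)
    [Flat (f ≫ h)] [IsIso (CohIII.fiberMapOver f (f ≫ h) h rfl z)] :
    ∃ U : Z.Opens, z ∈ U ∧ IsIso (f ∣_ (h ⁻¹ᵁ U)) := by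
  haveI : IsProper f := IsProper.of_comp f h
  haveI : IsLocallyNoetherian Y := LocallyOfFiniteType.isLocallyNoetherian h
  let i := (f ≫ h).fiberι z
  let μ := CohIII.fiberMapOver f (f ≫ h) h rfl z
  have hμ : μ ≫ h.fiberι z = i ≫ f := pullback.lift_fst _ _ _
  have key : ∀ y : Y, h y = z → ∃ D : Y.Opens, y ∈ D ∧ IsIso (f ∣_ D) := by
    intro y hy
    obtain ⟨η, rfl⟩ : y ∈ Set.range (h.fiberι z) := by rw [Scheme.Hom.range_fiberι]; exact hy
    obtain ⟨ξ, rfl⟩ : ∃ ξ, μ ξ = η := μ.homeomorph.surjective η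
    have hfi : f (i ξ) = h.fiberι z (μ ξ) :=
      ((Scheme.Hom.comp_apply i f ξ).symm.trans (by rw [← hμ])).trans (Scheme.Hom.comp_apply μ _ ξ)
    have huniq : ∀ x', f x' = f (i ξ) → x' = i ξ := by
      intro x' hx'
      obtain ⟨ξ', rfl⟩ : x' ∈ Set.range i := by
        rw [Scheme.Hom.range_fiberι]
        show (f ≫ h) x' = z
        rw [Scheme.Hom.comp_apply, hx', hfi, hy]
      have : f (i ξ') = h.fiberι z (μ ξ') :=
        ((Scheme.Hom.comp_apply i f ξ').symm.trans (by rw [← hμ])).trans (Scheme.Hom.comp_apply μ _ ξ')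
      rw [μ.homeomorph.injective ((h.fiberι z).isEmbedding.injective (this.symm.trans (hx'.trans hfi)))]
    have hsingle : f ⁻¹' {f (i ξ)} = {i ξ} :=
      Set.ext fun x' => ⟨huniq x', fun e => congrArg f e⟩
    obtain ⟨V, hyV, hfin⟩ := exists_isFinite_morphismRestrict_of_finite_preimage_singleton (f := f) (f (i ξ))
      (by rw [hsingle]; exact Set.finite_singleton _)
    obtain ⟨_, ⟨W', hW, rfl⟩, hxW, hWV⟩ :=
      Y.isBasis_affineOpens.exists_subset_of_mem_open (a := f (i ξ)) hyV V.2
    let W : Y.Opens := W'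
    replace hW : IsAffineOpen W := hW
    replace hWV : W ≤ V := hWV
    haveI : IsFinite (f ∣_ W) := restrict_of_le (P := @IsFinite) f hWV hfin
    haveI : IsAffine W.toScheme := hW
    have hW' : IsAffineOpen (f ⁻¹ᵁ W) := isAffine_of_isAffineHom (f ∣_ W)
    have hfinW : (f.app W).hom.Finite := by
      have h2 := (f ∣_ W).finite_app ⊤ (isAffineOpen_top _)
      change RingHom.Finite (f ∣_ W).appTop.hom at h2
      rw [morphismRestrict_appTop] at h2
      have hh : ∀ W' : Y.Opens, W' = W → (f.app W').hom.Finite → (f.app W).hom.Finite := by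
        rintro _ rfl h; exact h
      exact hh _ (Scheme.Opens.ι_image_top W) ((RingHom.finite_respectsIso.cancel_right_isIso _ _).1 h2)
    obtain ⟨D, hD, hiso⟩ := exists_isIso_restrict f hW hW' hfinW (i ξ) hxW huniq
      fun hf => bijective_stalkMap f h z ξ hf
    exact ⟨D, hfi ▸ hD, hiso⟩
  choose D hD hiso using key
  let G : Y.Opens := ⨆ (y : Y) (e : h y = z), D y e
  have hle : ∀ p : {y : Y // h y = z}, D p.1 p.2 ≤ G := fun p =>
    le_iSup_of_le p.1 (le_iSup (fun e => D p.1 e) p.2)
  have hG : MorphismProperty.isomorphisms Scheme (f ∣_ G) := by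
    refine IsZariskiLocalAtTarget.of_iSup_eq_top (P := MorphismProperty.isomorphisms Scheme)
      (fun p : {y : Y // h y = z} => G.ι ⁻¹ᵁ D p.1 p.2) (top_unique fun q _ => ?_) fun p => ?_
    · obtain ⟨y, hy⟩ := Opens.mem_iSup.1 q.2
      obtain ⟨e, he⟩ := Opens.mem_iSup.1 hy
      exact Opens.mem_iSup.2 ⟨⟨y, e⟩, he⟩
    · refine ((MorphismProperty.isomorphisms Scheme).arrow_mk_iso_iff (morphismRestrictRestrict f G _)).2 ?_
      rw [Groth.L21.Mod.image_preimage_of_le (hle p)]
      exact hiso p.1 p.2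
  let U : Z.Opens := ⟨(h '' (G : Set Y)ᶜ)ᶜ, (h.isClosedMap _ G.2.isClosed_compl).isOpen_compl⟩
  refine ⟨U, fun ⟨y, hy, hyz⟩ => hy (Opens.mem_iSup.2 ⟨y, Opens.mem_iSup.2 ⟨hyz, hD y hyz⟩⟩), ?_⟩
  exact restrict_of_le (P := MorphismProperty.isomorphisms Scheme) f
    (fun y hy => by_contra fun hn => hy ⟨y, hn, rfl⟩) hG

end Groth.L16.Rees.IsoNear
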