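import Groth.Agent.L16.Rees.InvNearFibre
import Groth.Agent.L17.AffinePush
import Groth.Agent.L07.DVRProper
import Groth.Agent.L29.LocFree

/-!
The closed fibre over a local ring as a fibre, and invertible modules trivial on it.
-/

set_option autoImplicit false
set_option linter.style.haveILetI false
set_option linter.unusedSectionVars false
set_option backward.isDefEq.respectTransparency false

universe u

open CategoryTheory CategoryTheory.Limits AlgebraicGeometry TopologicalSpace Opposite

noncomputable section

namespace Groth.L16.Rees.ClosedFibre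

/-- Along an isomorphism the structure sheaf pushes forward to the structure sheaf. -/
theorem nonempty_push_structure {P Q : Scheme.{u}} (φ : P ⟶ Q) [IsIso φ] :
    Nonempty (Coh.structureModule Q ≅ (Scheme.Modules.pushforward φ).obj (Coh.structureModule P)) := by
  let θ : Coh.structureModule Q ⟶ (Scheme.Modules.pushforward φ).obj (Coh.structureModule P) :=
    ⟨PresheafOfModules.homMk
      { app := fun U => AddCommGrpCat.ofHom (show Γ(Q, U.unop) →+ Γ(P, φ ⁻¹ᵁ U.unop) from (φ.app U.unop).hom.toAddMonoidHom)
        naturality := fun U V i => by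
          ext a
          exact congr($(φ.naturality i) a) }
      fun U r a => map_mul (φ.app U.unop).hom r a⟩
  haveI : IsIso θ := Scheme.Modules.Hom.isIso_iff_isIso_app.2 fun U =>
    (ConcreteCategory.isIso_iff_bijective _).2 (ConcreteCategory.bijective_of_isIso (φ.app U))
  exact ⟨asIso θ⟩

theorem subsingleton_HH_of_iso {P Q : Scheme.{u}} (φ : P ⟶ Q) [IsIso φ] (n : ℕ)
    (h : Subsingleton (Coh.HH P (Coh.structureModule P) n)) : Subsingleton (Coh.HH Q (Coh.structureModule Q) n) := by
  obtain ⟨e⟩ := nonempty_push_structure φ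
  obtain ⟨e'⟩ := Groth.L17.nonempty_HH_push_of_isClosedImmersion φ (Coh.structureModule P) n
  exact ((Groth.L17.BC.HHequiv e n).toAddEquiv.trans e'.symm).toEquiv.subsingleton

variable (A : Type u) [CommRing A] [IsLocalRing A] {X : Scheme.{u}} (f : X ⟶ Spec (CommRingCat.of A))

/-- The closed fibre of the residue field is the fibre at the closed point. -/
theorem exists_iso_fiber :
    ∃ (y : Spec (CommRingCat.of A)) (φ : pullback f (Spec.map (CommRingCat.ofHom (IsLocalRing.residue A))) ⟶ f.fiber y),
      (∀ q : Spec (CommRingCat.of A), q ⤳ y) ∧ IsIso φ ∧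
      φ ≫ f.fiberι y = pullback.fst f (Spec.map (CommRingCat.ofHom (IsLocalRing.residue A))) := by
  let c := Spec.map (CommRingCat.ofHom (IsLocalRing.residue A))
  haveI : IsClosedImmersion c := IsClosedImmersion.spec_of_surjective _ IsLocalRing.residue_surjective
  obtain ⟨r, hr, hbij⟩ := Groth.L07.DVRProper.exists_residueField_bijective (K := IsLocalRing.ResidueField A) c
  haveI : IsIso r := (ConcreteCategory.isIso_iff_bijective r).2 hbij
  refine ⟨_, pullback.map f c f ((Spec (CommRingCat.of A)).fromSpecResidueField _) (𝟙 X) (Spec.map r) (𝟙 _)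
    (by simp) (by rw [Category.comp_id]; exact hr.symm), fun q => ?_, inferInstance, ?_⟩
  · have h : c (IsLocalRing.closedPoint (IsLocalRing.ResidueField A)) = IsLocalRing.closedPoint A :=
      IsLocalRing.comap_closedPoint (IsLocalRing.residue A)
    rw [h]
    exact IsLocalRing.specializes_closedPoint (R := A) q
  · exact (pullback.lift_fst _ _ _).trans (Category.comp_id _)

/-- An invertible module trivial on the closed fibre is trivial if the fibre has no first cohomology. -/
theorem picPullbackInjective [IsNoetherianRing A] [IsProper f] [Flat f]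
    (h1 : Subsingleton (Coh.HH (pullback f (Spec.map (CommRingCat.ofHom (IsLocalRing.residue A))))
      (Coh.structureModule _) 1)) :
    Formal2.PicPullbackInjective (pullback.fst f (Spec.map (CommRingCat.ofHom (IsLocalRing.residue A)))) := by
  intro L hL hy
  obtain ⟨i⟩ := hy
  obtain ⟨y, φ, hgen, hiso, hφ⟩ := exists_iso_fiber A f
  haveI := hiso
  let P := Scheme.Modules.pullback φ
  haveI : LocallyOfFinitePresentation f := inferInstance
  let i' : CohIII.fiberMod f L y ≅ CohIII.fiberMod f (Coh.structureModule X) y :=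
    ((Scheme.Modules.pullbackId _).app (CohIII.fiberMod f L y)).symm ≪≫
      (Scheme.Modules.pullbackCongr (IsIso.inv_hom_id φ).symm).app (CohIII.fiberMod f L y) ≪≫
      ((Scheme.Modules.pullbackComp (inv φ) φ).app (CohIII.fiberMod f L y)).symm ≪≫
      (Scheme.Modules.pullback (inv φ)).mapIso ((Scheme.Modules.pullbackComp φ (f.fiberι y)).app L ≪≫
        (Scheme.Modules.pullbackCongr hφ).app L ≪≫ i) ≪≫
      Groth.L29.LocFree.pullbackUnitIso (inv φ) ≪≫ (Groth.L29.LocFree.pullbackUnitIso (f.fiberι y)).symm
  obtain ⟨U, hyU, ⟨e⟩⟩ := Groth.L16.Rees.NearFibre.exists_iso_near f y (subsingleton_HH_of_iso φ 1 h1) L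
    (Coh.structureModule X) hL (Groth.L18.Ample.isInvertible_structureModule _) ⟨i'⟩
  have hU : U = ⊤ := top_le_iff.1 fun q _ => (hgen q).mem_open U.2 hyU
  subst hU
  let R : ∀ K : X.Modules, K.restrict (⊤ : X.Opens).ι ≅ (Scheme.Modules.pullback (⊤ : X.Opens).ι).obj K :=
    fun K => (Scheme.Modules.restrictFunctorIsoPullback _).app K
  let T : ∀ K : X.Modules, (Scheme.Modules.pullback X.topIso.inv).obj ((Scheme.Modules.pullback (⊤ : X.Opens).ι).obj K) ≅ K :=
    fun K => (Scheme.Modules.pullbackComp X.topIso.inv (⊤ : X.Opens).ι).app K ≪≫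
      (Scheme.Modules.pullbackCongr (show X.topIso.inv ≫ (⊤ : X.Opens).ι = 𝟙 X from X.topIso.inv_hom_id)).app K ≪≫
      (Scheme.Modules.pullbackId X).app K
  exact ⟨(T L).symm ≪≫ (Scheme.Modules.pullback X.topIso.inv).mapIso ((R L).symm ≪≫ e ≪≫ R _) ≪≫ T _⟩

end Groth.L16.Rees.ClosedFibre
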