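import Groth.Agent.L16.PushCompare
import Groth.Agent.L16.CohLinear
import Groth.Agent.L16.QcqsPush
import Groth.Agent.L17.AffineVanishing

/-!
# Cohomology along affine morphisms, compatibly with endomorphisms
-/

set_option autoImplicit false
universe u

open CategoryTheory CategoryTheory.Limits AlgebraicGeometry TopologicalSpace Opposite

namespace Groth.L16.Rees

open Groth.L10 Groth.L10.SiteCoh Groth.L10.Cech in
/-- Cohomology along an affine morphism to a separated scheme commutes with endomorphisms. -/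
theorem exists_push_endo {X Y : Scheme.{u}} (f : X ⟶ Y) [IsAffineHom f] [Y.IsSeparated] (M : X.Modules)
    [Coh.IsQCoh M] (p : ℕ) :
    ∃ e : Coh.HH X M p ≃+ Coh.HH Y ((Coh.push f).obj M) p,
      ∀ (φ : M ⟶ M) x, e (CohLinear.hmap φ p x) = CohLinear.hmap ((Coh.push f).map φ) p (e x) := by
  haveI : Coh.IsQCoh ((Coh.push f).obj M) := QcqsPush.isQCoh_push M f
  let V : Y.affineOpens → Y.Opens := fun U => U.1
  have hV : ∀ (n : ℕ) (a : Fin (n + 1) → Y.affineOpens), IsAffineOpen (⨅ k, V (a k)) :=
    fun n a => IsAffineOpen.iInf fun k => (a k).2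
  obtain ⟨e, he⟩ := PushCompare.exists_H_equiv (X := X.toTopCat) (Y := Y.toTopCat) f.base V (Coh.toAb M)
    (iSup_affineOpens_eq_top Y)
    (fun n a q => (tup_eq_iInf (X := Y.toTopCat) V a).symm ▸
      subsingleton_of_forall_eq 0 (Groth.L17.hu_affine_eq_zero M ((hV n a).preimage f) q))
    (fun n a q => (tup_eq_iInf (X := Y.toTopCat) V a).symm ▸
      subsingleton_of_forall_eq 0 (Groth.L17.hu_affine_eq_zero ((Coh.push f).obj M) (hV n a) q)) p
  exact ⟨e, fun φ x => he (CohLinear.tm φ) x⟩

end Groth.L16.Rees
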