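import Groth.Prelude.Def_Formal
import Groth.Agent.L16.CohLinear

/-!
# Multiplication by scalars on modules over an affine base
-/

set_option autoImplicit false
universe u

open CategoryTheory CategoryTheory.Limits AlgebraicGeometry TopologicalSpace Opposite

namespace Groth.L16.Rees

open Formal (smulMod smulModΓ)

variable {X Y : Scheme.{u}} (A : Type u) [CommRing A] [X.Over (Spec (CommRingCat.of A))]

theorem smulModΓ_app (M : X.Modules) (r : Coh.Γtop X) (U : X.Opens) (m : Γ(M, U)) :
    (smulModΓ M r).app U m = (show Γ(X, U) from Coh.resTop X (op U) r) • m := rfl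

theorem smulModΓ_naturality {M N : X.Modules} (φ : M ⟶ N) (r : Coh.Γtop X) :
    smulModΓ M r ≫ φ = φ ≫ smulModΓ N r := by
  refine Scheme.Modules.hom_ext _ _ fun U => ?_
  ext m
  exact φ.app_smul _ m

theorem smulMod_naturality {M N : X.Modules} (φ : M ⟶ N) (a : A) :
    smulMod A M a ≫ φ = φ ≫ smulMod A N a := smulModΓ_naturality φ _

theorem smulMod_mul (M : X.Modules) (a b : A) : smulMod A M (a * b) = smulMod A M b ≫ smulMod A M a := by
  refine Scheme.Modules.hom_ext _ _ fun U => ?_
  ext m
  show (smulModΓ M _).app U m = (smulModΓ M _).app U ((smulModΓ M _).app U m)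
  rw [smulModΓ_app, smulModΓ_app, smulModΓ_app, map_mul]
  exact (congrArg (fun c : Γ(X, U) => c • m) (map_mul (Coh.resTop X (op U)) _ _)).trans (mul_smul _ _ m)

theorem smulMod_zero (M : X.Modules) : smulMod A M 0 = 0 := by
  refine Scheme.Modules.hom_ext _ _ fun U => ?_
  ext m
  show (smulModΓ M _).app U m = _
  rw [smulModΓ_app, map_zero]
  exact (congrArg (fun c : Γ(X, U) => c • m) (map_zero (Coh.resTop X (op U)))).trans (zero_smul _ m)

theorem smulMod_one (M : X.Modules) : smulMod A M 1 = 𝟙 M := by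
  refine Scheme.Modules.hom_ext _ _ fun U => ?_
  ext m
  show (smulModΓ M _).app U m = _
  rw [smulModΓ_app, map_one]
  exact (congrArg (fun c : Γ(X, U) => c • m) (map_one (Coh.resTop X (op U)))).trans (one_smul _ m)

theorem smulModΓ_push (f : X ⟶ Y) (M : X.Modules) (r : Coh.Γtop Y) :
    smulModΓ ((Coh.push f).obj M) r = (Coh.push f).map (smulModΓ M (f.appTop r)) := by
  refine Scheme.Modules.hom_ext _ _ fun U => ?_
  ext m
  show (smulModΓ ((Coh.push f).obj M) r).app U m = (smulModΓ M (f.appTop r)).app (f ⁻¹ᵁ U) m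
  rw [smulModΓ_app, smulModΓ_app]
  refine congrArg (fun c : Γ(X, f ⁻¹ᵁ U) => c • (show Γ(M, f ⁻¹ᵁ U) from m)) ?_
  exact ConcreteCategory.congr_hom (f.naturality (homOfLE (le_top : U ≤ ⊤)).op) r

/-- Scalar multiplication on cohomology is the map induced by multiplication. -/
theorem hmap_smulMod (M : X.Modules) (a : A) (n : ℕ) (x : Coh.HH X M n) :
    CohLinear.hmap (smulMod A M a) n x = a • x := rfl

theorem hmap_zero {M N : X.Modules} (n : ℕ) (x : Coh.HH X M n) :
    CohLinear.hmap (0 : M ⟶ N) n x = 0 := by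
  have := CohLinear.hMap_sum (∅ : Finset PUnit.{1}) (fun _ => CohLinear.tm (0 : M ⟶ N)) n x
  rw [Finset.sum_empty, Finset.sum_empty] at this
  rw [CohLinear.hmap_apply, CohLinear.tm, Functor.map_zero]
  exact this

end Groth.L16.Rees
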