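import Groth.Agent.L16.AffineBC.OverBase
import Groth.Agent.L16.AffineBC.Local
import Groth.Agent.L16.Rees.SmulMod
import Groth.Agent.L16.Rees.PushEndo
import Groth.Agent.L16.ProperFinite
import Groth.Prelude.Def_Formal2
import Mathlib.RingTheory.ReesAlgebra

/-!
# The module `⊕ Iᵏ F` on the base change to the Rees algebra
-/

set_option autoImplicit false
set_option linter.style.haveILetI false

universe u

open CategoryTheory CategoryTheory.Limits AlgebraicGeometry TopologicalSpace Opposite Polynomial
open scoped TensorProduct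

noncomputable section

namespace Groth.L16.Rees

open AffineBC (Xb gb η β scal)
open Formal (smulMod)
open Formal2 (idealPowMod idealPowModι)

variable {A : Type u} [CommRing A] (I : Ideal A) (X : Scheme.{u}) [X.Over (Spec (CommRingCat.of A))]

/-- The map `X[t] ⟶ X ×_A Rees`. -/
def jT : Xb A A[X] X ⟶ Xb A (reesAlgebra I) X :=
  pullback.map _ _ _ _ (𝟙 _) (Spec.map (CommRingCat.ofHom (reesAlgebra I).val.toRingHom)) (𝟙 _)
    (by simp) (by
      rw [Category.comp_id, ← Spec.map_comp]
      congr 1)

theorem jT_gb : jT I X ≫ gb A (reesAlgebra I) X = gb A A[X] X :=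
  (pullback.lift_fst _ _ _).trans (Category.comp_id _)

instance isAffineHom_jT : IsAffineHom (jT I X) := by
  haveI : IsAffineHom (jT I X ≫ gb A (reesAlgebra I) X) := by rw [jT_gb]; infer_instance
  exact IsAffineHom.of_comp (jT I X) (gb A (reesAlgebra I) X)

theorem appTop_jT (b : reesAlgebra I) :
    (jT I X).appTop (Coh.toGlobal (Xb A (reesAlgebra I) X ↘ Spec (CommRingCat.of (reesAlgebra I))) b) =
      Coh.toGlobal (Xb A A[X] X ↘ Spec (CommRingCat.of A[X])) (b : A[X]) := by
  have e : jT I X ≫ (Xb A (reesAlgebra I) X ↘ Spec (CommRingCat.of (reesAlgebra I))) =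
      (Xb A A[X] X ↘ Spec (CommRingCat.of A[X])) ≫
        Spec.map (CommRingCat.ofHom (reesAlgebra I).val.toRingHom) := pullback.lift_snd _ _ _
  have h1 := congrArg (fun g : Xb A A[X] X ⟶ Spec (CommRingCat.of (reesAlgebra I)) =>
    g.appTop ((Scheme.ΓSpecIso (CommRingCat.of (reesAlgebra I))).inv b)) e
  simp only [Scheme.Hom.comp_appTop, ConcreteCategory.comp_apply] at h1
  refine h1.trans ?_
  exact congrArg (Xb A A[X] X ↘ Spec (CommRingCat.of A[X])).appTop
    (ConcreteCategory.congr_hom (Scheme.ΓSpecIso_inv_naturality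
      (CommRingCat.ofHom (reesAlgebra I).val.toRingHom)) b).symm

variable (F : X.Modules)

/-- The pullback to `X[t]`. -/
abbrev PT (A : Type u) [CommRing A] (X : Scheme.{u}) [X.Over (Spec (CommRingCat.of A))] (F : X.Modules) : (Xb A A[X] X).Modules := (Scheme.Modules.pullback (gb A A[X] X)).obj F

/-- The pullback to the Rees base change. -/
abbrev PB : (Xb A (reesAlgebra I) X).Modules := (Scheme.Modules.pullback (gb A (reesAlgebra I) X)).obj F

/-- `h_* h^* F`. -/
abbrev GT (A : Type u) [CommRing A] (X : Scheme.{u}) [X.Over (Spec (CommRingCat.of A))] (F : X.Modules) : X.Modules := AffineBC.G A A[X] X F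

/-- Comparison of the two pushforwards. -/
def cmp : (Coh.push (gb A (reesAlgebra I) X)).obj ((Coh.push (jT I X)).obj (PT A X F)) ≅ GT A X F :=
  (Scheme.Modules.pushforwardComp (jT I X) (gb A (reesAlgebra I) X)).app _ ≪≫
    (Scheme.Modules.pushforwardCongr (jT_gb I X)).app _

theorem cmp_smul (b : reesAlgebra I) :
    (Coh.push (gb A (reesAlgebra I) X)).map (smulMod (reesAlgebra I) ((Coh.push (jT I X)).obj (PT A X F)) b) ≫
        (cmp I X F).hom = (cmp I X F).hom ≫ β A A[X] X F (b : A[X]) := by
  have h : smulMod (reesAlgebra I) ((Coh.push (jT I X)).obj (PT A X F)) b =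
      (Coh.push (jT I X)).map (smulMod A[X] (PT A X F) (b : A[X])) := by
    refine (smulModΓ_push (jT I X) (PT A X F) _).trans ?_
    rw [show Formal.smulModΓ (PT A X F) _ = smulMod A[X] (PT A X F) (b : A[X]) from
      congrArg (Formal.smulModΓ (PT A X F)) (appTop_jT I X b)]
  rw [h, cmp, Iso.trans_hom, Iso.app_hom, Iso.app_hom, ← Category.assoc]
  have n1 := (Scheme.Modules.pushforwardComp (jT I X) (gb A (reesAlgebra I) X)).hom.naturality
    (smulMod A[X] (PT A X F) (b : A[X]))
  have n2 := (Scheme.Modules.pushforwardCongr (jT_gb I X)).hom.naturality (smulMod A[X] (PT A X F) (b : A[X]))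
  refine Eq.trans (congrArg (· ≫ _) n1) ?_
  rw [Category.assoc, Category.assoc]
  exact congrArg (_ ≫ ·) n2

/-- `g^* F ⟶ j_* h^* F`. -/
def τ : PB I X F ⟶ (Coh.push (jT I X)).obj (PT A X F) :=
  ((Scheme.Modules.pullbackPushforwardAdjunction (gb A (reesAlgebra I) X)).homEquiv _ _).symm
    (η A A[X] X F ≫ (cmp I X F).inv)

theorem η_τ : η A (reesAlgebra I) X F ≫ (Coh.push (gb A (reesAlgebra I) X)).map (τ I X F) ≫ (cmp I X F).hom =
    η A A[X] X F := by
  have h1 : η A (reesAlgebra I) X F ≫ (Coh.push (gb A (reesAlgebra I) X)).map (τ I X F) =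
      η A A[X] X F ≫ (cmp I X F).inv :=
    ((Scheme.Modules.pullbackPushforwardAdjunction (gb A (reesAlgebra I) X)).homEquiv_unit _ _ _).symm.trans
      (Equiv.apply_symm_apply _ _)
  rw [← Category.assoc, h1, Category.assoc, Iso.inv_hom_id, Category.comp_id]

/-- The module `⊕ Iᵏ F` over the Rees base change. -/
abbrev M' : (Xb A (reesAlgebra I) X).Modules := Abelian.image (τ I X F)

/-- Its pushforward to `X`. -/
abbrev Gm : X.Modules := (Coh.push (gb A (reesAlgebra I) X)).obj (M' I X F)

/-- Multiplication by elements of the Rees algebra. -/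
abbrev βM (b : reesAlgebra I) : Gm I X F ⟶ Gm I X F :=
  (Coh.push (gb A (reesAlgebra I) X)).map (smulMod (reesAlgebra I) (M' I X F) b)

/-- The projection onto `⊕ Iᵏ F`. -/
def pm : AffineBC.G A (reesAlgebra I) X F ⟶ Gm I X F :=
  (Coh.push (gb A (reesAlgebra I) X)).map (Abelian.factorThruImage (τ I X F))

/-- The inclusion in `F[t]`. -/
def imG : Gm I X F ⟶ GT A X F :=
  (Coh.push (gb A (reesAlgebra I) X)).map (Abelian.image.ι (τ I X F)) ≫ (cmp I X F).hom

instance mono_imG : Mono (imG I X F) := by
  haveI : PreservesLimitsOfSize.{0, 0} (Coh.push (gb A (reesAlgebra I) X)) :=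
    (Scheme.Modules.pullbackPushforwardAdjunction (gb A (reesAlgebra I) X)).rightAdjoint_preservesLimits
  haveI : (Coh.push (gb A (reesAlgebra I) X)).IsRightAdjoint :=
    (Scheme.Modules.pullbackPushforwardAdjunction (gb A (reesAlgebra I) X)).isRightAdjoint
  haveI : (Coh.push (gb A (reesAlgebra I) X)).PreservesMonomorphisms :=
    Functor.preservesMonomorphisms_of_adjunction (Scheme.Modules.pullbackPushforwardAdjunction (gb A (reesAlgebra I) X))
  haveI : Mono ((Coh.push (gb A (reesAlgebra I) X)).map (Abelian.image.ι (τ I X F))) :=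
    Functor.map_mono _ _
  exact mono_comp _ _

theorem η_pm_imG : η A (reesAlgebra I) X F ≫ pm I X F ≫ imG I X F = η A A[X] X F := by
  rw [pm, imG, ← Category.assoc ((Coh.push (gb A (reesAlgebra I) X)).map _) ((Coh.push (gb A (reesAlgebra I) X)).map _),
    ← CategoryTheory.Functor.map_comp, Abelian.image.fac]
  exact η_τ I X F

theorem βM_im (b : reesAlgebra I) : βM I X F b ≫ imG I X F = imG I X F ≫ β A A[X] X F (b : A[X]) := by
  rw [imG, βM, ← Category.assoc, ← Functor.map_comp, smulMod_naturality, Functor.map_comp, Category.assoc,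
    cmp_smul, Category.assoc]

theorem β_pm (b : reesAlgebra I) : β A (reesAlgebra I) X F b ≫ pm I X F = pm I X F ≫ βM I X F b := by
  rw [pm, β, βM, ← Functor.map_comp, ← Functor.map_comp, smulMod_naturality]

theorem β_algebraMap (B : Type u) [CommRing B] [Algebra A B] (a : A) :
    η A B X F ≫ β A B X F (algebraMap A B a) = smulMod A F a ≫ η A B X F := by
  have h : β A B X F (algebraMap A B a) = smulMod A (AffineBC.G A B X F) a := by
    rw [show smulMod A (AffineBC.G A B X F) a = _ from smulModΓ_push (gb A B X) _ _, β]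
    congr 1
    refine congrArg (Formal.smulModΓ _) ?_
    have e : gb A B X ≫ (X ↘ Spec (CommRingCat.of A)) = (Xb A B X ↘ Spec (CommRingCat.of B)) ≫
        Spec.map (CommRingCat.ofHom (algebraMap A B)) := pullback.condition
    have h1 := congrArg (fun g : Xb A B X ⟶ Spec (CommRingCat.of A) =>
      g.appTop ((Scheme.ΓSpecIso (CommRingCat.of A)).inv a)) e
    simp only [Scheme.Hom.comp_appTop, ConcreteCategory.comp_apply] at h1
    refine Eq.trans ?_ h1.symm
    exact congrArg (Xb A B X ↘ Spec (CommRingCat.of B)).appTop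
      (ConcreteCategory.congr_hom (Scheme.ΓSpecIso_inv_naturality (CommRingCat.ofHom (algebraMap A B))) a)
  rw [h]
  exact (smulMod_naturality A (η A B X F) a).symm

theorem β_mul (B : Type u) [CommRing B] [Algebra A B] (a b : B) :
    β A B X F (a * b) = β A B X F b ≫ β A B X F a := by
  rw [β, β, β, ← Functor.map_comp, smulMod_mul]

variable [Coh.IsQCoh F]

/-- A morphism out of `g_* g^* F` vanishes if it kills the multiples of the unit. -/
theorem hom_zero_of_generators (B : Type u) [CommRing B] [Algebra A B] {Q : X.Modules}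
    (ψ : AffineBC.G A B X F ⟶ Q) (h : ∀ b, η A B X F ≫ β A B X F b ≫ ψ = 0) : ψ = 0 := by
  refine AffineBC.hom_ext_affine _ _ fun U hU m => ?_
  letI := Module.compHom Γ(F, U) (scal A X U)
  obtain ⟨E, hE⟩ := AffineBC.exists_equiv A B X F hU
  obtain ⟨t, rfl⟩ := E.surjective m
  induction t using TensorProduct.induction_on with
  | zero => rw [map_zero, map_zero, map_zero]
  | add x y hx hy => rw [map_add, map_add, hx, hy, ← map_add]
  | tmul b m =>
    rw [hE]
    exact congr(($(h b)).app U m)

/-- The coefficient maps `F[t] ⟶ F`. -/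
theorem exists_coeff (k : ℕ) :
    ∃ c : GT A X F ⟶ F, ∀ b : A[X], η A A[X] X F ≫ β A A[X] X F b ≫ c = smulMod A F (b.coeff k) := by
  classical
  have ex : ∀ (U : X.Opens) (_ : IsAffineOpen U), ∃ cU : Γ(GT A X F, U) →+ Γ(F, U),
      ∀ (b : A[X]) (m : Γ(F, U)), cU ((β A A[X] X F b).app U ((η A A[X] X F).app U m)) =
        (smulMod A F (b.coeff k)).app U m := by
    intro U hU
    letI : Module A Γ(F, U) := Module.compHom Γ(F, U) (scal A X U)
    obtain ⟨E, hE⟩ := AffineBC.exists_equiv A A[X] X F hU
    let L : A[X] ⊗[A] Γ(F, U) →ₗ[A] Γ(F, U) :=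
      TensorProduct.lift ((LinearMap.lsmul A Γ(F, U)).comp (Polynomial.lcoeff A k))
    refine ⟨L.toAddMonoidHom.comp E.symm.toAddMonoidHom, fun b m => ?_⟩
    show L (E.symm _) = _
    rw [← hE b m, AddEquiv.symm_apply_apply]
    exact (TensorProduct.lift.tmul _ _).trans (smulModΓ_app F _ U m).symm
  choose cU hcU using ex
  have gen : ∀ (U : X.Opens) (_ : IsAffineOpen U) (P : Γ(GT A X F, U) → Prop), P 0 → (∀ a b, P a → P b → P (a + b)) →
      (∀ b m, P ((β A A[X] X F b).app U ((η A A[X] X F).app U m))) → ∀ t, P t := by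
    intro U hU P h0 hadd hb t
    letI : Module A Γ(F, U) := Module.compHom Γ(F, U) (scal A X U)
    obtain ⟨E, hE⟩ := AffineBC.exists_equiv A A[X] X F hU
    obtain ⟨s, rfl⟩ := E.surjective t
    induction s using TensorProduct.induction_on with
    | zero => rwa [map_zero]
    | add x y hx hy => rw [map_add]; exact hadd _ _ hx hy
    | tmul b m => rw [hE]; exact hb b m
  obtain ⟨c, hc⟩ := AffineBC.exists_hom_affine cU (fun U V hU hV h m => by
    refine gen U hU (fun m => cU V hV ((GT A X F).presheaf.map (homOfLE h).op m) =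
      F.presheaf.map (homOfLE h).op (cU U hU m)) ?_ ?_ ?_ m
    · rw [map_zero, map_zero, map_zero, map_zero]
    · intro a b ha hb
      rw [map_add, map_add, ha, hb, map_add, map_add]
    · intro b m
      have n1 := ConcreteCategory.congr_hom ((η A A[X] X F ≫ β A A[X] X F b).mapPresheaf.naturality (homOfLE h).op) m
      have n2 := ConcreteCategory.congr_hom ((smulMod A F (b.coeff k)).mapPresheaf.naturality (homOfLE h).op) m
      refine (congrArg (cU V hV) n1.symm).trans ?_
      refine (hcU V hV b _).trans ?_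
      refine n2.trans ?_
      exact congrArg (F.presheaf.map (homOfLE h).op) (hcU U hU b m).symm) (fun U hU r m => by
    refine gen U hU (fun m => cU U hU (r • m) = r • cU U hU m) ?_ ?_ ?_ m
    · rw [smul_zero, map_zero, smul_zero]
    · intro a b ha hb
      rw [smul_add, map_add, ha, hb, map_add, smul_add]
    · intro b m
      rw [← (β A A[X] X F b).app_smul, ← (η A A[X] X F).app_smul, hcU, hcU]
      exact (smulMod A F (b.coeff k)).app_smul r m)
  refine ⟨c, fun b => AffineBC.hom_ext_affine _ _ fun U hU m => ?_⟩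
  exact (hc U hU _).trans (hcU U hU b m)

end Groth.L16.Rees
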