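import Groth.Agent.L16.Rees.InvNearFibre
import Groth.Agent.L16.Rees.FibreMonoEpi
import Groth.Agent.L16.HomSh.FreeFrames
import Groth.Agent.L04.FinLocFreeHom

/-!
Homomorphisms of finite locally free modules near a fibre.
-/

set_option autoImplicit false
set_option linter.style.haveILetI false
set_option backward.isDefEq.respectTransparency false

universe u

open CategoryTheory CategoryTheory.Limits AlgebraicGeometry TopologicalSpace Opposite

noncomputable section

namespace Groth.L16.Rees.HomNearFibre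

open Groth.L18.Frame (rs ro pull rs_rs ro_ro rs_smul rs_self ro_self pull_smul pull_rs)
open Groth.L16.HomSh
open Groth.L19.ProjBdl (IsBasisOn lc coord lc_coord coord_eq)

theorem matrix_square {R : Type*} [CommRing R] [Nontrivial R] {n m : ℕ} {A : Matrix (Fin m) (Fin n) R}
    (h : Function.Bijective A.mulVec) : m = n := by
  have := (LinearEquiv.ofBijective A.mulVecLin h).finrank_eq
  simpa [Module.finrank_pi] using this.symm

variable {X S : Scheme.{u}} (f : X ⟶ S) [IsProper f] [Flat f] [LocallyOfFinitePresentation f] (y : S)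

omit [IsProper f] [LocallyOfFinitePresentation f] in
theorem isFlatOver_homMod {F G : X.Modules} (hF : FlatMod.IsFinLocFree F) (hG : FlatMod.IsFinLocFree G) :
    FlatMod.IsFlatOver f (homMod F G) :=
  Groth.L29.DC.RelTor.isFlatOver_of_isFlat f (Groth.L29.DC.isFlat_of_isFinLocFree (isFinLocFree_homMod hF hG))

variable (F G : X.Modules) (hF : FlatMod.IsFinLocFree F) (hG : FlatMod.IsFinLocFree G)
  [DCoh.HasSheafHom (CohIII.fiberMod f F y)]
  (h1 : Subsingleton (Coh.HH (f.fiber y) ((DCoh.sheafHom (CohIII.fiberMod f F y)).obj (CohIII.fiberMod f G y)) 1))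

omit [IsProper f] [Flat f] [LocallyOfFinitePresentation f] in
include hF hG h1 in
theorem subsingleton_fiberH : Subsingleton (CohIII.fiberH f (homMod F G) y 1) := by
  haveI := isIso_pullHomMap (f.fiberι y) hF hG
  let e : CohIII.fiberMod f (homMod F G) y ≅
      (DCoh.sheafHom (CohIII.fiberMod f F y)).obj (CohIII.fiberMod f G y) :=
    asIso (pullHomMap (f.fiberι y) F G) ≪≫ ((sheafHomIso (CohIII.fiberMod f F y)).app (CohIII.fiberMod f G y)).symm
  exact (Groth.L17.BC.HHequiv e 1).toEquiv.subsingleton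

include hF hG h1 in
/-- A morphism on the fibre lifts, up to an invertible function, to a homomorphism near the fibre. -/
theorem exists_hom_lift {V : S.Opens} (hV : IsAffineOpen V) (hy : y ∈ V)
    (u₀ : CohIII.fiberMod f F y ⟶ CohIII.fiberMod f G y)
    (hle : f.fiberToSpecResidueField y ⁻¹ᵁ ⊤ ≤ f.fiberι y ⁻¹ᵁ (f ⁻¹ᵁ V)) :
    ∃ (s : Γ(homMod F G, f ⁻¹ᵁ V)) (r : Γ(S, V)), IsUnit (S.evaluation V y hy r) ∧
      IsUnit (ro hle ((f.fiberι y).app (f ⁻¹ᵁ V) (f.app V r))) ∧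
      rs _ hle ((pullHomMap (f.fiberι y) F G).app (f.fiberι y ⁻¹ᵁ (f ⁻¹ᵁ V)) (pull (f.fiberι y) _ (f ⁻¹ᵁ V) s)) =
        ro hle ((f.fiberι y).app (f ⁻¹ᵁ V) (f.app V r)) • rs _ le_top (globalEquiv _ _ u₀) := by
  haveI := isIso_pullHomMap (f.fiberι y) hF hG
  have hlf := isFinLocFree_homMod hF hG
  haveI : Coh.IsQCoh (homMod F G) := Groth.L04.FinLocFreeHom.isQCoh_of_finLocFree hlf
  let κ := pullHomMap (f.fiberι y) F G
  obtain ⟨s, r, hr, hu, he⟩ := Groth.L16.Rees.NearFibre.exists_lift_scalar f (homMod F G)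
    (Groth.L18.LFP.isFP_of_isFinLocFree _ hlf) (isFlatOver_homMod f hF hG) y
    (subsingleton_fiberH f y F G hF hG h1) hV hy ((inv κ).app _ (rs _ le_top (globalEquiv _ _ u₀))) hle
  refine ⟨s, r, hr, hu, ?_⟩
  rw [← hom_app_rs, he, Scheme.Modules.Hom.app_smul]
  exact congrArg (_ • ·) congr($(congrArg (fun k => Scheme.Modules.Hom.app k _) (IsIso.inv_hom_id κ)) _)

theorem isUnit_of_eval {T : Scheme.{u}} {p : T} (hp : ∀ q : T, q ⤳ p) (hy : p ∈ (⊤ : T.Opens)) {r : Γ(T, ⊤)}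
    (hr : IsUnit (T.evaluation ⊤ p hy r)) : IsUnit r := by
  have hy' : p ∈ T.basicOpen r := (T.evaluation_ne_zero_iff_mem_basicOpen p hy r).1 hr.ne_zero
  have htop : (⊤ : T.Opens) ≤ T.basicOpen r := fun q _ => (hp q).mem_open (T.basicOpen r).2 hy'
  have := (T.toRingedSpace.isUnit_res_basicOpen r).map (T.presheaf.map (homOfLE htop).op).hom
  rw [← ro_self le_rfl r, ← ro_ro (T.basicOpen_le r) htop r]
  exact this

include hF hG h1 in
/-- Over a local base every morphism on the closed fibre lifts. -/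
theorem exists_hom_of_local [IsAffine S] (hp : ∀ q : S, q ⤳ y)
    (u₀ : CohIII.fiberMod f F y ⟶ CohIII.fiberMod f G y) :
    ∃ u : F ⟶ G, (Scheme.Modules.pullback (f.fiberι y)).map u = u₀ := by
  obtain ⟨s, r, hr, -, he⟩ := exists_hom_lift f y F G hF hG h1 (isAffineOpen_top S) trivial u₀ (fun z _ => trivial)
  have hru := isUnit_of_eval hp trivial hr
  refine ⟨(globalEquiv F G).symm ((f.app ⊤ (hru.unit⁻¹ : Γ(S, ⊤)ˣ)) • s), (globalEquiv _ _).injective ?_⟩
  rw [← pullHomMap_globalEquiv, AddEquiv.apply_symm_apply]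
  show (pullHomMap (f.fiberι y) F G).app (f.fiberι y ⁻¹ᵁ (f ⁻¹ᵁ ⊤))
    (pull (f.fiberι y) _ (f ⁻¹ᵁ ⊤) (f.app ⊤ (hru.unit⁻¹ : Γ(S, ⊤)ˣ) • s)) = _
  rw [pull_smul, Scheme.Modules.Hom.app_smul]
  rw [rs_self, rs_self, ro_self] at he
  let W : (f.fiber y).Opens := f.fiberι y ⁻¹ᵁ (f ⁻¹ᵁ ⊤)
  replace he : (pullHomMap (f.fiberι y) F G).app W (pull (f.fiberι y) _ (f ⁻¹ᵁ ⊤) s) =
      (f.fiberι y).app (f ⁻¹ᵁ ⊤) (f.app ⊤ r) • (show Γ(homMod _ _, W) from globalEquiv _ _ u₀) := he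
  refine (congrArg ((f.fiberι y).app (f ⁻¹ᵁ ⊤) (f.app ⊤ (hru.unit⁻¹ : Γ(S, ⊤)ˣ)) • ·) he).trans ?_
  rw [← mul_smul, ← map_mul, ← map_mul, IsUnit.val_inv_mul, map_one, map_one, one_smul]

include hF hG h1 in
/-- Finite locally free modules isomorphic on the fibre are isomorphic near it. -/
theorem exists_iso_near (hy : Nonempty (CohIII.fiberMod f F y ≅ CohIII.fiberMod f G y)) :
    ∃ U : S.Opens, y ∈ U ∧ Nonempty (F.restrict (f ⁻¹ᵁ U).ι ≅ G.restrict (f ⁻¹ᵁ U).ι) := by
  obtain ⟨i⟩ := hy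
  obtain ⟨_, ⟨V, hV, rfl⟩, hyV, -⟩ :=
    S.isBasis_affineOpens.exists_subset_of_mem_open (Set.mem_univ y) isOpen_univ
  have hz : ∀ z : f.fiber y, f (f.fiberι y z) = y := fun z => by
    have : f.fiberι y z ∈ Set.range (f.fiberι y) := ⟨z, rfl⟩
    rwa [Scheme.Hom.range_fiberι] at this
  have hle : f.fiberToSpecResidueField y ⁻¹ᵁ ⊤ ≤ f.fiberι y ⁻¹ᵁ (f ⁻¹ᵁ V) := fun z _ => by
    show f (f.fiberι y z) ∈ V
    rw [hz]; exact hyV
  obtain ⟨s, r, -, hu, he⟩ := exists_hom_lift f y F G hF hG h1 hV hyV i.hom hle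
  let g := f.fiberι y
  let φ := secEquiv (f ⁻¹ᵁ V) s
  have key : ∀ x : X, f x = y → ∃ W : X.Opens, x ∈ W ∧ W ≤ f ⁻¹ᵁ V ∧
      ∀ (U : X.Opens) (_ : U ≤ W) (h : U ≤ f ⁻¹ᵁ V), Function.Bijective (ev φ h) := by
    intro x hx
    obtain ⟨z, rfl⟩ : x ∈ Set.range g := by rw [Scheme.Hom.range_fiberι]; exact hx
    obtain ⟨W, n, m, b, c, hxW, hWV, hb, hc⟩ :=
      exists_bases hF hG (g z) (f ⁻¹ᵁ V) (show f (g z) ∈ V by rw [hz]; exact hyV)
    let φW : Sec F G W := resSec hWV φ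
    let A := matOf b hc φW
    let T : (f.fiber y).Opens := g ⁻¹ᵁ W
    have hT : T ≤ f.fiberToSpecResidueField y ⁻¹ᵁ ⊤ := le_top
    let φ' := secEquiv (g ⁻¹ᵁ (f ⁻¹ᵁ V)) ((pullHomMap g F G).app _ (pull g _ _ s))
    let a : Γ(f.fiber y, T) := ro hT (ro hle (g.app (f ⁻¹ᵁ V) (f.app V r)))
    have ha : IsUnit a := hu.map _
    have hev : ∀ w : Γ(CohIII.fiberMod f F y, T),
        ev φ' (g.preimage_mono hWV) w = a • i.hom.app T w := fun w => by
      have := congrArg (fun t => ev (secEquiv _ t) hT w) he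
      simp only [map_smul, ev_smulSec] at this
      exact this
    have hbij : Function.Bijective (A.map (g.app W)).mulVec := by
      have h0 : Function.Bijective fun w : Γ(CohIII.fiberMod f F y, T) => a • i.hom.app T w :=
        (show Function.Bijective fun t : Γ(CohIII.fiberMod f G y, T) => a • t from
          ⟨fun _ _ h => ha.smul_left_cancel.1 h, fun t => ⟨(↑ha.unit⁻¹ : Γ(f.fiber y, T)) • t, by
            show a • (↑ha.unit⁻¹ : Γ(f.fiber y, T)) • t = t
            rw [← mul_smul, IsUnit.mul_val_inv, one_smul]⟩⟩).comp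
          (ConcreteCategory.bijective_of_isIso (i.hom.app T))
      have hb' := hb.pullback g T le_rfl
      have hc' := hc.pullback g T le_rfl
      have h2 := h0.comp hb'
      refine (Function.Bijective.of_comp_iff' hc' _).1 ?_
      refine Eq.mp (congrArg Function.Bijective (funext fun ρ => ?_)) h2
      show a • i.hom.app T (lc _ (fun k => pull g F W (b k)) le_rfl ρ) = _
      rw [← hev]
      show ev (resSec (g.preimage_mono hWV) φ') le_rfl _ = _
      rw [ev_lc]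
      have hk : ∀ k, ev (resSec (g.preimage_mono hWV) φ') le_rfl (pull g F W (b k)) =
          lc _ (fun j => pull g G W (c j)) le_rfl fun j => g.app W (A j k) := fun k => by
        show ev φ' (g.preimage_mono hWV) (pull g F W (b k)) = _
        rw [ev_pullHomMap g s hWV (b k), ← lc_coord hc le_rfl (ev (secEquiv _ s) hWV (b k))]
        exact pull_lc g le_rfl _
      simp only [hk, Function.comp_apply, lc, Matrix.mulVec, dotProduct, Matrix.map_apply, rs_self,
        Finset.smul_sum, Finset.sum_smul, smul_smul]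
      rw [Finset.sum_comm]
      exact Finset.sum_congr rfl fun j _ => Finset.sum_congr rfl fun k _ => by rw [mul_comm]
    haveI : Nonempty T := ⟨⟨z, hxW⟩⟩
    haveI : Nontrivial Γ(f.fiber y, T) := inferInstance
    obtain rfl : m = n := matrix_square hbij
    have hdet : IsUnit (g.app W A.det) := by
      rw [show g.app W A.det = (A.map (g.app W)).det from RingHom.map_det (g.app W).hom A]
      exact (Matrix.isUnit_iff_isUnit_det _).1 (Matrix.mulVec_surjective_iff_isUnit.1 hbij.2)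
    refine ⟨X.basicOpen A.det, ?_, (X.basicOpen_le _).trans hWV, fun U hU h => ?_⟩
    · have : z ∈ (f.fiber y).basicOpen (g.app W A.det) := by
        rw [Scheme.basicOpen_of_isUnit _ hdet]; exact hxW
      rw [← Scheme.preimage_basicOpen] at this
      exact this
    · exact bijective_ev_of_det hb hc φW hU (hU.trans (X.basicOpen_le _))
  choose W hxW hWV hWb using key
  let G₀ : X.Opens := ⨆ (x : X) (h : f x = y), W x h
  have hcl : IsClosed (f '' (G₀ : Set X)ᶜ) := f.isClosedMap _ G₀.2.isClosed_compl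
  let U : S.Opens := V ⊓ ⟨(f '' (G₀ : Set X)ᶜ)ᶜ, hcl.isOpen_compl⟩
  have hyU : y ∈ U := ⟨hyV, fun ⟨x, hx, hxy⟩ => hx (Opens.mem_iSup.2 ⟨x, Opens.mem_iSup.2 ⟨hxy, hxW x hxy⟩⟩)⟩
  have hUV : f ⁻¹ᵁ U ≤ f ⁻¹ᵁ V := f.preimage_mono inf_le_left
  let O := f ⁻¹ᵁ U
  have hO : ∀ T : O.toScheme.Opens, O.ι ''ᵁ T ≤ f ⁻¹ᵁ V := fun T =>
    ((Scheme.Hom.image_le_opensRange _ _).trans_eq O.opensRange_ι).trans hUV
  let θ : F.restrict O.ι ⟶ G.restrict O.ι :=
    ⟨PresheafOfModules.homMk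
      { app := fun T => AddCommGrpCat.ofHom (show Γ(F, O.ι ''ᵁ T.unop) →+ Γ(G, O.ι ''ᵁ T.unop) from ev φ (hO T.unop))
        naturality := fun T T' j => by
          ext w
          exact (ev_rs φ (hO T.unop) (O.ι.image_mono j.unop.le) w).symm }
      fun T a w => by
        show (ev φ (hO T.unop)) _ = _
        exact (congrArg (ev φ (hO T.unop)) (Groth.L18.Frame.restrict_smul' F O T.unop a w)).trans
          ((ev_smul φ (hO T.unop) _ _).trans (Groth.L18.Frame.restrict_smul' G O T.unop a _).symm)⟩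
  haveI : IsIso θ := Groth.L17.BC.Classes.isIso_of_affine θ fun x => by
    have hx : O.ι x ∈ G₀ := by
      by_contra hn
      have hxO : O.ι x ∈ O := x.2
      exact hxO.2 ⟨O.ι x, hn, rfl⟩
    obtain ⟨x', hx'⟩ := Opens.mem_iSup.1 hx
    obtain ⟨h, hW⟩ := Opens.mem_iSup.1 hx'
    refine ⟨O.ι ⁻¹ᵁ W x' h, hW, fun T hT _ => ?_⟩
    exact hWb x' h (O.ι ''ᵁ T) ((O.ι.image_mono hT).trans (O.ι.image_preimage_le _)) (hO T)
  exact ⟨U, hyU, ⟨asIso θ⟩⟩

end Groth.L16.Rees.HomNearFibre
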