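import Groth.Agent.L16.Rees.FibreAmpleVanish
import Groth.Agent.L16.Rees.SerreCrit
import Groth.Agent.L16.Rees.RelVanish
import Groth.Agent.L18.RelAmpleOps

/-!
# Ampleness spreads from a fibre to a neighbourhood
-/

set_option autoImplicit false
set_option linter.style.haveILetI false
set_option linter.unusedSectionVars false
set_option backward.isDefEq.respectTransparency false

universe u

open CategoryTheory CategoryTheory.Limits AlgebraicGeometry TopologicalSpace Opposite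

noncomputable section

namespace Groth.L16.Rees.SpreadAmple

open Groth.L18.Frame (rs ro rs_rs rs_self rs_smul ro_ro IsFrame)
open Groth.L18.GenLoc
open Groth.L18.Ample
open Groth.L18.IdealModule
open AffineBC (scal)
open Formal (smulMod)

/-- A frame gives frames of the powers. -/
theorem exists_frame_pow {X : Scheme.{u}} {L : X.Modules} {W : X.Opens} {e : Γ(L, W)} (he : IsFrame L W e) :
    ∀ n : ℕ, ∃ e' : Γ(CohB1.tensorPow L n, W), IsFrame (CohB1.tensorPow L n) W e'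
  | 0 => ⟨(1 : Γ(X, W)), fun V h => by
      have : (fun a : Γ(X, V) => a • rs (CohB1.tensorPow L 0) h (1 : Γ(X, W))) = fun a : Γ(X, V) => a := by
        funext a
        show a * X.presheaf.map (homOfLE h).op (1 : Γ(X, W)) = a
        rw [map_one, mul_one]
      rw [this]
      exact Function.bijective_id⟩
  | n + 1 =>
    let ⟨_, he'⟩ := exists_frame_pow he n
    ⟨_, isFrame_tens he' he⟩

variable {A : Type u} [CommRing A] {X : Scheme.{u}} [X.Over (Spec (CommRingCat.of A))]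

/-- Sections lift up to a multiplier killing the obstruction. -/
theorem exists_lift_smul {T : ShortComplex X.Modules} (hT : T.ShortExact) (a : A)
    (h : ∀ z : Coh.HH X T.X₁ 1, a • z = 0) (σ : Γ(T.X₃, ⊤)) :
    ∃ s : Γ(T.X₂, ⊤), T.g.app ⊤ s = scal A X ⊤ a • σ := by
  let y := (HomSh.h0Equiv T.X₃).symm σ
  let r : Coh.Γtop X := Coh.toGlobal (X ↘ Spec (CommRingCat.of A)) a
  have hd : CohLinear.delta hT 0 (CohLinear.hmap (smulMod A T.X₃ a) 0 y) = 0 := by
    rw [hmap_smulMod]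
    exact ((CohLinear.delta hT 0).map_smul r y).trans (h _)
  obtain ⟨z, hz⟩ := (CohLinear.exact_hmap_delta hT 0 _).1 hd
  refine ⟨HomSh.h0Equiv T.X₂ z, (HomSh.h0Equiv_map T.g z).symm.trans ?_⟩
  refine (congrArg (HomSh.h0Equiv T.X₃) hz).trans ?_
  refine (HomSh.h0Equiv_map (smulMod A T.X₃ a) y).trans ?_
  rw [show HomSh.h0Equiv T.X₃ y = σ from AddEquiv.apply_symm_apply _ _]
  exact HomSh.smulMod_app _ _ _ _

/-- A section with affine locus at a point, from the obstruction being killed near the point. -/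
theorem exists_section {L : X.Modules} (hL : PicF.IsInvertible L) {x : X} {W : X.Opens} (hW : IsAffineOpen W)
    {eL : Γ(L, W)} (hframe : IsFrame L W eL) {Zc : Set X} (hZ : IsClosed Zc) (hxZ : x ∈ Zc) (hZW : Zc ⊆ W)
    (h : ∀ I : X.IdealSheafData, ∃ (n : ℕ) (a : A), x ∈ X.basicOpen (scal A X ⊤ a) ∧
      ∀ z : Coh.HH X (CohB1.tensorMod (ClSub.idealMod I) (CohB1.tensorPow L (n + 1))) 1, a • z = 0) :
    ∃ (n : ℕ) (s : Coh.structureModule X ⟶ CohB1.tensorPow L (n + 1)),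
      x ∈ CohB1.genLocus _ s ∧ IsAffineOpen (CohB1.genLocus _ s) := by
  have hxW : x ∈ W := hZW hxZ
  let Z : Closeds X := ⟨(W : Set X)ᶜ ∪ Zc, W.2.isClosed_compl.union hZ⟩
  let I := Scheme.IdealSheafData.vanishingIdeal Z
  have hsupp : (I.support : Set X) = Z := Scheme.IdealSheafData.coe_support_vanishingIdeal Z
  obtain ⟨n, a, hxa, hn⟩ := h I
  set M := CohB1.tensorPow L (n + 1)
  have hM : PicF.IsInvertible M := isInvertible_tensorPow hL _
  let N := CohB1.tensorMod (Coh.structureModule X) M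
  have hN : PicF.IsInvertible N := isInvertible_tensor (isInvertible_structureModule X) hM
  let μ := idealMap I M
  haveI : Mono μ := SerreCrit.mono_idealMap I hM
  let π := cokernel.π μ
  let T : ShortComplex X.Modules := ShortComplex.mk μ π (cokernel.condition μ)
  have hT : T.ShortExact := { exact := ShortComplex.exact_cokernel μ }
  let Q := cokernel μ
  -- the quotient vanishes away from the support
  have hQ : ∀ (V : X.Opens), (∀ y ∈ V, y ∉ I.support) → ∀ q : Γ(Q, V), q = 0 := by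
    intro V hV q
    refine TopCat.Presheaf.section_ext ⟨Q.presheaf, Q.isSheaf⟩ V q 0 fun y hy => ?_
    haveI : Subsingleton (Q.presheaf.stalk y) := by
      refine subsingleton_of_forall_eq 0 fun a => ?_
      obtain ⟨b, rfl⟩ := (Groth.L21.Mod.epi_iff_stalk_surjective π).1 inferInstance y a
      obtain ⟨U, hU, hsurj⟩ := SerreCrit.exists_preimage_away I hM (hV y hy)
      obtain ⟨U', hU', c, rfl⟩ := TopCat.Presheaf.exists_germ_eq (F := N.presheaf) (x := y) b
      obtain ⟨d, hd⟩ := hsurj (U' ⊓ U) inf_le_right (rs N inf_le_left c)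
      rw [← TopCat.Presheaf.germ_res_apply N.presheaf (homOfLE (inf_le_left : U' ⊓ U ≤ U')) y ⟨hU', hU⟩ c]
      erw [Groth.L21.Mod.stalkF_map_germ]
      refine (congrArg (Q.presheaf.germ (U' ⊓ U) y ⟨hU', hU⟩) ?_).trans (map_zero _)
      show π.app _ (rs N inf_le_left c) = 0
      rw [← hd]
      exact congr($(congrArg (fun k => Scheme.Modules.Hom.app k (U' ⊓ U)) (cokernel.condition μ)) d)
    exact Subsingleton.elim _ _
  obtain ⟨eM, heM⟩ := exists_frame_pow hframe (n + 1)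
  let one : Γ(Coh.structureModule X, W) := (1 : Γ(X, W))
  have hone : IsFrame (Coh.structureModule X) W one := fun V' h => by
    have : (fun a : Γ(X, V') => a • rs (Coh.structureModule X) h one) = fun a : Γ(X, V') => a := by
      funext a
      show a * X.presheaf.map (homOfLE h).op (1 : Γ(X, W)) = a
      rw [map_one, mul_one]
    rw [this]
    exact Function.bijective_id
  let e : Γ(N, W) := tens _ M W one eM
  have he : IsFrame N W e := isFrame_tens hone heM
  let G : X.Opens := ⟨Zcᶜ, hZ.isOpen_compl⟩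
  have hov : ∀ y ∈ W ⊓ G, y ∉ I.support := fun y hy hs => by
    rcases hsupp.le hs with h' | h'
    · exact h' hy.1
    · exact hy.2 h'
  let P : TopCat.Sheaf Ab X.toTopCat := ⟨Q.presheaf, Q.isSheaf⟩
  let Us : Bool → X.Opens := fun b => if b then W else G
  obtain ⟨σ, hσ, -⟩ := P.existsUnique_gluing' Us ⊤ (fun b => homOfLE le_top) (fun y _ => by
      by_cases hy : y ∈ Zc
      · exact Opens.mem_iSup.2 ⟨true, hZW hy⟩
      · exact Opens.mem_iSup.2 ⟨false, hy⟩)
    (fun b => match b with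
      | true => π.app W e
      | false => (0 : Γ(Q, G)))
    (fun i j => by
      cases i <;> cases j
      · rfl
      · exact (hQ (G ⊓ W) (fun y hy => hov y ⟨hy.2, hy.1⟩) _).trans (hQ (G ⊓ W) (fun y hy => hov y ⟨hy.2, hy.1⟩) _).symm
      · exact (hQ (W ⊓ G) hov _).trans (hQ (W ⊓ G) hov _).symm
      · rfl)
  obtain ⟨s₀, hs₀⟩ := exists_lift_smul hT a hn σ
  replace hs₀ : π.app ⊤ s₀ = scal A X ⊤ a • (show Γ(Q, ⊤) from σ) := hs₀
  let c : Γ(X, W) := ro le_top (scal A X ⊤ a)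
  have hcx : IsUnit (X.presheaf.germ W x hxW c) := by
    rw [TopCat.Presheaf.germ_res_apply]
    exact (Scheme.mem_basicOpen _ _ _ _).1 hxa
  let s := Groth.L16.homOfSection N s₀
  have hlift : ∀ (V : X.Opens) (q : Γ(N, V)), π.app V q = 0 → ∃ t, μ.app V t = q := fun V q hq =>
    (Groth.L17.BC.Cochains.exact_left hT.exact V).2 q hq
  have hxs : x ∈ CohB1.genLocus _ s := by
    obtain ⟨α, hα⟩ := he.exists_coeff le_rfl (rs N le_top s₀)
    rw [rs_self] at hα
    have hxα : x ∈ X.basicOpen α := by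
      by_contra hxα
      obtain ⟨t, ht⟩ := hlift W (rs N le_top s₀ - c • e) (by
        rw [map_sub, sub_eq_zero, hom_app_rs, hs₀, Scheme.Modules.Hom.app_smul, rs_smul]
        exact congrArg (c • ·) (hσ true))
      have hxα' : x ∈ X.basicOpen (α - c) := by
        rw [Scheme.mem_basicOpen _ _ _ hxW] at hxα ⊢
        rw [map_sub]
        rcases IsLocalRing.isUnit_or_isUnit_of_isUnit_add (a := X.presheaf.germ W x hxW α)
          (b := X.presheaf.germ W x hxW c - X.presheaf.germ W x hxW α) (by rw [add_sub_cancel]; exact hcx) with h1 | h1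
        · exact absurd h1 hxα
        · rw [← neg_sub]; exact h1.neg
      have hu : IsUnit (ro (X.basicOpen_le (α - c)) (α - c)) := RingedSpace.isUnit_res_basicOpen _ _
      have hf := (he.mono (X.basicOpen_le (α - c))).smul_unit hu
      rw [← rs_smul, sub_smul, hα, ← ht] at hf
      exact genLocus_idealMap_le I hM t _ (X.basicOpen_le _) hf hxα' (hsupp.ge (Or.inr hxZ))
    have hg := genLocus_inf_eq s he (a := α) (by rw [hα, secOf_homOfSection])
    exact (hg.ge hxα).1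
  have hle : CohB1.genLocus _ s ≤ W := by
    intro y hy
    by_contra hyW
    have hyx : y ∉ Zc := fun e => hyW (hZW e)
    let V := CohB1.genLocus _ s ⊓ G
    obtain ⟨t, ht⟩ := hlift V (rs N le_top s₀) (by
      rw [hom_app_rs, hs₀, rs_smul, ← rs_rs Q (le_top : G ≤ ⊤) (inf_le_right : V ≤ G)]
      rw [show rs Q (le_top : G ≤ ⊤) σ = (0 : Γ(Q, G)) from hσ false]
      rw [show rs Q (inf_le_right : V ≤ G) (0 : Γ(Q, G)) = 0 from map_zero _, smul_zero])
    have hfr := (isFrame_genLocus s).mono (inf_le_left : V ≤ _)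
    rw [secOf_homOfSection, rs_rs, ← ht, ← rs_self N le_rfl ((idealMap I M).app V t)] at hfr
    exact genLocus_idealMap_le I hM t V le_rfl hfr ⟨hy, hyx⟩ (hsupp.ge (Or.inl hyW))
  refine ⟨n, s ≫ (Groth.L00.Tensor.tensorUnitLeft M).hom, ?_⟩
  rw [Groth.L16.genLocus_comp_iso]
  exact ⟨hxs, isAffineOpen_genLocus_of_le hN s hW hle⟩

section Base

variable {X Y : Scheme.{u}} (f : X ⟶ Y) [IsProper f] [IsLocallyNoetherian Y]

open Groth.L17.BC (fV FV)

/-- A vanishing stalk of the first higher direct image gives a killer of the cohomology over an affine. -/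
theorem exists_killer [HasInjectiveResolutions X.Modules] (T : X.Modules) (hT : Coh.IsCoh T) (p : ℕ)
    {V : Y.Opens} (hV : IsAffineOpen V) (y : Y) (hy : y ∈ V)
    (h : Subsingleton (((Coh.Rpush f p).obj T).presheaf.stalk y)) :
    ∃ a : Γ(Y, V), y ∈ Y.basicOpen a ∧ ∀ z : Coh.HH (↑(f ⁻¹ᵁ V) : Scheme.{u}) (FV f (V := V) T) p,
      (Coh.toGlobal (A := Γ(Y, V)) (fV f hV) a : Coh.Γtop (↑(f ⁻¹ᵁ V) : Scheme.{u})) • z = 0 := by
  haveI : Coh.IsQCoh T := hT.1
  have hMc := Groth.L17.ProperCoh.isCoh_Rpush f T hT p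
  let M := (Coh.Rpush f p).obj T
  haveI : Coh.IsQCoh M := hMc.1
  let FV' := FV f (V := V) T
  haveI : Coh.IsQCoh FV' := Scheme.Modules.isQuasicoherent_restrictFunctor _ T
  letI : Module Γ(Y, V) (Coh.HH (↑(f ⁻¹ᵁ V) : Scheme.{u}) FV' p) := Module.compHom _ (Coh.toGlobal (fV f hV))
  haveI := Groth.L17.PushQCoh.hasInjectiveResolutions (f ⁻¹ᵁ V : Scheme.{u})
  obtain ⟨i⟩ := Groth.L17.PushQCoh.nonempty_Rpush_restrict_iso f hV.fromSpec (f ⁻¹ᵁ V).ι (fV f hV)
    (by rw [hV.opensRange_fromSpec, Scheme.Opens.opensRange_ι]) (Groth.L17.BC.fV_fromSpec f hV) T p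
  obtain ⟨N, eN, ⟨εN⟩⟩ := Groth.L17.BC.Classes.exists_chart M hV
  haveI : QuasiCompact (fV f hV) := inferInstanceAs (QuasiCompact ((f ∣_ V) ≫ hV.isoSpec.hom))
  haveI : QuasiSeparated (fV f hV) := inferInstanceAs (QuasiSeparated ((f ∣_ V) ≫ hV.isoSpec.hom))
  obtain ⟨e''⟩ := Groth.L17.ProperCoh.nonempty_Γ_Rpush_equiv (fV f hV) FV' p
  let j : tilde N ≅ (Coh.Rpush (fV f hV) p).obj FV' := eN.symm ≪≫ i
  let eM : Γ(M, V) ≃ₗ[Γ(Y, V)] Coh.HH (↑(f ⁻¹ᵁ V) : Scheme.{u}) FV' p :=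
    εN.symm.trans ((tilde.toTildeΓNatIso.app N ≪≫ (moduleSpecΓFunctor (R := Γ(Y, V))).mapIso j).toLinearEquiv.trans
      e''.symm)
  letI : Algebra Γ(Y, V) (Y.presheaf.stalk y) := Y.presheaf.algebra_section_stalk ⟨y, hy⟩
  letI := Groth.L20.ModStalk.stalkModule M hy
  haveI := Groth.L20.ModStalk.isLocalizedModule_germ M hV hy
  haveI := Groth.L20.ModStalk.finite_sections M hMc hV
  haveI := hV.isLocalization_stalk ⟨y, hy⟩
  haveI : Subsingleton (M.presheaf.stalk y) := h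
  haveI : Subsingleton (LocalizedModule (hV.primeIdealOf ⟨y, hy⟩).asIdeal.primeCompl Γ(M, V)) :=
    (IsLocalizedModule.iso (hV.primeIdealOf ⟨y, hy⟩).asIdeal.primeCompl
      (Groth.L20.ModStalk.germₗ M hy)).toEquiv.subsingleton
  obtain ⟨a, ha, ha'⟩ := Set.not_subset.1
    ((Module.notMem_support_iff (p := hV.primeIdealOf ⟨y, hy⟩)).2 this |> fun hh => by
      rw [Module.support_eq_zeroLocus, PrimeSpectrum.mem_zeroLocus] at hh
      exact hh)
  refine ⟨a, ?_, fun z => ?_⟩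
  · rw [Scheme.mem_basicOpen Y a y hy]
    exact (IsLocalization.AtPrime.isUnit_to_map_iff (Y.presheaf.stalk y) (hV.primeIdealOf ⟨y, hy⟩).asIdeal a).2 ha'
  · obtain ⟨m, rfl⟩ := eM.surjective z
    show a • eM m = 0
    rw [← map_smul, Module.mem_annihilator.1 ha m, map_zero]

/-- An affine neighbourhood of the point over which the module is ample. -/
theorem exists_affine_isAmple (L : X.Modules) (hL : PicF.IsInvertible L) (y : Y)
    (hy : CohB1.IsAmple ((Scheme.Modules.pullback (f.fiberι y)).obj L)) :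
    ∃ V : Y.Opens, IsAffineOpen V ∧ y ∈ V ∧ CohB1.IsAmple (L.restrict (f ⁻¹ᵁ V).ι) := by
  classical
  haveI : IsLocallyNoetherian X := LocallyOfFiniteType.isLocallyNoetherian f
  haveI := Groth.L17.PushQCoh.hasInjectiveResolutions X
  obtain ⟨_, ⟨V₀, hV₀, rfl⟩, hyV₀, -⟩ :=
    Y.isBasis_affineOpens.exists_subset_of_mem_open (Set.mem_univ y) isOpen_univ
  replace hV₀ : IsAffineOpen V₀ := hV₀
  have point : ∀ z : X, f z = y → ∃ (V : Y.Opens) (_ : V ≤ V₀) (_ : y ∈ V) (n : ℕ) (G : (↑(f ⁻¹ᵁ V) : Scheme.{u}).Opens)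
      (s : Coh.structureModule _ ⟶ CohB1.tensorPow (L.restrict (f ⁻¹ᵁ V).ι) (n + 1)),
      IsAffineOpen V ∧ z ∈ (f ⁻¹ᵁ V).ι ''ᵁ G ∧ CohB1.genLocus _ s = G ∧ IsAffineOpen G := by
    intro z hz
    obtain ⟨z', hz'⟩ : ∃ z', f.fiberι y z' = z := by
      have : z ∈ Set.range (f.fiberι y) := by rw [Scheme.Hom.range_fiberι]; exact hz
      exact this
    haveI : CompactSpace (f.fiber y) := QuasiCompact.compactSpace_of_compactSpace (f.fiberToSpecResidueField y)
    obtain ⟨x', hx', hx'c⟩ := IsClosed.exists_closed_singleton (isClosed_closure (s := ({z'} : Set (f.fiber y))))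
      ⟨z', subset_closure rfl⟩
    let x := f.fiberι y x'
    have hxy : f x = y := by
      have : x ∈ Set.range (f.fiberι y) := ⟨x', rfl⟩
      rw [Scheme.Hom.range_fiberι] at this
      exact this
    have hzx : z ⤳ x := hz' ▸ (specializes_iff_mem_closure.2 hx').map (f.fiberι y).continuous
    have hclx : ∀ w ∈ closure ({x} : Set X), f w = y → w = x := by
      intro w hw hwy
      obtain ⟨w', rfl⟩ : w ∈ Set.range (f.fiberι y) := by rw [Scheme.Hom.range_fiberι]; exact hwy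
      have h1 : x' ⤳ w' :=
        (f.fiberι y).isEmbedding.isInducing.specializes_iff.1 (specializes_iff_mem_closure.2 hw)
      exact congrArg _ (hx'c.closure_subset (specializes_iff_mem_closure.1 h1))
    obtain ⟨W₀, eL₀, hxW₀, heL₀⟩ := Groth.L18.Frame.exists_frame hL x
    obtain ⟨_, ⟨W, hW, rfl⟩, hxW, hWle⟩ := X.isBasis_affineOpens.exists_subset_of_mem_open
      (show x ∈ (W₀ ⊓ f ⁻¹ᵁ V₀ : X.Opens) from ⟨hxW₀, show f x ∈ V₀ from hxy ▸ hyV₀⟩) (W₀ ⊓ f ⁻¹ᵁ V₀).2
    replace hW : IsAffineOpen W := hW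
    have hWW₀ : W ≤ W₀ := fun w hw => (hWle hw).1
    have hWV₀ : W ≤ f ⁻¹ᵁ V₀ := fun w hw => (hWle hw).2
    let C : Set Y := f '' (closure {x} ∩ (W : Set X)ᶜ)
    have hC : IsClosed C := f.isClosedMap _ (isClosed_closure.inter W.2.isClosed_compl)
    have hyC : y ∉ C := by
      rintro ⟨w, ⟨hw, hwW⟩, hwy⟩
      exact hwW (hclx w hw hwy ▸ hxW)
    obtain ⟨b, hbV, hyb⟩ := hV₀.exists_basicOpen_le (⟨y, hyC⟩ : (⟨Cᶜ, hC.isOpen_compl⟩ : Y.Opens)) hyV₀
    let V := Y.basicOpen b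
    have hV : IsAffineOpen V := hV₀.basicOpen b
    let U := f ⁻¹ᵁ V
    haveI : IsNoetherianRing Γ(Y, V) := IsLocallyNoetherian.component_noetherian ⟨V, hV⟩
    letI : (U : Scheme.{u}).Over (Spec (CommRingCat.of Γ(Y, V))) := ⟨fV f hV⟩
    haveI : CompactSpace (U : Scheme.{u}) := isCompact_iff_compactSpace.1 (f.isCompact_preimage hV.isCompact)
    haveI : QuasiCompact U.ι := inferInstance
    let LU := L.restrict U.ι
    have hLU : PicF.IsInvertible LU := Groth.L18.Ample.isInvertible_restrict hL _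
    let W' : (U : Scheme.{u}).Opens := U.ι ⁻¹ᵁ W
    have hW' : IsAffineOpen W' := by
      rw [← Scheme.Hom.isAffineOpen_iff_of_isOpenImmersion U.ι, Scheme.Hom.image_preimage_eq_opensRange_inf,
        Scheme.Opens.opensRange_ι, inf_comm]
      have e : W ⊓ U = X.basicOpen (ro hWV₀ (f.app V₀ b)) := by
        rw [Scheme.basicOpen_res, ← Scheme.preimage_basicOpen]
      rw [e]
      exact hW.basicOpen _
    let x₁ : (U : Scheme.{u}) := ⟨x, show f x ∈ V from hxy ▸ hyb⟩
    have hfr : ∃ e' : Γ((Scheme.Modules.pullback U.ι).obj L, W'), IsFrame ((Scheme.Modules.pullback U.ι).obj L) W' e' :=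
      ⟨_, ((heL₀.mono hWW₀).pullback U.ι L)⟩
    obtain ⟨e', he'⟩ := hfr
    let κ := (Scheme.Modules.restrictFunctorIsoPullback U.ι).app L
    have hker : ∀ I : (U : Scheme.{u}).IdealSheafData, ∃ (n : ℕ) (a : Γ(Y, V)),
        x₁ ∈ (U : Scheme.{u}).basicOpen (scal Γ(Y, V) (U : Scheme.{u}) ⊤ a) ∧
        ∀ w : Coh.HH (U : Scheme.{u}) (CohB1.tensorMod (ClSub.idealMod I)
          (CohB1.tensorPow ((Scheme.Modules.pullback U.ι).obj L) (n + 1))) 1, a • w = 0 := by
      intro I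
      haveI : Mono (ClSub.idealModι I) := inferInstanceAs (Mono (kernel.ι _))
      obtain ⟨J, j, hj, hJ, ⟨eJ⟩⟩ := RelVanish.exists_extension (ClSub.idealMod I) (ClSub.idealModι I)
      haveI := hj
      haveI := hJ
      have hJc : Coh.IsCoh J := RelVanish.isCoh_of_mono j (RelVanish.isCoh_structureModule X)
      obtain ⟨d₀, hd₀⟩ := FibreAmpleVanish.exists_subsingleton_stalk f L hL hJc y hy
      have hTc : Coh.IsCoh (CohB1.tensorMod J (CohB1.tensorPow L (d₀ + 1))) :=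
        have hP := ProperFinite.isCoh_of_isInvertible (Groth.L18.Ample.isInvertible_tensorPow hL (d₀ + 1))
        haveI : Coh.IsQCoh (CohB1.tensorPow L (d₀ + 1)) := hP.1
        ⟨Groth.L00.Tensor.isQCoh_tensorMod _ _, Groth.L00.Tensor.isFT_tensorMod _ _ hJc.2 hP.2⟩
      obtain ⟨a, hya, ha⟩ := exists_killer f _ hTc 1 hV y hyb (hd₀ (d₀ + 1) d₀.le_succ 1 one_pos)
      refine ⟨d₀, a, ?_, fun w => ?_⟩
      · have h1 : (fV f hV) x₁ ∈ (Spec Γ(Y, V)).basicOpen ((Scheme.ΓSpecIso Γ(Y, V)).inv a) := by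
          have h2 : hV.fromSpec ((fV f hV) x₁) = y := by
            rw [← Scheme.Hom.comp_apply, Groth.L17.BC.fV_fromSpec]
            exact hxy
          have h3 : (fV f hV) x₁ ∈ hV.fromSpec ⁻¹ᵁ Y.basicOpen a :=
            show hV.fromSpec _ ∈ Y.basicOpen a from h2.symm ▸ hya
          rw [hV.fromSpec_preimage_basicOpen] at h3
          rw [basicOpen_eq_of_affine]
          exact h3
        have h4 : x₁ ∈ (fV f hV) ⁻¹ᵁ (Spec Γ(Y, V)).basicOpen ((Scheme.ΓSpecIso Γ(Y, V)).inv a) := h1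
        rw [Scheme.preimage_basicOpen_top] at h4
        refine Eq.subst (motive := fun r => x₁ ∈ (U : Scheme.{u}).basicOpen r) ?_ h4
        exact (Groth.L18.Frame.ro_self le_rfl _).symm
      · let ε : (CohB1.tensorMod J (CohB1.tensorPow L (d₀ + 1))).restrict U.ι ≅ CohB1.tensorMod (ClSub.idealMod I)
            (CohB1.tensorPow ((Scheme.Modules.pullback U.ι).obj L) (d₀ + 1)) :=
          RelVanish.twistRestrictIso J L (d₀ + 1) ≪≫
            Groth.L00.Tensor.tensorIso eJ (Groth.L00.Tensor.tensorPowIso κ (d₀ + 1))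
        apply (Groth.L17.BC.HHequiv ε 1).symm.injective
        rw [map_zero]
        exact ((Groth.L17.BC.HHequiv ε 1).symm.map_smul _ w).trans (ha _)
    obtain ⟨n, s, hxs, hs⟩ := exists_section (A := Γ(Y, V))
      (Groth.L18.Ample.isInvertible_pullback U.ι hL) hW' he' (Zc := U.ι ⁻¹' closure {x})
      (isClosed_closure.preimage U.ι.continuous) (show U.ι x₁ ∈ closure {x} from subset_closure rfl)
      (fun w hw => by
        show U.ι w ∈ W
        by_contra hwW
        exact (hbV (show f (U.ι w) ∈ Y.basicOpen b from w.2)) ⟨U.ι w, ⟨hw, hwW⟩, rfl⟩) hker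
    refine ⟨V, Y.basicOpen_le b, hyb, n, _, s ≫ (Groth.L00.Tensor.tensorPowIso κ (n + 1)).inv, hV, ?_,
      Groth.L16.genLocus_comp_iso _ (Groth.L00.Tensor.tensorPowIso κ (n + 1)).symm, hs⟩
    exact hzx.mem_open ((U.ι ''ᵁ CohB1.genLocus _ s)).2 ⟨x₁, hxs, rfl⟩
  choose V hle hyV n G s hV hzG hG hGa using point
  have hcpt : IsCompact (f ⁻¹' {y}) := by
    haveI : CompactSpace (f.fiber y) := QuasiCompact.compactSpace_of_compactSpace (f.fiberToSpecResidueField y)
    exact (f.range_fiberι y) ▸ isCompact_range (f.fiberι y).continuous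
  obtain ⟨t, ht⟩ := hcpt.elim_finite_subcover (fun z : {z : X // f z = y} => (((f ⁻¹ᵁ V z.1 z.2).ι ''ᵁ G z.1 z.2 : X.Opens) : Set X))
    (fun z => Opens.isOpen _) fun z hz => Set.mem_iUnion.2 ⟨⟨z, hz⟩, hzG z hz⟩
  let O : Y.Opens := (t.inf fun z => V z.1 z.2) ⊓
    ⟨(f '' (⋃ z ∈ t, (((f ⁻¹ᵁ V z.1 z.2).ι ''ᵁ G z.1 z.2 : X.Opens) : Set X))ᶜ)ᶜ,
      (f.isClosedMap _ (isOpen_biUnion fun z _ => Opens.isOpen _).isClosed_compl).isOpen_compl⟩
  have hyO : y ∈ O := by
    refine ⟨?_, ?_⟩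
    · show y ∈ ((t.inf fun z => V z.1 z.2 : Y.Opens) : Set Y)
      rw [Opens.coe_finset_inf, Finset.inf_set_eq_iInter]
      exact Set.mem_iInter₂.2 fun z _ => hyV z.1 z.2
    · rintro ⟨w, hw, hwy⟩
      exact hw (ht hwy)
  obtain ⟨b, hbO, hyb⟩ := hV₀.exists_basicOpen_le (⟨y, hyO⟩ : O) hyV₀
  let V' := Y.basicOpen b
  have hV' : IsAffineOpen V' := hV₀.basicOpen b
  let U := f ⁻¹ᵁ V'
  refine ⟨V', hV', hyb, Groth.L18.Ample.isInvertible_restrict hL _,
    isCompact_iff_compactSpace.1 (f.isCompact_preimage hV'.isCompact), fun w => ?_⟩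
  have hwU : ∃ z ∈ t, (U.ι w) ∈ (f ⁻¹ᵁ V z.1 z.2).ι ''ᵁ G z.1 z.2 := by
    by_contra hcon
    push Not at hcon
    refine (hbO w.2).2 ⟨U.ι w, fun hmem => ?_, rfl⟩
    obtain ⟨z, hzt, h⟩ := Set.mem_iUnion₂.1 hmem
    exact hcon z hzt h
  obtain ⟨z, hzt, hwz⟩ := hwU
  have hVz : V' ≤ V z.1 z.2 := fun v hv =>
    (Finset.inf_le (f := fun z : {z : X // f z = y} => V z.1 z.2) hzt) (hbO hv).1
  let Uz := f ⁻¹ᵁ V z.1 z.2
  have hUz : U ≤ Uz := fun v hv => hVz hv
  let u := X.homOfLE hUz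
  have hLz : PicF.IsInvertible (L.restrict Uz.ι) := Groth.L18.Ample.isInvertible_restrict hL _
  obtain ⟨s', hs'⟩ := Groth.L18.Ample.exists_pull_pow u hLz (s z.1 z.2)
  let ρ : (Scheme.Modules.pullback u).obj (L.restrict Uz.ι) ≅ L.restrict U.ι :=
    (Scheme.Modules.pullback u).mapIso ((Scheme.Modules.restrictFunctorIsoPullback _).app L) ≪≫
      (Scheme.Modules.pullbackComp u Uz.ι).app L ≪≫ (Scheme.Modules.pullbackCongr (X.homOfLE_ι hUz)).app L ≪≫
      ((Scheme.Modules.restrictFunctorIsoPullback _).app L).symm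
  refine ⟨n z.1 z.2, s' ≫ (Groth.L00.Tensor.tensorPowIso ρ _).hom, ?_⟩
  rw [Groth.L16.genLocus_comp_iso, hs', hG]
  refine ⟨?_, ?_⟩
  · obtain ⟨w', hw', e⟩ := hwz
    show u w ∈ G z.1 z.2
    have : u w = w' := Uz.ι.isOpenEmbedding.injective (by
      rw [← Scheme.Hom.comp_apply, X.homOfLE_ι]; exact e.symm)
    exact this ▸ hw'
  · rw [← Scheme.Hom.isAffineOpen_iff_of_isOpenImmersion u, Scheme.Hom.image_preimage_eq_opensRange_inf]
    let p : Uz.toScheme ⟶ (V z.1 z.2).toScheme := f ∣_ V z.1 z.2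
    let V'' : (V z.1 z.2).toScheme.Opens := (V z.1 z.2).ι ⁻¹ᵁ V'
    have hrange : u.opensRange = p ⁻¹ᵁ V'' := by
      ext v
      show v ∈ Set.range u ↔ (V z.1 z.2).ι (p v) ∈ V'
      rw [← Scheme.Hom.comp_apply p, show p ≫ (V z.1 z.2).ι = Uz.ι ≫ f from morphismRestrict_ι f _,
        ]
      constructor
      · rintro ⟨v', rfl⟩
        rw [← Scheme.Hom.comp_apply, ← Category.assoc, X.homOfLE_ι]
        exact v'.2
      · intro hv
        exact ⟨⟨Uz.ι v, hv⟩, Uz.ι.isOpenEmbedding.injective (by rw [← Scheme.Hom.comp_apply, X.homOfLE_ι]; rfl)⟩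
    rw [hrange, inf_comm]
    haveI : IsAffine (V z.1 z.2).toScheme := hV z.1 z.2
    haveI : IsAffine (G z.1 z.2).toScheme := hGa z.1 z.2
    have hV'' : IsAffineOpen V'' := by
      rw [← Scheme.Hom.isAffineOpen_iff_of_isOpenImmersion (V z.1 z.2).ι, Scheme.Hom.image_preimage_eq_opensRange_inf,
        Scheme.Opens.opensRange_ι, inf_eq_right.2 hVz]
      exact hV'
    have h5 := hV''.preimage ((G z.1 z.2).ι ≫ p)
    rwa [Scheme.Hom.comp_preimage, ← Scheme.Hom.isAffineOpen_iff_of_isOpenImmersion (G z.1 z.2).ι,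
      Scheme.Hom.image_preimage_eq_opensRange_inf, Scheme.Opens.opensRange_ι] at h5

end Base

end Groth.L16.Rees.SpreadAmple
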