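import Groth.Agent.L17.BC.Fibre
import Groth.Agent.L17.BC.LocFree
import Groth.Agent.L17.ProperCoh
import Groth.Agent.L16.Rees.FormalFunctions
import Groth.Agent.L20.ModStalk
import Mathlib.RingTheory.AdicCompletion.Functoriality

/-!
# Stalks of higher direct images and flat base change of cohomology
-/

set_option autoImplicit false
set_option linter.style.haveILetI false
set_option linter.unusedSectionVars false
set_option backward.isDefEq.respectTransparency false

universe u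

open CategoryTheory CategoryTheory.Limits AlgebraicGeometry TopologicalSpace Opposite
open scoped TensorProduct

noncomputable section

namespace Groth.L16.Rees

open Groth.L17.BC

/-- Flat base change of cohomology over an affine base, separated case. -/
theorem exists_flat_bc_equiv {A B : Type u} [CommRing A] [CommRing B] [Algebra A B] [Module.Flat A B]
    {X X' : Scheme.{u}} (f : X ⟶ Spec (CommRingCat.of A)) [IsSeparated f] [QuasiCompact f]
    (f' : X' ⟶ Spec (CommRingCat.of B)) (g : X' ⟶ X)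
    (sq : IsPullback g f' f (Spec.map (CommRingCat.ofHom (algebraMap A B))))
    (F : X.Modules) [Coh.IsQCoh F] (p : ℕ) :
    letI : Module A (Coh.HH X F p) := Module.compHom _ (Coh.toGlobal f)
    letI : Module B (Coh.HH X' ((Scheme.Modules.pullback g).obj F) p) := Module.compHom _ (Coh.toGlobal f')
    Nonempty (B ⊗[A] Coh.HH X F p ≃ₗ[B] Coh.HH X' ((Scheme.Modules.pullback g).obj F) p) := by
  letI : Module A (Coh.HH X F p) := Module.compHom _ (Coh.toGlobal f)
  letI : Module B (Coh.HH X' ((Scheme.Modules.pullback g).obj F) p) := Module.compHom _ (Coh.toGlobal f')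
  haveI : CompactSpace X := QuasiCompact.compactSpace_of_compactSpace f
  haveI : X.IsSeparated := ⟨by rw [← terminal.comp_from f]; infer_instance⟩
  obtain ⟨t, U, hcov, haff⟩ := exists_affine_cover (X := X)
  haveI := isAffineHom_of_isPullback f f' g sq
  obtain ⟨e⟩ := nonempty_bcCx_iso g (Coh.toGlobal f) (Coh.toGlobal f') F (compat_of_isPullback f f' g sq) U
    (hasBC_of_isPullback f f' g sq F) haff
  haveI : Coh.IsQCoh (Fb g F) := Groth.L16.AffineBC.isQCoh_pullback g F
  have hcov' : ⨆ i, Ub g U i = ⊤ := top_unique fun x _ => by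
    obtain ⟨i, hi⟩ := Opens.mem_iSup.1 (hcov.ge (Opens.mem_top (g x)))
    exact Opens.mem_iSup.2 ⟨i, hi⟩
  obtain ⟨e'⟩ := exists_homology_equiv (Coh.toGlobal f') (Fb g F) (Ub g U) hcov'
    (isAffineOpen_iInf_preimage g U haff) p
  obtain ⟨e₀⟩ := exists_homology_equiv (Coh.toGlobal f) F U hcov haff p
  let P := K (Coh.toGlobal f) F U
  obtain ⟨h⟩ := Groth.L01.FlatCx.nonempty_homology_bc B P (p : ℤ)
    (Groth.L01.FlatCx.bijective_tMap_of_flat P (p : ℤ) (ModuleCat.of A B))
  exact ⟨((TensorProduct.AlgebraTensorModule.congr (LinearEquiv.refl B B)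
    (e₀.symm.trans (Groth.L01.FlatCx.unitEquiv P (p : ℤ)).symm)).trans h.symm).trans
      (((HomologicalComplex.homologyFunctor _ _ (p : ℤ)).mapIso e).toLinearEquiv.trans e')⟩

variable {X Y : Scheme.{u}} (f : X ⟶ Y) [IsProper f] [IsLocallyNoetherian Y]
  [HasInjectiveResolutions X.Modules]

/-- The stalk of a higher direct image is the cohomology over the local ring. -/
theorem exists_stalk_equiv (F : X.Modules) (hF : Coh.IsCoh F) (y : Y) (p : ℕ) {X₁ : Scheme.{u}}
    [X₁.Over (Spec (CommRingCat.of (Y.presheaf.stalk y)))] (g : X₁ ⟶ X)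
    (hsq : IsPullback g (X₁ ↘ Spec (CommRingCat.of (Y.presheaf.stalk y))) f (Y.fromSpecStalk y)) :
    Nonempty (((Coh.Rpush f p).obj F).presheaf.stalk y ≃ₗ[Y.presheaf.stalk y]
      Coh.HH X₁ ((Scheme.Modules.pullback g).obj F) p) := by
  obtain ⟨_, ⟨V, hV, rfl⟩, hy, -⟩ :=
    Y.isBasis_affineOpens.exists_subset_of_mem_open (Set.mem_univ y) isOpen_univ
  replace hV : IsAffineOpen V := hV
  haveI : Coh.IsQCoh F := hF.1
  haveI := Groth.L17.PushQCoh.isQCoh_Rpush f F p
  let M := (Coh.Rpush f p).obj F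
  let O := Y.presheaf.stalk y
  let f₁ : X₁ ⟶ Spec (CommRingCat.of O) := X₁ ↘ Spec (CommRingCat.of O)
  let F₁ := (Scheme.Modules.pullback g).obj F
  letI : Algebra Γ(Y, V) O := Y.presheaf.algebra_section_stalk ⟨y, hy⟩
  haveI := hV.isLocalization_stalk ⟨y, hy⟩
  haveI : Module.Flat Γ(Y, V) O :=
    IsLocalization.flat O (hV.primeIdealOf ⟨y, hy⟩).asIdeal.primeCompl
  -- the factorization through the affine piece
  have hb : Spec.map (CommRingCat.ofHom (algebraMap Γ(Y, V) O)) ≫ hV.fromSpec = Y.fromSpecStalk y :=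
    hV.fromSpecStalk_eq_fromSpecStalk hy
  have hr : Set.range g ⊆ Set.range (f ⁻¹ᵁ V).ι := by
    rw [Scheme.Opens.range_ι]
    rintro _ ⟨x, rfl⟩
    show f (g x) ∈ V
    rw [← Scheme.Hom.comp_apply, hsq.w, ← hb, ← Category.assoc, Scheme.Hom.comp_apply]
    exact hV.range_fromSpec.le ⟨_, rfl⟩
  let g₁ := IsOpenImmersion.lift (f ⁻¹ᵁ V).ι g hr
  have hg : g₁ ≫ (f ⁻¹ᵁ V).ι = g := IsOpenImmersion.lift_fac _ _ _
  have sq : IsPullback g₁ f₁ (fV f hV) (Spec.map (CommRingCat.ofHom (algebraMap Γ(Y, V) O))) := by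
    have big : IsPullback (g₁ ≫ (f ⁻¹ᵁ V).ι) f₁ f
        (Spec.map (CommRingCat.ofHom (algebraMap Γ(Y, V) O)) ≫ hV.fromSpec) := by
      rw [hg, hb]; exact hsq
    refine IsPullback.of_right big ?_ (Classes.isPullback_fV f hV)
    rw [← cancel_mono hV.fromSpec, Category.assoc, fV_fromSpec, Category.assoc, ← big.w, Category.assoc]
  let FV' := FV f (V := V) F
  haveI : Coh.IsQCoh FV' := Scheme.Modules.isQuasicoherent_restrictFunctor _ F
  letI : Module Γ(Y, V) (Coh.HH (↑(f ⁻¹ᵁ V) : Scheme.{u}) FV' p) := Module.compHom _ (Coh.toGlobal (fV f hV))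
  letI : Module O (Coh.HH X₁ ((Scheme.Modules.pullback g₁).obj FV') p) := Module.compHom _ (Coh.toGlobal f₁)
  obtain ⟨Φ⟩ := exists_flat_bc_equiv (A := Γ(Y, V)) (B := O) (fV f hV) f₁ g₁ sq FV' p
  let ε : (Scheme.Modules.pullback g₁).obj FV' ≅ F₁ :=
    (Scheme.Modules.pullback g₁).mapIso ((Scheme.Modules.restrictFunctorIsoPullback _).app F) ≪≫
      (Scheme.Modules.pullbackComp g₁ (f ⁻¹ᵁ V).ι).app F ≪≫ (Scheme.Modules.pullbackCongr hg).app F
  let E : Coh.HH X₁ ((Scheme.Modules.pullback g₁).obj FV') p ≃ₗ[O] Coh.HH X₁ F₁ p :=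
    { (HHequiv ε p).toAddEquiv with
      map_smul' := fun a x => (HHequiv ε p).map_smul (Coh.toGlobal f₁ a) x }
  -- sections on the affine piece
  haveI := Groth.L17.PushQCoh.hasInjectiveResolutions (f ⁻¹ᵁ V : Scheme.{u})
  obtain ⟨i⟩ := Groth.L17.PushQCoh.nonempty_Rpush_restrict_iso f hV.fromSpec (f ⁻¹ᵁ V).ι (fV f hV)
    (by rw [hV.opensRange_fromSpec, Scheme.Opens.opensRange_ι]) (fV_fromSpec f hV) F p
  obtain ⟨N, eN, ⟨εN⟩⟩ := Classes.exists_chart M hV
  obtain ⟨e''⟩ := Groth.L17.ProperCoh.nonempty_Γ_Rpush_equiv (fV f hV) FV' p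
  let j : tilde N ≅ (Coh.Rpush (fV f hV) p).obj FV' := eN.symm ≪≫ i
  let eM : Γ(M, V) ≃ₗ[Γ(Y, V)] Coh.HH (↑(f ⁻¹ᵁ V) : Scheme.{u}) FV' p :=
    εN.symm.trans ((tilde.toTildeΓNatIso.app N ≪≫ (moduleSpecΓFunctor (R := Γ(Y, V))).mapIso j).toLinearEquiv.trans
      e''.symm)
  -- the stalk
  letI := Groth.L20.ModStalk.stalkModule M hy
  haveI : IsScalarTower Γ(Y, V) O (M.presheaf.stalk y) := IsScalarTower.of_algebraMap_smul fun _ _ => rfl
  haveI := Groth.L20.ModStalk.isLocalizedModule_germ M hV hy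
  have hst : IsBaseChange O (Groth.L20.ModStalk.germₗ M hy) :=
    IsLocalizedModule.isBaseChange (hV.primeIdealOf ⟨y, hy⟩).asIdeal.primeCompl O _
  exact ⟨hst.equiv.symm.trans
    (((TensorProduct.AlgebraTensorModule.congr (LinearEquiv.refl O O) eM).trans Φ).trans E)⟩

/-- Finiteness and formal functions at a point. -/
theorem stalk_formal_functions (F : X.Modules) (hF : Coh.IsCoh F) (y : Y) (p : ℕ) {X₁ : Scheme.{u}}
    [X₁.Over (Spec (CommRingCat.of (Y.presheaf.stalk y)))] (g : X₁ ⟶ X)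
    (hsq : IsPullback g (X₁ ↘ Spec (CommRingCat.of (Y.presheaf.stalk y))) f (Y.fromSpecStalk y)) :
    Module.Finite (Y.presheaf.stalk y) (((Coh.Rpush f p).obj F).presheaf.stalk y) ∧
    Nonempty (AdicCompletion (IsLocalRing.maximalIdeal (Y.presheaf.stalk y))
        (((Coh.Rpush f p).obj F).presheaf.stalk y) ≃+
      Formal.HHlim (IsLocalRing.maximalIdeal (Y.presheaf.stalk y)) ((Scheme.Modules.pullback g).obj F) p) := by
  haveI : IsProper (X₁ ↘ Spec (CommRingCat.of (Y.presheaf.stalk y))) :=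
    MorphismProperty.of_isPullback hsq inferInstance
  haveI : IsLocallyNoetherian X₁ := LocallyOfFiniteType.isLocallyNoetherian (X₁ ↘ Spec (CommRingCat.of (Y.presheaf.stalk y)))
  have hF₁ : Coh.IsCoh ((Scheme.Modules.pullback g).obj F) := Groth.L16.AffineBC.isCoh_pullback g hF
  obtain ⟨e⟩ := exists_stalk_equiv f F hF y p g hsq
  haveI := Groth.L16.ProperFinite.finite_HH (Y.presheaf.stalk y) hF₁ p
  exact ⟨Module.Finite.equiv e.symm,
    ⟨(AdicCompletion.congr _ e).toAddEquiv.trans (completionEquiv _ hF₁ p)⟩⟩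

end Groth.L16.Rees
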