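import Groth.Agent.L16.Rees.RelVanish
import Groth.Agent.L16.Exist.AdicVanish
import Groth.Agent.L16.Devissage
import Groth.Agent.L16.SchSupport
import Groth.Agent.L17.PushComp
import Groth.Agent.L17.ProperOver
import Groth.Agent.L18.AmpleOps
import Groth.Prelude.Def_DDual2

/-!
# Direct images of high twists of exact sequences
-/

set_option autoImplicit false
set_option linter.style.haveILetI false
set_option linter.unusedSectionVars false
set_option backward.isDefEq.respectTransparency false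

universe u

open CategoryTheory CategoryTheory.Limits AlgebraicGeometry TopologicalSpace Opposite MonoidalCategory

noncomputable section

namespace Groth.L16.Rees.PushExact

open Groth.L00.Tensor (tensorLeftF tensorRightF tensorFlipIso tensorIso)
open Groth.L18.Frame (rs)

variable {X Y : Scheme.{u}}

/-- The two right tensor functors agree. -/
def rightModIso (M : X.Modules) : DCoh.tensorRightMod M ≅ tensorRightF M :=
  NatIso.ofComponents (fun N => Iso.refl _) fun {A B} g => by
    simp only [Iso.refl_hom, Category.comp_id, Category.id_comp]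
    exact congrArg (Groth.L00.Tensor.shf X).map (MonoidalCategory.tensorHom_id _ _).symm

/-- Twisting by a finite locally free module is exact. -/
theorem exact_instances {O : X.Modules} (hO : FlatMod.IsFinLocFree O) :
    PreservesFiniteLimits (DCoh.tensorRightMod O) ∧ PreservesFiniteColimits (DCoh.tensorRightMod O) := by
  haveI := Groth.L17.Duality.hasSheafHom O
  haveI : (tensorRightF O).IsRightAdjoint := (Groth.L17.Duality.dualAdj O hO).isRightAdjoint
  haveI : PreservesColimitsOfSize.{u, u} (tensorLeftF O) := inferInstance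
  haveI : PreservesFiniteColimits (tensorLeftF O) := inferInstance
  haveI : (DCoh.tensorRightMod O).IsRightAdjoint := Functor.isRightAdjoint_of_iso (rightModIso O).symm
  exact ⟨inferInstance, preservesFiniteColimits_of_natIso ((rightModIso O).trans (tensorFlipIso O)).symm⟩

variable (f : X ⟶ Y) [IsNoetherian Y] [LocallyOfFiniteType f] [QuasiCompact f]

/-- Twists of a coherent module with proper support kill the first higher direct image. -/
theorem exists_isZero [HasInjectiveResolutions X.Modules] (L : X.Modules) (hL : PicF.IsInvertible L)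
    (hamp : RelAmple.IsRelAmple f L) (A : X.Modules) (hA : Coh.IsCoh A)
    (hs : ClSub.IsProperOver f (CohB1.support A)) :
    ∃ n₀ : ℕ, ∀ n : ℕ, n₀ ≤ n →
      IsZero ((Coh.Rpush f 1).obj ((DCoh.tensorRightMod (CohB1.tensorPow L n)).obj A)) := by
  obtain ⟨Z, i, hi, hp, N, hN, ⟨e⟩⟩ := Groth.L16.SchSupport.exists_proper_subscheme f hA hs
  haveI := hi
  haveI := hp
  haveI := Groth.L17.PushQCoh.hasInjectiveResolutions Z
  have hamp' : RelAmple.IsRelAmple (i ≫ f) ((Scheme.Modules.pullback i).obj L) :=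
    Groth.L18.Ample.isRelAmple_pullback_of_isInducing f i i.isClosedEmbedding.isInducing hamp
  obtain ⟨n₀, hn⟩ := RelVanish.exists_isZero_of_relAmple (i ≫ f) _ (Groth.L18.Ample.isInvertible_pullback i hL)
    (fun W hW => hamp'.2 ⟨W, hW⟩) N hN
  refine ⟨n₀, fun n h => ?_⟩
  have hO := Groth.L16.Existence.isFinLocFree_of_isInvertible (Groth.L18.Ample.isInvertible_tensorPow hL n)
  let O := CohB1.tensorPow L n
  obtain ⟨e'⟩ := Groth.L17.PushComp.nonempty_Rpush_comp_of_isClosedImmersion i f
    (CohB1.tensorMod N (CohB1.tensorPow ((Scheme.Modules.pullback i).obj L) n)) 1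
  refine (hn n h 1 one_pos).of_iso ((Coh.Rpush f 1).mapIso
    ((DCoh.tensorRightMod O).mapIso e.symm ≪≫ ((rightModIso O).trans (tensorFlipIso O)).app _ ≪≫
      (Groth.L17.ProjFormula.projIso i O hO).app N ≪≫ (Coh.push i).mapIso
        (Groth.L00.Tensor.tensorComm _ _ ≪≫ tensorIso (Iso.refl N) (Groth.L18.Ample.pullPow i L n))) ≪≫ e')

/-- An epimorphism with kernel killed by the first higher direct image pushes to an epimorphism. -/
theorem epi_push [HasInjectiveResolutions X.Modules] {T : ShortComplex X.Modules} (hT : T.ShortExact)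
    [Coh.IsQCoh T.X₁] [QuasiSeparated f] (h : IsZero ((Coh.Rpush f 1).obj T.X₁)) : Epi ((Coh.push f).map T.g) := by
  rw [Groth.L21.Mod.epi_iff_stalk_surjective]
  intro y t
  obtain ⟨U, hyU, s, rfl⟩ := TopCat.Presheaf.exists_germ_eq ((Coh.push f).obj T.X₃).presheaf t
  obtain ⟨_, ⟨V, hV, rfl⟩, hyV, hVU⟩ := Y.isBasis_affineOpens.exists_subset_of_mem_open hyU U.2
  replace hV : IsAffineOpen V := hV
  let j := (f ⁻¹ᵁ V).ι
  have hTj := Groth.L21.Mod.shortExact_restrict j hT
  have h1 : Subsingleton (Coh.HH (↑(f ⁻¹ᵁ V) : Scheme.{u}) (T.map (Scheme.Modules.restrictFunctor j)).X₁ 1) :=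
    RelVanish.subsingleton_of_isZero f T.X₁ 1 hV h
  have e : j ''ᵁ ⊤ = f ⁻¹ᵁ V := (f ⁻¹ᵁ V).ι_image_top
  let s' : Γ(T.X₃, j ''ᵁ ⊤) :=
    rs T.X₃ (e.le.trans (fun x hx => hVU hx)) (show Γ(T.X₃, f ⁻¹ᵁ U) from s)
  obtain ⟨c, hc⟩ := Groth.L16.Exist.Adic.surjective_app_top hTj h1 s'
  let c' : Γ(T.X₂, f ⁻¹ᵁ V) := rs T.X₂ e.ge (show Γ(T.X₂, j ''ᵁ ⊤) from c)
  have hc' : T.g.app (f ⁻¹ᵁ V) c' = rs T.X₃ (fun x hx => hVU hx) (show Γ(T.X₃, f ⁻¹ᵁ U) from s) := by
    rw [show T.g.app (f ⁻¹ᵁ V) c' = rs T.X₃ e.ge (T.g.app (j ''ᵁ ⊤) c) from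
      congr($(T.g.mapPresheaf.naturality (homOfLE e.ge).op) c)]
    refine (congrArg (rs T.X₃ e.ge) (show T.g.app (j ''ᵁ ⊤) c = s' from hc)).trans ?_
    exact Groth.L18.Frame.rs_rs _ _ _ _
  refine ⟨((Coh.push f).obj T.X₂).presheaf.germ V y hyV c', ?_⟩
  erw [Groth.L21.Mod.stalkF_map_germ]
  refine (congrArg (((Coh.push f).obj T.X₃).presheaf.germ V y hyV) hc').trans ?_
  exact TopCat.Presheaf.germ_res_apply ((Coh.push f).obj T.X₃).presheaf (homOfLE (hVU : V ≤ U)) y hyV s

/-- Direct images of high twists of an exact sequence are exact. -/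
theorem exists_exact (L : X.Modules) (hL : PicF.IsInvertible L) (hamp : RelAmple.IsRelAmple f L)
    (C : ShortComplex X.Modules) (hC : C.Exact) (h1 : Coh.IsCoh C.X₁) (h2 : Coh.IsQCoh C.X₂)
    (hs1 : ClSub.IsProperOver f (CohB1.support C.X₁)) :
    ∃ N : ℕ, ∀ n : ℕ, N ≤ n → (C.map (DCoh.tensorRightMod (CohB1.tensorPow L n) ⋙ Coh.push f)).Exact := by
  haveI := Groth.L17.PushQCoh.hasInjectiveResolutions X
  haveI : IsLocallyNoetherian X := LocallyOfFiniteType.isLocallyNoetherian f
  let A := kernel C.f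
  let I := Abelian.image C.f
  haveI : QuasiSeparated f := inferInstance
  haveI := h2
  have hA : Coh.IsCoh A := Groth.L16.CohSupport.isCoh_kernel h1 C.f
  obtain ⟨N, hN⟩ := exists_isZero f L hL hamp A hA (Groth.L17.ProperOver.isProperOver_mono hs1
    (Groth.L16.CohSupport.isClosed_support _ hA.2) (Groth.L21.Mod.support_mono (kernel.ι C.f)))
  refine ⟨N, fun n hn => ?_⟩
  let O := CohB1.tensorPow L n
  have hO := Groth.L16.Existence.isFinLocFree_of_isInvertible (Groth.L18.Ample.isInvertible_tensorPow hL n)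
  obtain ⟨hl, hr⟩ := exact_instances hO
  haveI := hl
  haveI := hr
  let T := DCoh.tensorRightMod O
  haveI : Coh.IsQCoh (T.obj A) := by
    haveI : Coh.IsQCoh A := hA.1
    haveI : Coh.IsQCoh O := Groth.L21.Extend.isQCoh_of_isInvertible (Groth.L18.Ample.isInvertible_tensorPow hL n)
    exact Groth.L00.Tensor.isQCoh_tensorMod _ _
  have hS := (Groth.L16.Devissage.shortExact_kernel_image C.f).map_of_exact T
  haveI : Epi ((Coh.push f).map (T.map (Abelian.factorThruImage C.f))) :=
    @epi_push _ _ f _ _ _ _ _ hS (inferInstanceAs (Coh.IsQCoh (T.obj A))) _ (hN n hn)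
  -- the left exact part
  have hz : Abelian.image.ι C.f ≫ C.g = 0 := by
    rw [← cancel_epi (Abelian.factorThruImage C.f), ← Category.assoc, Abelian.image.fac, C.zero, comp_zero]
  have hIex : (ShortComplex.mk (Abelian.image.ι C.f) C.g hz).Exact := by
    let φ : C ⟶ ShortComplex.mk (Abelian.image.ι C.f) C.g hz :=
      ShortComplex.homMk (Abelian.factorThruImage C.f) (𝟙 _) (𝟙 _) (by simp) (by simp)
    haveI : Epi φ.τ₁ := inferInstanceAs (Epi (Abelian.factorThruImage C.f))
    haveI : IsIso φ.τ₂ := inferInstanceAs (IsIso (𝟙 _))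
    haveI : Mono φ.τ₃ := inferInstanceAs (Mono (𝟙 _))
    exact (ShortComplex.exact_iff_of_epi_of_isIso_of_mono φ).1 hC
  haveI : PreservesFiniteLimits (Coh.push f) :=
    haveI : (Scheme.Modules.pushforward f).IsRightAdjoint :=
      (Scheme.Modules.pullbackPushforwardAdjunction f).isRightAdjoint
    inferInstanceAs (PreservesFiniteLimits (Scheme.Modules.pushforward f))
  haveI : (Coh.push f).Additive := Groth.L17.PushQCoh.additive_push f
  haveI : Mono (ShortComplex.mk (Abelian.image.ι C.f) C.g hz).f := inferInstanceAs (Mono (Abelian.image.ι C.f))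
  have hpl : PreservesFiniteLimits (T ⋙ Coh.push f) := comp_preservesFiniteLimits _ _
  haveI : (T ⋙ Coh.push f).Additive := inferInstance
  have htfae := (Functor.preservesFiniteLimits_tfae (T ⋙ Coh.push f)).out 3 1 rfl rfl
  obtain ⟨hex, hm⟩ := htfae.1 hpl
    (ShortComplex.mk (Abelian.image.ι C.f) C.g hz) ⟨hIex, inferInstance⟩
  let φ : C.map (T ⋙ Coh.push f) ⟶ (ShortComplex.mk (Abelian.image.ι C.f) C.g hz).map (T ⋙ Coh.push f) :=
    ShortComplex.homMk ((T ⋙ Coh.push f).map (Abelian.factorThruImage C.f)) (𝟙 _) (𝟙 _)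
      (by simp [← Functor.map_comp]) (by simp)
  haveI : Epi φ.τ₁ := inferInstanceAs (Epi ((Coh.push f).map (T.map (Abelian.factorThruImage C.f))))
  haveI : IsIso φ.τ₂ := inferInstanceAs (IsIso (𝟙 _))
  haveI : Mono φ.τ₃ := inferInstanceAs (Mono (𝟙 _))
  exact (ShortComplex.exact_iff_of_epi_of_isIso_of_mono φ).2 hex

end Groth.L16.Rees.PushExact
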