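import Groth.Agent.L16.Rees.Main
import Mathlib.RingTheory.AdicCompletion.AsTensorProduct
import Mathlib.RingTheory.AdicCompletion.Noetherian
import Mathlib.CategoryTheory.Functor.OfSequence

/-!
# Consequences of the finiteness over the Rees algebra: Artin–Rees for cohomology
-/

set_option autoImplicit false
set_option linter.style.haveILetI false

universe u

open CategoryTheory CategoryTheory.Limits AlgebraicGeometry TopologicalSpace Opposite

noncomputable section

namespace Groth.L16.Rees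

open Formal (smulMod modPow modPowπ toHHmodPow)
open Formal2 (idealPowMod idealPowModι idealPowIncl modPowLE modPowπ_modPowLE)
open CohLinear (hmap hmap_comp hmap_id delta overLin)

variable {A : Type u} [CommRing A] (I : Ideal A) {X : Scheme.{u}} [X.Over (Spec (CommRingCat.of A))]
  (F : X.Modules)

/-- The short exact sequence `0 ⟶ Iⁿ F ⟶ F ⟶ F/Iⁿ F ⟶ 0`. -/
abbrev powS (n : ℕ) : ShortComplex X.Modules :=
  ShortComplex.mk (idealPowModι I n F) (modPowπ I n F) (kernel.condition _)

theorem powS_shortExact (n : ℕ) : (powS I F n).ShortExact where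
  exact := ShortComplex.exact_of_f_is_kernel _ (kernelIsKernel _)
  epi_g := inferInstanceAs (Epi (cokernel.π _))

theorem idealPowIncl_ι {m n : ℕ} (h : m ≤ n) :
    idealPowIncl I h F ≫ idealPowModι I m F = idealPowModι I n F :=
  kernel.lift_ι _ _ _

theorem idealPowIncl_comp {l m n : ℕ} (h : l ≤ m) (h' : m ≤ n) :
    idealPowIncl I h' F ≫ idealPowIncl I h F = idealPowIncl I (h.trans h') F := by
  rw [← cancel_mono (idealPowModι I l F), Category.assoc, idealPowIncl_ι, idealPowIncl_ι, idealPowIncl_ι]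

/-- Naturality of the connecting map. -/
theorem delta_naturality {X : Scheme.{u}} {S S' : ShortComplex X.Modules} (hS : S.ShortExact) (hS' : S'.ShortExact)
    (τ : S ⟶ S') {n : ℕ} (x : Coh.HH X S.X₃ n) :
    delta hS' n (hmap τ.τ₃ n x) = hmap τ.τ₁ (n + 1) (delta hS n x) := by
  let σ : CohLinear.abS S ⟶ CohLinear.abS S' :=
    { τ₁ := CohLinear.tm τ.τ₁
      τ₂ := CohLinear.tm τ.τ₂
      τ₃ := CohLinear.tm τ.τ₃
      comm₁₂ := ((CohLinear.tF X).map_comp _ _).symm.trans
        ((congrArg (CohLinear.tF X).map τ.comm₁₂).trans ((CohLinear.tF X).map_comp _ _))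
      comm₂₃ := ((CohLinear.tF X).map_comp _ _).symm.trans
        ((congrArg (CohLinear.tF X).map τ.comm₂₃).trans ((CohLinear.tF X).map_comp _ _)) }
  rw [CohLinear.delta_apply, CohLinear.deltaAdd_apply, CohLinear.hmap_apply, CohLinear.hMap_apply,
    CohLinear.hmap_apply, CohLinear.hMap_apply, CohLinear.delta_apply, CohLinear.deltaAdd_apply,
    Abelian.Ext.comp_assoc_of_second_deg_zero, Abelian.Ext.comp_assoc_of_third_deg_zero]
  exact congrArg (fun z => Abelian.Ext.comp x z (rfl : n + 1 = n + 1))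
    (ShortComplex.ShortExact.extClass_naturality (CohLinear.abS_shortExact hS) (CohLinear.abS_shortExact hS') σ).symm

/-- Multiplication by `a ∈ Iᵏ` as a map `F ⟶ Iᵏ F`. -/
def mulTo {k : ℕ} {a : A} (ha : a ∈ I ^ k) : F ⟶ idealPowMod I k F :=
  kernel.lift _ (smulMod A F a) (smulMod_modPowπ I F ha)

theorem mulTo_ι {k : ℕ} {a : A} (ha : a ∈ I ^ k) : mulTo I F ha ≫ idealPowModι I k F = smulMod A F a :=
  kernel.lift_ι _ _ _

theorem hmap_mulK_ι {k l : ℕ} (h : k ≤ l) (a : A) (ha : a ∈ I ^ (l - k)) (p : ℕ)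
    (q : Coh.HH X (idealPowMod I k F) p) :
    hmap (idealPowModι I l F) p (hmap (mulK I F h a ha) p q) = a • hmap (idealPowModι I k F) p q := by
  rw [← hmap_comp, mulK_ι, hmap_comp, hmap_smulMod]

theorem toHHmodPow_apply (p n : ℕ) (x : Coh.HH X F p) :
    toHHmodPow I F p n x = hmap (modPowπ I (n + 1) F) p x := rfl

theorem ker_toHHmodPow {p n : ℕ} {x : Coh.HH X F p} :
    toHHmodPow I F p n x = 0 ↔ ∃ q, hmap (idealPowModι I (n + 1) F) p q = x :=
  CohLinear.exact_hmap_hmap (powS_shortExact I F (n + 1)) p x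

theorem smul_mem_ker {p n : ℕ} {a : A} (ha : a ∈ I ^ (n + 1)) (x : Coh.HH X F p) :
    toHHmodPow I F p n (a • x) = 0 := by
  rw [toHHmodPow_apply, ← hmap_smulMod, ← hmap_comp, smulMod_modPowπ I F ha, hmap_zero]

variable [IsNoetherianRing A] [IsProper (X ↘ Spec (CommRingCat.of A))]
variable {F}

/-- The kernels of `Hᵖ(X, F) → Hᵖ(X, F/Iⁿ F)` are contained in `Iⁿ⁻ᶜ Hᵖ(X, F)`. -/
theorem exists_ker_le (hF : Coh.IsCoh F) (p : ℕ) :
    ∃ c : ℕ, ∀ n, c ≤ n → ∀ x, toHHmodPow I F p n x = 0 →
      x ∈ I ^ (n - c) • (⊤ : Submodule A (Coh.HH X F p)) := by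
  obtain ⟨k₀, hk⟩ := exists_generated I hF p (fun _ => ⊤) fun _ _ _ _ _ _ _ => trivial
  refine ⟨k₀, fun n hn x hx => ?_⟩
  obtain ⟨q, rfl⟩ := (ker_toHHmodPow I F).1 hx
  have := hk k₀ le_rfl (n + 1) (hn.trans n.le_succ) q trivial
  induction this using AddSubgroup.closure_induction with
  | mem z hz =>
    obtain ⟨a, ha, q', -, rfl⟩ := hz
    rw [hmap_mulK_ι]
    exact Submodule.smul_mem_smul (Ideal.pow_le_pow_right (Nat.sub_le_sub_right n.le_succ _) ha) trivial
  | zero => rw [map_zero]; exact zero_mem _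
  | add z w _ _ hz hw => rw [map_add]; exact add_mem (hz (by
      exact (ker_toHHmodPow I F).2 ⟨z, rfl⟩)) (hw ((ker_toHHmodPow I F).2 ⟨w, rfl⟩))
  | neg z _ hz => rw [map_neg]; exact neg_mem (hz ((ker_toHHmodPow I F).2 ⟨z, rfl⟩))

/-- The filtration by these kernels is `I`-good. -/
theorem exists_good (hF : Coh.IsCoh F) (p : ℕ) :
    ∃ k₀ : ℕ, ∀ k, k₀ ≤ k → ∀ x, toHHmodPow I F p (k + 1) x = 0 ↔
      x ∈ I • Submodule.span A ((toHHmodPow I F p k).ker : Set (Coh.HH X F p)) := by
  obtain ⟨k₀, hk⟩ := exists_generated I hF p (fun _ => ⊤) fun _ _ _ _ _ _ _ => trivial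
  refine ⟨k₀, fun k hk' x => ⟨fun hx => ?_, fun hx => ?_⟩⟩
  · obtain ⟨q, rfl⟩ := (ker_toHHmodPow I F).1 hx
    have h := hk (k + 1) (hk'.trans k.le_succ) (k + 1 + 1) (Nat.le_succ _) q trivial
    clear hx
    induction h using AddSubgroup.closure_induction with
    | mem z hz =>
      obtain ⟨a, ha, q', -, rfl⟩ := hz
      rw [hmap_mulK_ι]
      refine Submodule.smul_mem_smul ?_ (Submodule.subset_span ((ker_toHHmodPow I F).2 ⟨q', rfl⟩))
      simpa using ha
    | zero => rw [map_zero]; exact zero_mem _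
    | add z w _ _ hz hw => rw [map_add]; exact add_mem hz hw
    | neg z _ hz => rw [map_neg]; exact neg_mem hz
  · induction hx using Submodule.smul_induction_on' with
    | smul a ha y hy =>
      have hy' : y ∈ LinearMap.range (overLin A (hmap (idealPowModι I (k + 1) F) p)) := by
        refine Submodule.span_le.2 (fun z hz => ?_) hy
        obtain ⟨q, hq⟩ := (ker_toHHmodPow I F).1 hz
        exact ⟨q, hq⟩
      obtain ⟨q, rfl⟩ := hy'
      refine (ker_toHHmodPow I F).2 ⟨hmap (mulK I F (Nat.le_succ (k + 1)) a (by simpa using ha)) p q, ?_⟩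
      exact hmap_mulK_ι I F _ a _ p q
    | add y z _ _ hy hz => rw [map_add, hy, hz, add_zero]

/-- Stability of the kernels of `Hᵖ(X, Iⁿ F) → Hᵖ(X, F)`. -/
theorem exists_ker_incl (hF : Coh.IsCoh F) (p : ℕ) :
    ∃ c : ℕ, ∀ m n (h : m ≤ n), m + c ≤ n → ∀ y, hmap (idealPowModι I n F) p y = 0 →
      hmap (idealPowIncl I h F) p y = 0 := by
  let Q : ∀ k, AddSubgroup (Coh.HH X (idealPowMod I k F) p) := fun k =>
    (hmap (idealPowModι I k F) p).toAddMonoidHom.ker
  obtain ⟨k₀, hk⟩ := exists_generated I hF p Q fun k l h a ha y hy => by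
    show hmap (idealPowModι I l F) p _ = 0
    rw [hmap_mulK_ι, show hmap (idealPowModι I k F) p y = 0 from hy, smul_zero]
  refine ⟨k₀, fun m n h hmn y hy => ?_⟩
  have h1 := hk k₀ le_rfl n (le_of_add_le_right hmn) y hy
  clear hy
  induction h1 using AddSubgroup.closure_induction with
  | mem z hz =>
    obtain ⟨a, ha, q, hq, rfl⟩ := hz
    have hm : a ∈ I ^ m := Ideal.pow_le_pow_right (by omega) ha
    have : mulK I F (le_of_add_le_right hmn) a ha ≫ idealPowIncl I h F = idealPowModι I k₀ F ≫ mulTo I F hm := by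
      rw [← cancel_mono (idealPowModι I m F), Category.assoc, idealPowIncl_ι, mulK_ι, Category.assoc,
        mulTo_ι]
    rw [← hmap_comp, this, hmap_comp, show hmap (idealPowModι I k₀ F) p q = 0 from hq, map_zero]
  | zero => rw [map_zero]
  | add z w _ _ hz hw => rw [map_add, hz, hw, add_zero]
  | neg z _ hz => rw [map_neg, hz, neg_zero]

/-- The images of `Hᵖ(X, Iⁿ⁺ᵐ F)` in `Hᵖ(X, Iⁿ F)`. -/
theorem exists_range_le (hF : Coh.IsCoh F) (p : ℕ) :
    ∃ c : ℕ, ∀ n m, c ≤ n + m → ∀ y, hmap (idealPowIncl I (Nat.le_add_right n m) F) p y ∈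
      I ^ (m - (c - n)) • (⊤ : Submodule A (Coh.HH X (idealPowMod I n F) p)) := by
  obtain ⟨k₀, hk⟩ := exists_generated I hF p (fun _ => ⊤) fun _ _ _ _ _ _ _ => trivial
  refine ⟨k₀, fun n m hnm y => ?_⟩
  have h1 := hk (max k₀ n) (le_max_left _ _) (n + m) (by omega) y trivial
  induction h1 using AddSubgroup.closure_induction with
  | mem z hz =>
    obtain ⟨a, ha, q, -, rfl⟩ := hz
    have : mulK I F (show max k₀ n ≤ n + m by omega) a ha ≫ idealPowIncl I (Nat.le_add_right n m) F =
        idealPowIncl I (le_max_right k₀ n) F ≫ smulMod A (idealPowMod I n F) a := by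
      rw [← cancel_mono (idealPowModι I n F), Category.assoc, idealPowIncl_ι, mulK_ι, Category.assoc,
        smulMod_naturality, ← Category.assoc, idealPowIncl_ι]
    rw [← hmap_comp, this, hmap_comp, hmap_smulMod]
    exact Submodule.smul_mem_smul (Ideal.pow_le_pow_right (by omega) ha) trivial
  | zero => rw [map_zero]; exact zero_mem _
  | add z w _ _ hz hw => rw [map_add]; exact add_mem hz hw
  | neg z _ hz => rw [map_neg]; exact neg_mem hz

omit [IsNoetherianRing A] [IsProper (X ↘ Spec (CommRingCat.of A))] in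
theorem completion_map (F : X.Modules) {n k : ℕ} (h : n ≤ k) :
    (Formal.completion I F).map (homOfLE h).op = modPowLE I (Nat.succ_le_succ h) F := by
  have key : ∀ k (h : n ≤ k), modPowπ I (k + 1) F ≫ (Formal.completion I F).map (homOfLE h).op =
      modPowπ I (n + 1) F := by
    intro k h
    induction k, h using Nat.le_induction with
    | base =>
      exact (congrArg (modPowπ I (n + 1) F ≫ ·) ((Formal.completion I F).map_id (op n))).trans
        (Category.comp_id _)
    | succ k hk ih =>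
      rw [← homOfLE_comp hk (Nat.le_succ k), op_comp, Functor.map_comp]
      have := Functor.ofOpSequence_map_homOfLE_succ (X := fun n => modPow I (n + 1) F)
        (fun n => Formal.modPowTrans I (n + 1) F) k
      refine (Category.assoc _ _ _).symm.trans ?_
      refine Eq.trans ?_ ih
      refine congrArg (· ≫ (Formal.completion I F).map (homOfLE hk).op) ?_
      exact (congrArg (modPowπ I (k + 1 + 1) F ≫ ·) this).trans (Formal.modPowπ_trans I (k + 1) F)
  haveI : Epi (modPowπ I (k + 1) F) := inferInstanceAs (Epi (cokernel.π _))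
  exact (cancel_epi (modPowπ I (k + 1) F)).1 ((key k h).trans (modPowπ_modPowLE I _ F).symm)

/-- The Mittag-Leffler property with the stable image. -/
theorem exists_range_eq (hF : Coh.IsCoh F) (p : ℕ) :
    ∃ c : ℕ, ∀ (n k : ℕ) (h : n ≤ k), n + c ≤ k → ∀ x : Coh.HH X (modPow I (k + 1) F) p,
      ∃ z, toHHmodPow I F p n z = hmap (modPowLE I (Nat.succ_le_succ h) F) p x := by
  obtain ⟨c, hc⟩ := exists_ker_incl I hF (p + 1)
  refine ⟨c, fun n k h hnk x => ?_⟩
  have hs := powS_shortExact I F (n + 1)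
  have hs' := powS_shortExact I F (k + 1)
  apply (CohLinear.exact_hmap_delta hs p _).1
  let τ : powS I F (k + 1) ⟶ powS I F (n + 1) :=
    { τ₁ := idealPowIncl I (Nat.succ_le_succ h) F
      τ₂ := 𝟙 F
      τ₃ := modPowLE I (Nat.succ_le_succ h) F
      comm₁₂ := (idealPowIncl_ι I F _).trans (Category.comp_id _).symm
      comm₂₃ := (Category.id_comp _).trans (modPowπ_modPowLE I _ F).symm }
  rw [delta_naturality hs' hs τ]
  refine hc (n + 1) (k + 1) (Nat.succ_le_succ h) (by omega) _ ?_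
  exact (CohLinear.exact_delta_hmap hs' p _).2 ⟨x, rfl⟩

end Groth.L16.Rees
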