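import Groth.Agent.L16.Exist.AdicVanish
import Groth.Agent.L16.Exist.Reduce
import Groth.Agent.L16.Rees.StalkFF
import Groth.Agent.L17.ToAbRpush
import Groth.Agent.L18.AmplePull

/-!
# Vanishing near a fibre with an ample restriction
-/

set_option autoImplicit false
set_option linter.style.haveILetI false
set_option linter.unusedSectionVars false
set_option backward.isDefEq.respectTransparency false
set_option backward.isDefEq.respectTransparency.types false

universe u

open CategoryTheory CategoryTheory.Limits AlgebraicGeometry TopologicalSpace Opposite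

noncomputable section

namespace Groth.L16.Rees.FibreAmpleVanish

open Formal (modPow smulMod)
open Groth.L16.Exist (PP ηU)
open Groth.L00.Tensor (tensorLeftF tensorIso tensorPowIso)

/-- Uniform vanishing on the reductions when the restriction to the closed subscheme is ample. -/
theorem exists_vanishing_modPow {A : Type u} [CommRing A] [IsNoetherianRing A] (J : Ideal A) {X : Scheme.{u}}
    [X.Over (Spec (CommRingCat.of A))] [IsProper (X ↘ Spec (CommRingCat.of A))] {L : X.Modules}
    (hL : PicF.IsInvertible L)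
    (ha : CohB1.IsAmple ((Scheme.Modules.pullback
      (pullback.fst (X ↘ Spec (CommRingCat.of A)) (CohB1.specQuot J 0))).obj L))
    {M : X.Modules} (hM : Coh.IsCoh M) :
    ∃ d₀ : ℕ, ∀ d : ℕ, d₀ ≤ d → ∀ N : X.Modules, Coh.IsCoh N →
      Nonempty (N ≅ CohB1.tensorMod (CohB1.tensorPow L d) M) →
        ∀ k q : ℕ, 0 < q → Subsingleton (Coh.HH X (modPow J (k + 1) N) q) := by
  let π := X ↘ Spec (CommRingCat.of A)
  let Xs : ℕ → Scheme.{u} := fun k => pullback π (CohB1.specQuot J k)
  let r : ∀ k, Xs k ⟶ X := fun k => pullback.fst _ _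
  let p : ∀ k, Xs k ⟶ Spec (CommRingCat.of (A ⧸ J ^ (k + 1))) := fun k => pullback.snd _ _
  letI : ∀ k, (Xs k).Over (Spec (CommRingCat.of A)) := fun k => ⟨p k ≫ CohB1.specQuot J k⟩
  have hi₀ : ∀ k, pullback.fst π (CohB1.specQuot J k) ≫ π =
      (pullback.snd π (CohB1.specQuot J k) ≫ CohB1.specQuotTrans J k) ≫ CohB1.specQuot J (k + 1) := fun k => by
    rw [Category.assoc, CohB1.specQuotTrans_specQuot]
    exact pullback.condition
  let i : ∀ k, Xs k ⟶ Xs (k + 1) := fun k => pullback.lift _ _ (hi₀ k)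
  have hcart : ∀ k, IsPullback (i k) (p k) (p (k + 1)) (CohB1.specQuotTrans J k) := fun k => by
    refine IsPullback.of_right (h₁₂ := r (k + 1)) (h₂₂ := CohB1.specQuot J (k + 1)) ?_ (pullback.lift_snd _ _ _)
      (IsPullback.of_hasPullback π (CohB1.specQuot J (k + 1)))
    rw [show i k ≫ r (k + 1) = r k from pullback.lift_fst _ _ _, CohB1.specQuotTrans_specQuot]
    exact IsPullback.of_hasPullback π (CohB1.specQuot J k)
  have S : Exist.Adic.IsSys J Xs p i := Exist.Adic.isSys_of_cart J (fun _ => rfl) hcart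
  have hr : ∀ k, i k ≫ r (k + 1) = r k := fun k => pullback.lift_fst _ _ _
  haveI : ∀ k, IsClosedImmersion (r k) := fun k => by
    haveI := Exist.Adic.isClosedImmersion_specQuot J k
    exact MorphismProperty.pullback_fst (P := @IsClosedImmersion) _ _ inferInstance
  haveI : IsProper (Xs 0 ↘ Spec (CommRingCat.of A)) := by
    rw [show (Xs 0 ↘ Spec (CommRingCat.of A)) = r 0 ≫ π from pullback.condition.symm]
    infer_instance
  haveI : IsLocallyNoetherian X := LocallyOfFiniteType.isLocallyNoetherian π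
  haveI : CompactSpace X := QuasiCompact.compactSpace_of_compactSpace π
  haveI : AlgebraicGeometry.IsNoetherian X := {}
  let F : ∀ k, (Xs k).Modules := fun k => (Scheme.Modules.pullback (r k)).obj M
  let Lk : ∀ k, (Xs k).Modules := fun k => (Scheme.Modules.pullback (r k)).obj L
  obtain ⟨n₀, hn⟩ := Exist.Adic.exists_uniform_vanishing_sys S F (fun k => AffineBC.isCoh_pullback (r k) hM)
    (fun k => (Scheme.Modules.pullbackComp (i k) (r (k + 1))).app M ≪≫ (Scheme.Modules.pullbackCongr (hr k)).app M)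
    Lk (fun k => Groth.L18.Ample.isInvertible_pullback (r k) hL)
    (fun k => (Scheme.Modules.pullbackComp (i k) (r (k + 1))).app L ≪≫ (Scheme.Modules.pullbackCongr (hr k)).app L)
    ha
  refine ⟨n₀, fun d hd N hN ⟨e⟩ k q hq => ?_⟩
  let T := modPow J (k + 1) N
  have hT : Coh.IsCoh T := (Exist.modPow_spec J hN (k + 1)).1
  have hk : ClSub.KilledByIdeal (r k).ker T := by
    intro U a ha' m
    have h1 := Exist.Adic.ker_ideal_le (IsPullback.of_hasPullback π (CohB1.specQuot J k)) U ha'
    have hle : (J ^ (k + 1)).map (AffineBC.scal A X U.1) ≤ Module.annihilator Γ(X, U.1) Γ(T, U.1) := by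
      rw [Ideal.map_le_iff_le_comap]
      intro b hb
      rw [Ideal.mem_comap, Module.mem_annihilator]
      intro m'
      rw [← HomSh.smulMod_app, Existence.smulMod_modPow_eq_zero J N hb]
      rfl
    exact Module.mem_annihilator.1 (hle h1) m
  haveI := Exist.isIso_ηU (r k) hT hk
  obtain ⟨e₁, -⟩ := Existence.exists_pullback_modPowIso (I := J) (r k)
    (show r k ≫ (X ↘ Spec (CommRingCat.of A)) = Xs k ↘ Spec (CommRingCat.of A) from pullback.condition) N (k + 1)
  let N' := (Scheme.Modules.pullback (r k)).obj N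
  haveI : IsIso (Formal.modPowπ J (k + 1) N') := by
    haveI := Existence.epi_modPowπ J (k + 1) N'
    obtain ⟨t, ht⟩ := Existence.modPow_desc J (𝟙 N') fun b hb => by
      rw [Category.comp_id]
      exact Exist.Adic.smulMod_eq_zero (p k) (S.base k) N' hb
    haveI : IsSplitMono (Formal.modPowπ J (k + 1) N') := IsSplitMono.mk' ⟨t, ht⟩
    exact isIso_of_epi_of_isSplitMono _
  let O := CohB1.tensorPow (Lk k) d
  let e₂ : (Scheme.Modules.pullback (r k)).obj T ≅ CohB1.tensorMod O (F k) :=
    e₁.symm ≪≫ (asIso (Formal.modPowπ J (k + 1) N')).symm ≪≫ (Scheme.Modules.pullback (r k)).mapIso e ≪≫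
      (Groth.L29.DC.PullTensor.pullTensor (r k) _ M).symm ≪≫
      tensorIso (Groth.L18.Ample.pullPow (r k) L d) (Iso.refl _)
  refine ProjSpace.subsingleton_of_iso (asIso (ηU (r k) T) ≪≫ (Coh.push (r k)).mapIso e₂) q ?_
  obtain ⟨e'⟩ := Groth.L17.nonempty_HH_push_of_isClosedImmersion (r k) (CohB1.tensorMod O (F k)) q
  exact @Equiv.subsingleton _ _ e'.symm.toEquiv (hn d hd k q hq).1

variable {X Y : Scheme.{u}} (f : X ⟶ Y)

/-- The closed fibre over the local ring is the fibre. -/
theorem isAmple_closed_fibre (L : X.Modules) (y : Y)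
    (hy : CohB1.IsAmple ((Scheme.Modules.pullback (f.fiberι y)).obj L)) :
    CohB1.IsAmple ((Scheme.Modules.pullback
      (pullback.fst (pullback.snd f (Y.fromSpecStalk y))
        (CohB1.specQuot (IsLocalRing.maximalIdeal (Y.presheaf.stalk y)) 0))).obj
      ((Scheme.Modules.pullback (pullback.fst f (Y.fromSpecStalk y))).obj L)) := by
  let O := Y.presheaf.stalk y
  let m := IsLocalRing.maximalIdeal O
  let ρ : (O ⧸ m ^ (0 + 1)) ≃+* IsLocalRing.ResidueField O := Ideal.quotEquivOfEq (pow_one m)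
  let t : Spec (Y.residueField y) ⟶ Spec (CommRingCat.of (O ⧸ m ^ (0 + 1))) :=
    Spec.map (CommRingCat.ofHom ρ.toRingHom)
  haveI : IsIso t := by
    haveI : IsIso (CommRingCat.ofHom ρ.toRingHom) :=
      (ConcreteCategory.isIso_iff_bijective _).2 ρ.bijective
    infer_instance
  have ht : t ≫ CohB1.specQuot m 0 ≫ Y.fromSpecStalk y = Y.fromSpecResidueField y := by
    rw [← Category.assoc, CohB1.specQuot, ← Spec.map_comp]
    rfl
  let P₀ := pullback (pullback.snd f (Y.fromSpecStalk y)) (CohB1.specQuot m 0)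
  let fst₀ : P₀ ⟶ X := pullback.fst (pullback.snd f (Y.fromSpecStalk y)) (CohB1.specQuot m 0) ≫ pullback.fst f (Y.fromSpecStalk y)
  let snd₀ : P₀ ⟶ Spec (CommRingCat.of (O ⧸ m ^ (0 + 1))) := pullback.snd _ _
  have h₁ : IsPullback fst₀ snd₀ f (CohB1.specQuot m 0 ≫ Y.fromSpecStalk y) :=
    (IsPullback.of_hasPullback (pullback.snd f (Y.fromSpecStalk y)) (CohB1.specQuot m 0)).paste_horiz
      (IsPullback.of_hasPullback f (Y.fromSpecStalk y))
  have h₂ : IsPullback (f.fiberι y) (f.fiberToSpecResidueField y ≫ t) f (CohB1.specQuot m 0 ≫ Y.fromSpecStalk y) :=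
    (IsPullback.of_hasPullback f (Y.fromSpecResidueField y)).of_iso (Iso.refl _) (Iso.refl _) (asIso t) (Iso.refl _)
      (by simp; rfl) (by simp; rfl) (by simp) (by simp [ht])
  let θ := h₁.isoIsPullback _ _ h₂
  have hθ : θ.hom ≫ f.fiberι y = fst₀ := h₁.isoIsPullback_hom_fst _ _ h₂
  exact Groth.L18.Ample.isAmple_of_iso
    ((Scheme.Modules.pullbackComp θ.hom (f.fiberι y)).app L ≪≫ (Scheme.Modules.pullbackCongr hθ).app L ≪≫
      ((Scheme.Modules.pullbackComp _ _).app L).symm)
    (Groth.L18.Ample.isAmple_pullback_of_isAffineHom θ.hom hy)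

/-- The stalks of the higher direct images of high twists vanish at a point with ample fibre. -/
theorem exists_subsingleton_stalk [IsProper f] [IsLocallyNoetherian Y] [HasInjectiveResolutions X.Modules]
    (L : X.Modules) (hL : PicF.IsInvertible L) {M : X.Modules} (hM : Coh.IsCoh M) (y : Y)
    (hy : CohB1.IsAmple ((Scheme.Modules.pullback (f.fiberι y)).obj L)) :
    ∃ d₀ : ℕ, ∀ d : ℕ, d₀ ≤ d → ∀ p : ℕ, 0 < p →
      Subsingleton (((Coh.Rpush f p).obj (CohB1.tensorMod M (CohB1.tensorPow L d))).presheaf.stalk y) := by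
  haveI : IsLocallyNoetherian X := LocallyOfFiniteType.isLocallyNoetherian f
  let O := Y.presheaf.stalk y
  let X₁ := pullback f (Y.fromSpecStalk y)
  let g : X₁ ⟶ X := pullback.fst _ _
  letI : X₁.Over (Spec (CommRingCat.of O)) := ⟨pullback.snd _ _⟩
  have hsq : IsPullback g (X₁ ↘ Spec (CommRingCat.of O)) f (Y.fromSpecStalk y) := IsPullback.of_hasPullback _ _
  haveI : IsProper (X₁ ↘ Spec (CommRingCat.of O)) := MorphismProperty.of_isPullback hsq inferInstance
  haveI : IsNoetherianRing O := inferInstance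
  have hM₁ : Coh.IsCoh ((Scheme.Modules.pullback g).obj M) := AffineBC.isCoh_pullback g hM
  obtain ⟨d₀, hd₀⟩ := exists_vanishing_modPow (IsLocalRing.maximalIdeal O)
    (Groth.L18.Ample.isInvertible_pullback g hL) (isAmple_closed_fibre f L y hy) hM₁
  refine ⟨d₀, fun d hd p hp => ?_⟩
  let T := CohB1.tensorMod M (CohB1.tensorPow L d)
  have hT : Coh.IsCoh T :=
    have hP := ProperFinite.isCoh_of_isInvertible (Groth.L18.Ample.isInvertible_tensorPow hL d)
    haveI : Coh.IsQCoh M := hM.1
    haveI : Coh.IsQCoh (CohB1.tensorPow L d) := hP.1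
    ⟨Groth.L00.Tensor.isQCoh_tensorMod _ _, Groth.L00.Tensor.isFT_tensorMod _ _ hM.2 hP.2⟩
  let T₁ := (Scheme.Modules.pullback g).obj T
  let e : T₁ ≅ CohB1.tensorMod (CohB1.tensorPow ((Scheme.Modules.pullback g).obj L) d)
      ((Scheme.Modules.pullback g).obj M) :=
    (Scheme.Modules.pullback g).mapIso (Groth.L00.Tensor.tensorComm M (CohB1.tensorPow L d)) ≪≫
      (Groth.L29.DC.PullTensor.pullTensor g _ M).symm ≪≫
      tensorIso (Groth.L18.Ample.pullPow g L d) (Iso.refl _)
  obtain ⟨hfin, ⟨ec⟩⟩ := stalk_formal_functions f T hT y p g hsq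
  haveI : Subsingleton (Formal.HHlim (IsLocalRing.maximalIdeal O) T₁ p) :=
    ⟨fun a b => Subtype.ext (funext fun n =>
      (hd₀ d hd T₁ (AffineBC.isCoh_pullback g hT) ⟨e⟩ n p hp).elim _ _)⟩
  haveI := ec.toEquiv.subsingleton
  let S := ((Coh.Rpush f p).obj T).presheaf.stalk y
  have h1 : (IsLocalRing.maximalIdeal O) • (⊤ : Submodule O S) = ⊤ := by
    have := (AdicCompletion.eval_surjective (IsLocalRing.maximalIdeal O) S 1).subsingleton
    rw [pow_one] at this
    exact Submodule.Quotient.subsingleton_iff.1 this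
  have h2 := Submodule.eq_bot_of_le_smul_of_le_jacobson_bot _
    (⊤ : Submodule O S) hfin.1 h1.ge (IsLocalRing.maximalIdeal_le_jacobson ⊥)
  exact subsingleton_of_forall_eq 0 fun z => (Submodule.mem_bot (R := O)).1 (h2.le Submodule.mem_top)

end Groth.L16.Rees.FibreAmpleVanish
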