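import Groth.Agent.L16.Exist.Systems
import Groth.Agent.L16.Rees.FormalFunctions
import Groth.Agent.L16.Acc
import Groth.Agent.L17.Tower
import Mathlib.RingTheory.Ideal.Operations

/-!
# Formal functions for finite cohomology, without properness
-/

set_option autoImplicit false
set_option linter.style.haveILetI false
set_option linter.unusedSectionVars false
set_option backward.isDefEq.respectTransparency false

universe u

open CategoryTheory CategoryTheory.Limits AlgebraicGeometry TopologicalSpace Opposite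

noncomputable section

namespace Groth.L16.Rees.FiniteCoh

open Formal (smulMod modPow modPowπ toHHmodPow HHlim HHmodPow HHmodPowTrans)
open Formal2 (modPowLE modPowπ_modPowLE)
open CohLinear (hmap hmap_comp hmap_id delta overLin exact_hmap_hmap exact_hmap_delta exact_delta_hmap)

variable {A : Type u} [CommRing A] {X : Scheme.{u}} [X.Over (Spec (CommRingCat.of A))]
  (J : Ideal A) (F : X.Modules) (f : A)

/-- Kernels of `Hᵖ(F) → Hᵖ(F/Jᵐ F)` are eventually small. -/
def InjP : Prop := ∀ q n : ℕ, ∃ m, n ≤ m ∧ ∀ x : Coh.HH X F q,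
  hmap (modPowπ J m F) q x = 0 → x ∈ J ^ n • (⊤ : Submodule A (Coh.HH X F q))

/-- Images of `Hᵖ(F/Jᵐ F)` eventually come from `Hᵖ(F)`. -/
def SurP : Prop := ∀ q n : ℕ, ∃ (m : ℕ) (h : n ≤ m), ∀ y : Coh.HH X (modPow J m F) q,
  ∃ x, hmap (modPowπ J n F) q x = hmap (modPowLE J h F) q y

instance epi_π (m : ℕ) : Epi (modPowπ J m F) := inferInstanceAs (Epi (cokernel.π _))

theorem le_comp {a b c : ℕ} (h : c ≤ b) (h' : b ≤ a) :
    modPowLE J h' F ≫ modPowLE J h F = modPowLE J (h.trans h') F := by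
  rw [← cancel_epi (modPowπ J a F), ← Category.assoc, modPowπ_modPowLE, modPowπ_modPowLE, modPowπ_modPowLE]

theorem SurP.mono {q n m m' : ℕ} {h : n ≤ m} (hm : m ≤ m')
    (hs : ∀ y : Coh.HH X (modPow J m F) q, ∃ x, hmap (modPowπ J n F) q x = hmap (modPowLE J h F) q y)
    (y : Coh.HH X (modPow J m' F) q) :
    ∃ x, hmap (modPowπ J n F) q x = hmap (modPowLE J (h.trans hm) F) q y := by
  obtain ⟨x, hx⟩ := hs (hmap (modPowLE J hm F) q y)
  exact ⟨x, by rw [hx, ← hmap_comp, le_comp]⟩

theorem π_eq_zero_of_mem {q m : ℕ} {x : Coh.HH X F q} (hx : x ∈ J ^ m • (⊤ : Submodule A (Coh.HH X F q))) :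
    hmap (modPowπ J m F) q x = 0 := by
  refine (Submodule.smul_le.2 fun a ha y _ => ?_ :
    J ^ m • (⊤ : Submodule A (Coh.HH X F q)) ≤ LinearMap.ker (overLin A (hmap (modPowπ J m F) q))) hx
  show hmap (modPowπ J m F) q (a • y) = 0
  rw [← hmap_smulMod, ← hmap_comp, smulMod_modPowπ J F ha, hmap_zero]

theorem smulMod_modPow_eq_zero {m : ℕ} {a : A} (ha : a ∈ J ^ m) : smulMod A (modPow J m F) a = 0 := by
  rw [← cancel_epi (modPowπ J m F), comp_zero, ← smulMod_naturality, smulMod_modPowπ J F ha]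

theorem injP_bot : InjP (⊥ : Ideal A) F := fun q n => ⟨n + 1, n.le_succ, fun x hx => by
  have h0 : ∀ a ∈ (⊥ : Ideal A) ^ (n + 1), smulMod A F a ≫ 𝟙 F = 0 := fun a ha => by
    rw [← Ideal.zero_eq_bot, zero_pow n.succ_ne_zero, Ideal.zero_eq_bot, Submodule.mem_bot] at ha
    rw [ha, smulMod_zero, zero_comp]
  obtain ⟨r, hr⟩ := Existence.modPow_desc (⊥ : Ideal A) (𝟙 F) h0
  have : hmap r q (hmap (modPowπ (⊥ : Ideal A) (n + 1) F) q x) = x := by rw [← hmap_comp, hr, hmap_id]
  rw [← this, hx, map_zero]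
  exact zero_mem _⟩

theorem surP_bot : SurP (⊥ : Ideal A) F := fun q n => ⟨n + 1, n.le_succ, fun y => by
  have h0 : ∀ a ∈ (⊥ : Ideal A) ^ (n + 1), smulMod A F a ≫ 𝟙 F = 0 := fun a ha => by
    rw [← Ideal.zero_eq_bot, zero_pow n.succ_ne_zero, Ideal.zero_eq_bot, Submodule.mem_bot] at ha
    rw [ha, smulMod_zero, zero_comp]
  obtain ⟨r, hr⟩ := Existence.modPow_desc (⊥ : Ideal A) (𝟙 F) h0
  refine ⟨hmap r q y, ?_⟩
  rw [← hmap_comp]
  congr 2
  rw [← cancel_epi (modPowπ (⊥ : Ideal A) (n + 1) F), ← Category.assoc, hr, Category.id_comp, modPowπ_modPowLE]⟩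

/-! ### Adding one generator -/

/-- Multiplication by `fⁿ` on `F/Jⁿ F`. -/
abbrev sN (n : ℕ) : modPow J n F ⟶ modPow J n F := smulMod A (modPow J n F) (f ^ n)

/-- Transition maps of the quotients. -/
def tN {a b : ℕ} (h : b ≤ a) : cokernel (sN J F f a) ⟶ cokernel (sN J F f b) :=
  cokernel.desc _ (modPowLE J h F ≫ cokernel.π _) (by
    have e : sN J F f a ≫ modPowLE J h F =
        (modPowLE J h F ≫ smulMod A _ (f ^ (a - b))) ≫ sN J F f b := by
      rw [sN, sN, Category.assoc, ← smulMod_mul, ← pow_add, Nat.add_sub_cancel' h, smulMod_naturality]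
    rw [← Category.assoc, e, Category.assoc, cokernel.condition, comp_zero])

theorem π_tN {a b : ℕ} (h : b ≤ a) :
    cokernel.π (sN J F f a) ≫ tN J F f h = modPowLE J h F ≫ cokernel.π _ := cokernel.π_desc _ _ _

/-- Transition maps of the images. -/
def tI {a b : ℕ} (h : b ≤ a) : Abelian.image (sN J F f a) ⟶ Abelian.image (sN J F f b) :=
  kernel.lift _ (Abelian.image.ι _ ≫ modPowLE J h F) (by
    rw [Category.assoc, ← π_tN, ← Category.assoc, Abelian.image.ι, kernel.condition, zero_comp])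

theorem tI_ι {a b : ℕ} (h : b ≤ a) :
    tI J F f h ≫ Abelian.image.ι _ = Abelian.image.ι (sN J F f a) ≫ modPowLE J h F := kernel.lift_ι _ _ _

theorem tI_comp {a b c : ℕ} (h : c ≤ b) (h' : b ≤ a) :
    tI J F f h' ≫ tI J F f h = tI J F f (h.trans h') := by
  rw [← cancel_mono (Abelian.image.ι (sN J F f c)), Category.assoc, tI_ι, ← Category.assoc, tI_ι, Category.assoc,
    le_comp, tI_ι]

/-- The middle map above the images. -/
abbrev mid {a b : ℕ} (h : b ≤ a) : modPow J a F ⟶ modPow J b F :=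
  modPowLE J h F ≫ smulMod A _ (f ^ (a - b))

theorem mid_s {a b : ℕ} (h : b ≤ a) : mid J F f h ≫ sN J F f b = sN J F f a ≫ modPowLE J h F := by
  rw [sN, sN, Category.assoc, ← smulMod_mul, ← pow_add, Nat.add_sub_cancel' h, smulMod_naturality]

theorem fac_tI {a b : ℕ} (h : b ≤ a) :
    Abelian.factorThruImage (sN J F f a) ≫ tI J F f h = mid J F f h ≫ Abelian.factorThruImage _ := by
  rw [← cancel_mono (Abelian.image.ι (sN J F f b)), Category.assoc, tI_ι, ← Category.assoc, Abelian.image.fac,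
    Category.assoc, Abelian.image.fac, mid_s]

/-- `0 ⟶ image ⟶ M ⟶ cokernel ⟶ 0`. -/
abbrev S2 (n : ℕ) : ShortComplex X.Modules :=
  ShortComplex.mk (Abelian.image.ι (sN J F f n)) (cokernel.π (sN J F f n)) (kernel.condition _)

theorem S2_shortExact (n : ℕ) : (S2 J F f n).ShortExact where
  exact := ShortComplex.exact_of_f_is_kernel _ (kernelIsKernel _)
  epi_g := inferInstanceAs (Epi (cokernel.π _))

/-- `0 ⟶ kernel ⟶ M ⟶ image ⟶ 0`. -/
abbrev S1 (n : ℕ) : ShortComplex X.Modules :=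
  ShortComplex.mk (kernel.ι (sN J F f n)) (Abelian.factorThruImage (sN J F f n)) (by
    rw [← cancel_mono (Abelian.image.ι (sN J F f n)), Category.assoc, Abelian.image.fac, kernel.condition,
      zero_comp])

theorem S1_shortExact (n : ℕ) : (S1 J F f n).ShortExact where
  exact := by
    let T : ShortComplex X.Modules := ShortComplex.mk (kernel.ι (sN J F f n)) (sN J F f n) (kernel.condition _)
    let φ : S1 J F f n ⟶ T :=
      { τ₁ := 𝟙 _
        τ₂ := 𝟙 _
        τ₃ := Abelian.image.ι _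
        comm₁₂ := (Category.id_comp _).trans (Category.comp_id _).symm
        comm₂₃ := (Category.id_comp _).trans (Abelian.image.fac _).symm }
    haveI : Mono φ.τ₃ := inferInstanceAs (Mono (Abelian.image.ι _))
    haveI : IsIso φ.τ₂ := inferInstanceAs (IsIso (𝟙 _))
    haveI : Epi φ.τ₁ := inferInstanceAs (Epi (𝟙 _))
    exact (ShortComplex.exact_iff_of_epi_of_isIso_of_mono φ).2
      (ShortComplex.exact_of_f_is_kernel _ (kernelIsKernel _))

theorem mid_kernel {a b : ℕ} (h : b ≤ a) :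
    (kernel.ι (sN J F f a) ≫ mid J F f h) ≫ sN J F f b = 0 := by
  rw [Category.assoc, mid_s, ← Category.assoc, kernel.condition, zero_comp]

/-- Torsion of a coherent module is bounded. -/
theorem exists_torsion_bound [AlgebraicGeometry.IsNoetherian X] (M : X.Modules) (hM : Coh.IsCoh M) :
    ∃ c : ℕ, ∀ a, kernel.ι (smulMod A M (f ^ a)) ≫ smulMod A M (f ^ c) = 0 := by
  haveI : Coh.IsQCoh M := hM.1
  have hle : ∀ ⦃a b : ℕ⦄, a ≤ b → kernelSubobject (smulMod A M (f ^ a)) ≤ kernelSubobject (smulMod A M (f ^ b)) := by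
    intro a b h
    refine le_kernelSubobject _ _ ?_
    rw [show f ^ b = f ^ (b - a) * f ^ a by rw [← pow_add, Nat.sub_add_cancel h], smulMod_mul, ← Category.assoc,
      kernelSubobject_arrow_comp, zero_comp]
  obtain ⟨c, hc⟩ := Acc.exists_stable M hM ⟨fun a => kernelSubobject (smulMod A M (f ^ a)), hle⟩ fun a =>
    (CohSupport.isCoh_of_iso (kernelSubobjectIso _).symm (CohSupport.isCoh_kernel hM _)).1
  refine ⟨c, fun a => ?_⟩
  have h1 : kernelSubobject (smulMod A M (f ^ a)) ≤ kernelSubobject (smulMod A M (f ^ c)) := by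
    rcases le_total a c with h | h
    · exact hle h
    · exact (hc a h).le
  rw [← kernelSubobject_arrow' (smulMod A M (f ^ a)), Category.assoc, ← Subobject.ofLE_arrow h1, Category.assoc,
    kernelSubobject_arrow_comp, comp_zero, comp_zero]

/-- The kernels of multiplication form a pro-zero system. -/
theorem exists_kernel_zero [AlgebraicGeometry.IsNoetherian X] (hF : Coh.IsCoh F) (b : ℕ) :
    ∃ c : ℕ, ∀ a (h : b ≤ a), b + c ≤ a → kernel.ι (sN J F f a) ≫ mid J F f h = 0 := by
  obtain ⟨c, hc⟩ := exists_torsion_bound f (modPow J b F) (Exist.modPow_spec J hF b).1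
  refine ⟨c, fun a h hca => ?_⟩
  have h0 : (kernel.ι (sN J F f a) ≫ modPowLE J h F) ≫ smulMod A _ (f ^ a) = 0 := by
    rw [Category.assoc, ← smulMod_naturality, ← Category.assoc, kernel.condition, zero_comp]
  obtain ⟨d, rfl⟩ : ∃ d, a = b + c + d := ⟨a - (b + c), by omega⟩
  rw [mid, show f ^ (b + c + d - b) = f ^ d * f ^ c by
      rw [← pow_add, show b + c + d - b = d + c by omega], smulMod_mul, ← Category.assoc,
    ← kernel.lift_ι _ _ h0]
  simp only [Category.assoc, reassoc_of% (hc (b + c + d)), zero_comp, comp_zero]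

theorem pow_mem_pow (n : ℕ) : f ^ n ∈ (J ⊔ Ideal.span {f}) ^ n :=
  Ideal.pow_mem_pow (Ideal.mem_sup_right (Ideal.mem_span_singleton_self f)) n

/-- The comparison `F/Jⁿ ⟶ F/Kⁿ`. -/
def gK (n : ℕ) : modPow J n F ⟶ modPow (J ⊔ Ideal.span {f}) n F :=
  cokernel.desc _ (modPowπ _ n F) (Formal.smulFamily_π_of_le (Ideal.pow_right_mono le_sup_left n) F)

theorem π_gK (n : ℕ) : modPowπ J n F ≫ gK J F f n = modPowπ _ n F := cokernel.π_desc _ _ _

theorem exists_β (n : ℕ) : ∃ β : modPow (J ⊔ Ideal.span {f}) (n + n) F ⟶ cokernel (sN J F f n),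
    modPowπ _ (n + n) F ≫ β = modPowπ J n F ≫ cokernel.π _ := by
  refine Existence.modPow_desc _ _ fun a ha => ?_
  have h1 := Ideal.sup_pow_add_le_pow_sup_pow ha
  rw [Ideal.span_singleton_pow] at h1
  obtain ⟨b, hb, d, hd, rfl⟩ := Submodule.mem_sup.1 h1
  obtain ⟨r, rfl⟩ := Ideal.mem_span_singleton'.1 hd
  rw [HomSh.smulMod_add, Preadditive.add_comp, ← Category.assoc, smulMod_modPowπ J F hb, zero_comp, zero_add,
    ← Category.assoc, smulMod_naturality, Category.assoc, mul_comm r, smulMod_mul, Category.assoc,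
    cokernel.condition, comp_zero, comp_zero]

theorem exists_α (n : ℕ) : ∃ α : cokernel (sN J F f n) ⟶ modPow (J ⊔ Ideal.span {f}) n F,
    cokernel.π _ ≫ α = gK J F f n := by
  refine ⟨cokernel.desc _ (gK J F f n) ?_, cokernel.π_desc _ _ _⟩
  rw [sN, smulMod_naturality, smulMod_modPow_eq_zero _ F (pow_mem_pow J f n), comp_zero]

theorem exists_module_torsion_bound [IsNoetherianRing A] {H : Type u} [AddCommGroup H] [Module A H]
    [Module.Finite A H] (N : Submodule A H) : ∃ c : ℕ, ∀ (a : ℕ) (w : H), f ^ a • w ∈ N → f ^ c • w ∈ N := by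
  have hle : ∀ ⦃a b : ℕ⦄, a ≤ b → N.comap (LinearMap.lsmul A H (f ^ a)) ≤ N.comap (LinearMap.lsmul A H (f ^ b)) :=
    fun a b h w (hw : f ^ a • w ∈ N) => show f ^ b • w ∈ N by
      rw [show f ^ b = f ^ (b - a) * f ^ a by rw [← pow_add, Nat.sub_add_cancel h], mul_smul]
      exact N.smul_mem _ hw
  obtain ⟨c, hc⟩ := monotone_stabilizes_iff_noetherian.2 inferInstance
    ⟨fun a => N.comap (LinearMap.lsmul A H (f ^ a)), hle⟩
  refine ⟨c, fun a w hw => ?_⟩
  rcases le_total a c with h | h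
  · exact hle h hw
  · exact (hc a h).ge hw

variable [AlgebraicGeometry.IsNoetherian X]

theorem injP_step (hF : Coh.IsCoh F) (hI : InjP J F) (hS : SurP J F) : InjP (J ⊔ Ideal.span {f}) F := by
  intro q n
  obtain ⟨n', hn', hinj⟩ := hI q n
  obtain ⟨b, hb, hsur⟩ := hS q n'
  obtain ⟨c, hc⟩ := exists_kernel_zero J F f hF b
  have hba : b ≤ b + c := Nat.le_add_right b c
  refine ⟨(b + c) + (b + c), by omega, fun x hx => ?_⟩
  obtain ⟨β, hβ⟩ := exists_β J F f (b + c)
  have h1 : hmap (cokernel.π (sN J F f (b + c))) q (hmap (modPowπ J (b + c) F) q x) = 0 := by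
    rw [← hmap_comp, ← hβ, hmap_comp, hx, map_zero]
  obtain ⟨z, hz⟩ := (exact_hmap_hmap (S2_shortExact J F f (b + c)) q _).1 h1
  let τ : S1 J F f (b + c) ⟶ S1 J F f b :=
    { τ₁ := kernel.lift _ (kernel.ι _ ≫ mid J F f hba) (mid_kernel J F f hba)
      τ₂ := mid J F f hba
      τ₃ := tI J F f hba
      comm₁₂ := kernel.lift_ι _ _ _
      comm₂₃ := (fac_tI J F f hba).symm }
  have hτ : τ.τ₁ = 0 := by
    rw [← cancel_mono (kernel.ι (sN J F f b)), zero_comp]
    exact (kernel.lift_ι _ _ _).trans (hc _ hba le_rfl)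
  have h2 : delta (S1_shortExact J F f b) q (hmap τ.τ₃ q z) = 0 := by
    rw [delta_naturality (S1_shortExact J F f (b + c)) (S1_shortExact J F f b) τ, hτ, hmap_zero]
  obtain ⟨u, hu⟩ := (exact_hmap_delta (S1_shortExact J F f b) q _).1 h2
  have h3 : hmap (modPowπ J b F) q x = f ^ b • u := by
    rw [← modPowπ_modPowLE J hba, hmap_comp, ← hz, ← hmap_comp, ← tI_ι, hmap_comp]
    refine (congrArg (hmap (Abelian.image.ι (sN J F f b)) q) hu.symm).trans ?_
    rw [← hmap_comp, Abelian.image.fac]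
    rfl
  obtain ⟨w, hw⟩ := hsur u
  have h4 : hmap (modPowπ J n' F) q (x - f ^ b • w) = 0 := by
    have ex : hmap (modPowπ J n' F) q x = f ^ b • hmap (modPowLE J hb F) q u := by
      rw [← modPowπ_modPowLE J hb, hmap_comp, h3]
      exact (overLin A (hmap (modPowLE J hb F) q)).map_smul (f ^ b) u
    have ew : hmap (modPowπ J n' F) q (f ^ b • w) = f ^ b • hmap (modPowπ J n' F) q w :=
      (overLin A (hmap (modPowπ J n' F) q)).map_smul (f ^ b) w
    rw [map_sub, ex, ew, hw, sub_self]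
  have h5 := Submodule.smul_mono_left (N := (⊤ : Submodule A (Coh.HH X F q)))
    (Ideal.pow_right_mono (le_sup_left : J ≤ J ⊔ Ideal.span {f}) n) (hinj _ h4)
  have h6 : f ^ b • w ∈ (J ⊔ Ideal.span {f}) ^ n • (⊤ : Submodule A (Coh.HH X F q)) :=
    Submodule.smul_mem_smul (Ideal.pow_le_pow_right (hn'.trans hb) (pow_mem_pow J f b)) trivial
  simpa using add_mem h5 h6

theorem surP_step [IsNoetherianRing A] (hfin : ∀ q, Module.Finite A (Coh.HH X F q)) (hF : Coh.IsCoh F)
    (hI : InjP J F) (hS : SurP J F) : SurP (J ⊔ Ideal.span {f}) F := by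
  intro q n
  obtain ⟨b, hb, hsur⟩ := hS q n
  obtain ⟨b'', hb'', hinj⟩ := hI (q + 1) b
  obtain ⟨b₀, hb₀, hsur'⟩ := hS (q + 1) b''
  haveI := hfin (q + 1)
  obtain ⟨e, he⟩ := exists_module_torsion_bound f (J ^ b • (⊤ : Submodule A (Coh.HH X F (q + 1))))
  let b' := max b₀ (b + e)
  have hbb' : b ≤ b' := (Nat.le_add_right b e).trans (le_max_right _ _)
  obtain ⟨c, hc⟩ := exists_kernel_zero J F f hF b'
  have hba : b' ≤ b' + c := Nat.le_add_right b' c
  have hna : n ≤ (b' + c) + (b' + c) := by omega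
  refine ⟨(b' + c) + (b' + c), hna, fun y => ?_⟩
  obtain ⟨β, hβ⟩ := exists_β J F f (b' + c)
  obtain ⟨α, hα⟩ := exists_α J F f b
  have hba' : b ≤ b' + c := hbb'.trans hba
  let y' := hmap β q y
  let z := delta (S2_shortExact J F f (b' + c)) q y'
  have hz0 : hmap (Abelian.image.ι (sN J F f (b' + c))) (q + 1) z = 0 :=
    (exact_delta_hmap (S2_shortExact J F f (b' + c)) q z).2 ⟨y', rfl⟩
  let τ : S1 J F f (b' + c) ⟶ S1 J F f b' :=
    { τ₁ := kernel.lift _ (kernel.ι _ ≫ mid J F f hba) (mid_kernel J F f hba)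
      τ₂ := mid J F f hba
      τ₃ := tI J F f hba
      comm₁₂ := kernel.lift_ι _ _ _
      comm₂₃ := (fac_tI J F f hba).symm }
  have hτ : τ.τ₁ = 0 := by
    rw [← cancel_mono (kernel.ι (sN J F f b')), zero_comp]
    exact (kernel.lift_ι _ _ _).trans (hc _ hba le_rfl)
  have h1 : delta (S1_shortExact J F f b') (q + 1) (hmap τ.τ₃ (q + 1) z) = 0 := by
    rw [delta_naturality (S1_shortExact J F f (b' + c)) (S1_shortExact J F f b') τ, hτ, hmap_zero]
  obtain ⟨u, hu⟩ := (exact_hmap_delta (S1_shortExact J F f b') (q + 1) _).1 h1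
  have h2 : f ^ b' • u = 0 := by
    have : hmap (sN J F f b') (q + 1) u = 0 := by
      rw [← Abelian.image.fac (sN J F f b'), hmap_comp]
      refine (congrArg (hmap (Abelian.image.ι (sN J F f b')) (q + 1)) hu).trans ?_
      show hmap _ _ (hmap (tI J F f hba) (q + 1) z) = 0
      rw [← hmap_comp, tI_ι, hmap_comp, hz0, map_zero]
    exact this
  obtain ⟨w, hw⟩ := SurP.mono J F (le_max_left b₀ (b + e)) hsur' u
  have h3 : f ^ b' • w ∈ J ^ b • (⊤ : Submodule A (Coh.HH X F (q + 1))) := by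
    refine hinj _ ?_
    rw [show hmap (modPowπ J b'' F) (q + 1) (f ^ b' • w) = f ^ b' • hmap (modPowπ J b'' F) (q + 1) w from
      (overLin A (hmap (modPowπ J b'' F) (q + 1))).map_smul _ _, hw]
    refine ((overLin A (hmap (modPowLE J _ F) (q + 1))).map_smul (f ^ b') u).symm.trans ?_
    rw [h2]
    exact map_zero _
  have h4 : f ^ (b' - b) • hmap (modPowπ J b F) (q + 1) w = 0 := by
    refine ((overLin A (hmap (modPowπ J b F) (q + 1))).map_smul (f ^ (b' - b)) w).symm.trans (π_eq_zero_of_mem J F ?_)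
    obtain ⟨d, hd⟩ : ∃ d, b' - b = d + e := ⟨b' - b - e, by omega⟩
    rw [hd, pow_add, mul_smul]
    exact Submodule.smul_mem _ _ (he _ _ h3)
  have h5 : hmap (tI J F f hba') (q + 1) z = 0 := by
    rw [← tI_comp J F f hbb' hba, hmap_comp]
    refine (congrArg (hmap (tI J F f hbb') (q + 1)) hu.symm).trans ?_
    rw [← hmap_comp, fac_tI, hmap_comp]
    refine (congrArg (hmap (Abelian.factorThruImage (sN J F f b)) (q + 1)) ?_).trans (map_zero _)
    rw [hmap_comp, hmap_smulMod, ← le_comp J F hb'' ((hb₀).trans (le_max_left b₀ (b + e))), hmap_comp, ← hw,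
      ← hmap_comp, modPowπ_modPowLE]
    exact h4
  let τ' : S2 J F f (b' + c) ⟶ S2 J F f b :=
    { τ₁ := tI J F f hba'
      τ₂ := modPowLE J hba' F
      τ₃ := tN J F f hba'
      comm₁₂ := tI_ι J F f hba'
      comm₂₃ := (π_tN J F f hba').symm }
  have h6 : delta (S2_shortExact J F f b) q (hmap τ'.τ₃ q y') = 0 := by
    rw [delta_naturality (S2_shortExact J F f (b' + c)) (S2_shortExact J F f b) τ']
    exact h5
  obtain ⟨v, hv⟩ := (exact_hmap_delta (S2_shortExact J F f b) q _).1 h6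
  obtain ⟨x, hx⟩ := hsur v
  refine ⟨x, ?_⟩
  have e1 : cokernel.π (sN J F f b) ≫ α ≫ modPowLE (J ⊔ Ideal.span {f}) hb F = modPowLE J hb F ≫ gK J F f n := by
    rw [← Category.assoc, hα, ← cancel_epi (modPowπ J b F), ← Category.assoc, π_gK, modPowπ_modPowLE,
      ← Category.assoc, modPowπ_modPowLE, π_gK]
  have e2 : β ≫ tN J F f hba' ≫ α ≫ modPowLE (J ⊔ Ideal.span {f}) hb F =
      modPowLE (J ⊔ Ideal.span {f}) hna F := by
    rw [← cancel_epi (modPowπ (J ⊔ Ideal.span {f}) (b' + c + (b' + c)) F), ← Category.assoc, hβ, Category.assoc,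
      ← Category.assoc (cokernel.π _), π_tN, Category.assoc, e1, ← Category.assoc (modPowπ J _ F), modPowπ_modPowLE,
      ← Category.assoc, modPowπ_modPowLE, π_gK, modPowπ_modPowLE]
  rw [← π_gK J F f n, hmap_comp, hx, ← hmap_comp, ← e1, hmap_comp]
  refine (congrArg (hmap (α ≫ modPowLE (J ⊔ Ideal.span {f}) hb F) q) hv).trans ?_
  show hmap _ q (hmap (tN J F f hba') q (hmap β q y)) = _
  rw [← hmap_comp, ← hmap_comp, e2]

variable [IsNoetherianRing A] (hfin : ∀ q, Module.Finite A (Coh.HH X F q)) (I : Ideal A)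

include hfin in
theorem injP_and_surP (hF : Coh.IsCoh F) : InjP I F ∧ SurP I F := by
  classical
  obtain ⟨s, rfl⟩ := IsNoetherian.noetherian I
  induction s using Finset.induction with
  | empty =>
    rw [Finset.coe_empty, Submodule.span_empty]
    exact ⟨injP_bot F, surP_bot F⟩
  | insert a s _ ih =>
    rw [Finset.coe_insert, Submodule.span_insert, sup_comm]
    exact ⟨injP_step _ F a hF ih.1 ih.2, surP_step _ F a hfin hF ih.1 ih.2⟩

include hfin in
theorem ofCompletion_bijective (hF : Coh.IsCoh F) (p : ℕ) : Function.Bijective (ofCompletion I F p) := by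
  obtain ⟨hI, hS⟩ := injP_and_surP F hfin I hF
  refine ⟨(injective_iff_map_eq_zero _).2 fun x hx => ?_, fun y => ?_⟩
  · ext n
    obtain ⟨m, hm, hinj⟩ := hI p n
    obtain ⟨z, hz⟩ := Submodule.Quotient.mk_surjective _ (x.val (m + 1))
    have h0 : toHHmodPow I F p m z = 0 := by
      rw [← toQuot_mk, hz]
      exact congrFun (congrArg Subtype.val hx) m
    have h1 : z ∈ I ^ n • (⊤ : Submodule A (Coh.HH X F p)) := hinj z (by
      rw [← modPowπ_modPowLE I m.le_succ, hmap_comp, ← toHHmodPow_apply, h0, map_zero])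
    rw [← x.2 (hm.trans m.le_succ), ← hz]
    exact (Submodule.Quotient.mk_eq_zero _).2 h1
  · have hpre : ∀ n, ∃ z, toHHmodPow I F p n z = y.1 n := fun n => by
      obtain ⟨m, hm, hs⟩ := hS p (n + 1)
      obtain ⟨z, hz⟩ := SurP.mono I F m.le_succ hs (y.1 m)
      exact ⟨z, hz.trans (HHlim_compat I F y (show n ≤ m by omega))⟩
    choose z hz using hpre
    choose m hm hinj using fun n => hI p n
    let mx : ℕ → ℕ := fun n => (Finset.range (n + 1)).sup m
    have hmx : ∀ n, m n ≤ mx n := fun n => Finset.le_sup (f := m) (Finset.mem_range.2 n.lt_succ_self)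
    have hmono : ∀ ⦃a b⦄, a ≤ b → mx a ≤ mx b := fun a b h => Finset.sup_mono (Finset.range_mono (Nat.succ_le_succ h))
    refine ⟨⟨fun n => Submodule.Quotient.mk (z (mx n)), fun {a b} h => ?_⟩, ?_⟩
    · refine (Submodule.Quotient.eq _).2 (hinj a _ ?_)
      have h0 : toHHmodPow I F p (mx a) (z (mx b) - z (mx a)) = 0 := by
        rw [map_sub, hz, ← modPowLE_toHHmodPow I F p (hmono h), hz, HHlim_compat I F y (hmono h), sub_self]
      rw [← modPowπ_modPowLE I ((hmx a).trans (mx a).le_succ), hmap_comp]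
      exact (congrArg _ h0).trans (map_zero _)
    · ext n
      show toHHmodPow I F p n (z (mx (n + 1))) = y.1 n
      have h : n ≤ mx (n + 1) := n.le_succ.trans ((hm (n + 1)).trans (hmx (n + 1)))
      rw [← modPowLE_toHHmodPow I F p h, hz, HHlim_compat I F y h]

include hfin in
theorem short_exact (hF : Coh.IsCoh F) (p : ℕ) :
    ∃ (α : Formal2.limOne (fun n => HHmodPow I F p n) (fun n => HHmodPowTrans I F p n) →+
        AdicCompletion I (Coh.HH X F (p + 1)))
      (β : AdicCompletion I (Coh.HH X F (p + 1)) →+ HHlim I F (p + 1)),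
      Function.Injective α ∧ Function.Surjective β ∧ α.range = β.ker ∧
      ∀ (x : AdicCompletion I (Coh.HH X F (p + 1))) (n : ℕ) (h : Coh.HH X F (p + 1)),
        AdicCompletion.eval I (Coh.HH X F (p + 1)) (n + 1) x = Submodule.Quotient.mk h →
          (β x : ∀ n, HHmodPow I F (p + 1) n) n = toHHmodPow I F (p + 1) n h := by
  obtain ⟨-, hS⟩ := injP_and_surP F hfin I hF
  have hsurj : Function.Surjective
      (Formal2.towerDiff (fun n => HHmodPow I F p n) (fun n => HHmodPowTrans I F p n)) := fun y => by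
    obtain ⟨x, hx⟩ := Groth.L17.Tower.exists_solution_of_ml (fun n => HHmodPowTrans I F p n) (fun i => by
      obtain ⟨m, hm, hs⟩ := hS p (i + 1)
      refine ⟨m, by omega, fun k _ => ?_⟩
      rintro _ ⟨x, hx, rfl⟩
      have key : ∀ j (hj : i ≤ j), j ≤ m → x i = hmap (modPowLE I (Nat.succ_le_succ hj) F) p (x j) := by
        intro j hj
        induction j, hj using Nat.le_induction with
        | base =>
          intro _
          have : modPowLE I (Nat.succ_le_succ (le_refl i)) F = 𝟙 _ := by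
            rw [← cancel_epi (modPowπ I (i + 1) F), modPowπ_modPowLE, Category.comp_id]
          rw [this, hmap_id]
        | succ j hj ih =>
          intro hjm
          rw [ih (by omega), hx j hj (by omega)]
          show hmap _ p (hmap (Formal.modPowTrans I (j + 1) F) p (x (j + 1))) = _
          rw [← hmap_comp]
          congr 2
          rw [← cancel_epi (modPowπ I (j + 1 + 1) F), ← Category.assoc, Formal.modPowπ_trans, modPowπ_modPowLE,
            modPowπ_modPowLE]
      obtain ⟨w, hw⟩ := SurP.mono I F m.le_succ hs (x m)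
      refine ⟨fun n => toHHmodPow I F p n w, fun n _ _ => (trans_toHHmodPow I F p n w).symm, ?_⟩
      exact hw.trans (key m (by omega) le_rfl).symm) y
    exact ⟨x, funext hx⟩
  haveI : Subsingleton (Formal2.limOne (fun n => HHmodPow I F p n) (fun n => HHmodPowTrans I F p n)) :=
    ⟨fun a b => by
      obtain ⟨a, rfl⟩ := QuotientAddGroup.mk_surjective a
      obtain ⟨b, rfl⟩ := QuotientAddGroup.mk_surjective b
      exact (QuotientAddGroup.eq).2 (hsurj _)⟩
  refine ⟨0, ofCompletion I F (p + 1), Function.injective_of_subsingleton _,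
    (ofCompletion_bijective F hfin I hF (p + 1)).2, ?_, fun x n h hh => ?_⟩
  · rw [AddMonoidHom.range_zero, (AddMonoidHom.ker_eq_bot_iff _).2 (ofCompletion_bijective F hfin I hF (p + 1)).1]
  · show toQuot I F (p + 1) n (x.val (n + 1)) = _
    rw [show x.val (n + 1) = Submodule.Quotient.mk h from hh]
    rfl

end Groth.L16.Rees.FiniteCoh
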