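import Groth.Agent.L16.Rees.FormalFunctions
import Groth.Agent.L16.HomSh.ModPowSect
import Groth.Agent.L17.BC.Fibre
import Groth.Agent.L17.BC.Cochains
import Mathlib.RingTheory.Flat.FaithfullyFlat.Basic

/-!
# Surjectivity onto the cohomology of infinitesimal thickenings
-/

set_option autoImplicit false
set_option linter.style.haveILetI false
set_option linter.unusedSectionVars false
set_option backward.isDefEq.respectTransparency false

universe u

open CategoryTheory CategoryTheory.Limits AlgebraicGeometry TopologicalSpace Opposite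
open scoped TensorProduct

noncomputable section

namespace Groth.L16.Rees.FlatSurj

open Groth.L17.BC
open Groth.L17.BC.Cochains
open Formal (modPow modPowπ modPowTrans toHHmodPow)
open Formal2 (modPowLE modPowπ_modPowLE)
open CohLinear (hmap hmap_comp hmap_id delta)
open Groth.L01.FlatCx (bcE bcE_dd dd bc)

section Alg

variable {A : Type u} [CommRing A] {P Q R : Type u} [AddCommGroup P] [Module A P] [AddCommGroup Q] [Module A Q]
  [AddCommGroup R] [Module A R] (f : P →ₗ[A] Q) (g : Q →ₗ[A] R)

/-- Over a field an exact sequence stays exact after tensoring, and exactness descends from extensions. -/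
theorem exact_baseChange_descend (k B : Type u) [Field k] [Algebra A k] [CommRing B] [Nontrivial B] [Algebra A B]
    [Algebra k B] [IsScalarTower A k B] (h : Function.Exact (f.baseChange B) (g.baseChange B)) :
    Function.Exact (f.baseChange k) (g.baseChange k) := by
  refine Module.FaithfullyFlat.lTensor_reflects_exact k B (f.baseChange k) (g.baseChange k) ?_
  refine (Function.Exact.iff_of_ladder_linearEquiv
    (e₁ := ((TensorProduct.AlgebraTensorModule.cancelBaseChange A k k B P).restrictScalars k))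
    (e₂ := ((TensorProduct.AlgebraTensorModule.cancelBaseChange A k k B Q).restrictScalars k))
    (e₃ := ((TensorProduct.AlgebraTensorModule.cancelBaseChange A k k B R).restrictScalars k))
    (g₁₂ := (f.baseChange B).restrictScalars k) (g₂₃ := (g.baseChange B).restrictScalars k) ?_ ?_).1 h
  · exact TensorProduct.AlgebraTensorModule.ext fun b z => by
      induction z using TensorProduct.induction_on with
      | zero => simp
      | tmul c p => simp
      | add x y hx hy => simp only [TensorProduct.tmul_add, map_add, hx, hy]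
  · exact TensorProduct.AlgebraTensorModule.ext fun b z => by
      induction z using TensorProduct.induction_on with
      | zero => simp
      | tmul c p => simp
      | add x y hx hy => simp only [TensorProduct.tmul_add, map_add, hx, hy]

/-- Over a field exactness is preserved by tensoring. -/
theorem exact_lTensor_field (k M : Type u) [Field k] [Algebra A k] [AddCommGroup M] [Module A M] [Module k M]
    [IsScalarTower A k M] (h : Function.Exact (f.baseChange k) (g.baseChange k)) :
    Function.Exact (f.lTensor M) (g.lTensor M) := by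
  refine (Function.Exact.iff_of_ladder_linearEquiv
    (e₁ := ((TensorProduct.AlgebraTensorModule.cancelBaseChange A k k M P).restrictScalars A))
    (e₂ := ((TensorProduct.AlgebraTensorModule.cancelBaseChange A k k M Q).restrictScalars A))
    (e₃ := ((TensorProduct.AlgebraTensorModule.cancelBaseChange A k k M R).restrictScalars A))
    (f₁₂ := ((f.baseChange k).lTensor M).restrictScalars A) (f₂₃ := ((g.baseChange k).lTensor M).restrictScalars A)
    ?_ ?_).2 (Module.Flat.lTensor_exact M h)
  · refine LinearMap.ext fun t => ?_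
    induction t using TensorProduct.induction_on with
    | zero => simp
    | tmul m z =>
      induction z using TensorProduct.induction_on with
      | zero => simp
      | tmul c p => simp
      | add x y hx hy => simp only [TensorProduct.tmul_add, map_add, hx, hy]
    | add x y hx hy => simp only [map_add, hx, hy]
  · refine LinearMap.ext fun t => ?_
    induction t using TensorProduct.induction_on with
    | zero => simp
    | tmul m z =>
      induction z using TensorProduct.induction_on with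
      | zero => simp
      | tmul c p => simp
      | add x y hx hy => simp only [TensorProduct.tmul_add, map_add, hx, hy]
    | add x y hx hy => simp only [map_add, hx, hy]

/-- `J ⊗ V ⟶ V`. -/
def ιJ (J : Ideal A) (V : Type u) [AddCommGroup V] [Module A V] : J ⊗[A] V →ₗ[A] V :=
  TensorProduct.lift ((LinearMap.lsmul A V).comp J.subtype)

theorem ιJ_tmul (J : Ideal A) (V : Type u) [AddCommGroup V] [Module A V] (a : J) (v : V) :
    ιJ J V (a ⊗ₜ v) = (a : A) • v := rfl

theorem range_ιJ (J : Ideal A) (V : Type u) [AddCommGroup V] [Module A V] :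
    LinearMap.range (ιJ J V) = J • (⊤ : Submodule A V) := by
  refine le_antisymm ?_ (Submodule.smul_le.2 fun a ha v _ => ⟨(⟨a, ha⟩ : J) ⊗ₜ v, rfl⟩)
  rintro _ ⟨t, rfl⟩
  induction t using TensorProduct.induction_on with
  | zero => simp
  | tmul a v => exact Submodule.smul_mem_smul a.2 trivial
  | add x y hx hy => rw [map_add]; exact add_mem hx hy

theorem ιJ_natural (J : Ideal A) (t : J ⊗[A] Q) : ιJ J R (g.lTensor J t) = g (ιJ J Q t) :=
  LinearMap.congr_fun (TensorProduct.ext' (g := ιJ J R ∘ₗ g.lTensor J) (h := g ∘ₗ ιJ J Q)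
    fun a v => by simp [ιJ_tmul]) t

theorem ιJ_injective (J : Ideal A) [Module.Flat A R] : Function.Injective (ιJ J R) := by
  have h : ιJ J R = (TensorProduct.lid A R).toLinearMap ∘ₗ J.subtype.rTensor R :=
    TensorProduct.ext' fun a v => by simp [ιJ_tmul]
  rw [h]
  exact (TensorProduct.lid A R).injective.comp
    (Module.Flat.rTensor_preserves_injective_linearMap _ J.injective_subtype)

/-- Cycles modulo `m ^ (k + 1)` in `m ^ k` are boundaries of `m ^ k`, if this holds modulo `m`. -/
theorem exists_boundary_mod (m : Ideal A) [m.IsMaximal] [Module.Flat A R] (hfg : ∀ x, g (f x) = 0)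
    (hex : Function.Exact (f.baseChange (A ⧸ m)) (g.baseChange (A ⧸ m))) (k : ℕ) (x : Q)
    (hx : x ∈ m ^ k • (⊤ : Submodule A Q)) (hgx : g x ∈ m ^ (k + 1) • (⊤ : Submodule A R)) :
    ∃ y ∈ m ^ k • (⊤ : Submodule A P), x - f y ∈ m ^ (k + 1) • (⊤ : Submodule A Q) := by
  letI : Field (A ⧸ m) := Ideal.Quotient.field m
  let J : Ideal A := m ^ k
  let M : Type u := J ⧸ (m • ⊤ : Submodule A J)
  let π : J →ₗ[A] M := Submodule.mkQ _
  have hπ : Function.Surjective π := Submodule.mkQ_surjective _
  rw [← range_ιJ] at hx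
  obtain ⟨t, rfl⟩ := hx
  have hmap : ∀ (V : Type u) [AddCommGroup V] [Module A V],
      Submodule.map (ιJ J V) (m • ⊤) = m ^ (k + 1) • (⊤ : Submodule A V) := fun V _ _ => by
    rw [Submodule.map_smul'', Submodule.map_top, range_ιJ, ← Submodule.mul_smul, pow_succ']
  rw [← hmap, ← ιJ_natural] at hgx
  obtain ⟨s, hs, hs'⟩ := hgx
  have hgt : g.lTensor J t ∈ m • (⊤ : Submodule A (J ⊗[A] R)) := ιJ_injective J hs' ▸ hs
  have hM : (g.lTensor M) (π.rTensor Q t) = 0 := by
    rw [show g.lTensor M (π.rTensor Q t) = π.rTensor R (g.lTensor J t) by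
      rw [← LinearMap.comp_apply, LinearMap.lTensor_comp_rTensor, ← LinearMap.rTensor_comp_lTensor]; rfl]
    refine Submodule.smul_induction_on hgt (fun a ha z _ => ?_) (fun a b ha hb => by rw [map_add, ha, hb, add_zero])
    rw [map_smul]
    induction (π.rTensor R z) using TensorProduct.induction_on with
    | zero => exact smul_zero a
    | tmul b r =>
      have hb : a • b = 0 := by
        obtain ⟨j, rfl⟩ := Submodule.mkQ_surjective _ b
        rw [← map_smul]
        exact (Submodule.Quotient.mk_eq_zero _).2 (Submodule.smul_mem_smul ha trivial)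
      rw [TensorProduct.smul_tmul', hb, TensorProduct.zero_tmul]
    | add u v hu hv => rw [smul_add, hu, hv, add_zero]
  obtain ⟨w, hw⟩ := (exact_lTensor_field f g (A ⧸ m) M hex _).1 hM
  obtain ⟨w', rfl⟩ := LinearMap.rTensor_surjective P hπ w
  refine ⟨ιJ J P w', range_ιJ J P ▸ ⟨w', rfl⟩, ?_⟩
  rw [← ιJ_natural, ← map_sub]
  have h0 : π.rTensor Q (t - f.lTensor J w') = 0 := by
    rw [map_sub, sub_eq_zero, ← hw, ← LinearMap.comp_apply, LinearMap.lTensor_comp_rTensor,
      ← LinearMap.rTensor_comp_lTensor]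
    rfl
  obtain ⟨v, hv⟩ := (rTensor_exact Q (LinearMap.exact_subtype_mkQ (m • ⊤ : Submodule A J)) hπ _).1 h0
  rw [← hv]
  clear hv h0
  induction v using TensorProduct.induction_on with
  | zero => simp
  | tmul a q =>
    rw [LinearMap.rTensor_tmul, ιJ_tmul]
    refine Submodule.smul_mem_smul ?_ trivial
    have := Submodule.mem_map_of_mem (f := J.subtype) a.2
    rw [Submodule.map_smul'', Submodule.map_subtype_top] at this
    rw [pow_succ']
    exact this
  | add a b ha hb => rw [map_add, map_add]; exact add_mem ha hb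

end Alg

variable {A : Type u} [CommRing A] [IsNoetherianRing A] [IsLocalRing A] {X : Scheme.{u}}
  [X.Over (Spec (CommRingCat.of A))] [IsProper (X ↘ Spec (CommRingCat.of A))] {F : X.Modules}

local notation "ρX" => Coh.toGlobal (A := A) (X ↘ Spec (CommRingCat.of A))
local notation "𝔪" => IsLocalRing.maximalIdeal A

variable {ι : Type u} [Finite ι] (U : ι → X.Opens)

/-- The fibre criterion on cochains. -/
theorem exact_residue (hF : Coh.IsCoh F) (hcov : ⨆ i, U i = ⊤)
    (haff : ∀ (n : ℕ) (a : Fin (n + 1) → ι), IsAffineOpen (⨅ k, U (a k))) (n : ℕ)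
    (hvan : Subsingleton (CohIII.fiberH (X ↘ Spec (CommRingCat.of A)) F (IsLocalRing.closedPoint A) (n + 1))) :
    Function.Exact ((dL ρX F U (n : ℤ)).baseChange (A ⧸ 𝔪)) ((dL ρX F U ((n : ℤ) + 1)).baseChange (A ⧸ 𝔪)) := by
  let f := X ↘ Spec (CommRingCat.of A)
  let S := Spec (CommRingCat.of A)
  let y : S := IsLocalRing.closedPoint A
  let φ : CommRingCat.of A ⟶ S.residueField y := Spec.preimage (S.fromSpecResidueField y)
  letI : Algebra A (S.residueField y) := φ.hom.toAlgebra
  have hφ : Spec.map (CommRingCat.ofHom (algebraMap A (S.residueField y))) = S.fromSpecResidueField y :=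
    Spec.map_preimage _
  have hker : RingHom.ker (algebraMap A (S.residueField y)) = 𝔪 := by
    let z : Spec (S.residueField y) := (⊥ : PrimeSpectrum (S.residueField y))
    have h := congrArg (fun p : PrimeSpectrum A => p.asIdeal)
      ((congrArg (fun ψ : Spec (S.residueField y) ⟶ S => ψ z) hφ).trans (Scheme.fromSpecResidueField_apply _ _))
    rw [RingHom.ker_eq_comap_bot]
    exact h
  letI : Field (A ⧸ 𝔪) := Ideal.Quotient.field _
  letI : Algebra (A ⧸ 𝔪) (S.residueField y) :=
    (Ideal.Quotient.lift 𝔪 (algebraMap A (S.residueField y)) fun a ha => RingHom.mem_ker.1 (hker.ge ha)).toAlgebra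
  haveI : IsScalarTower A (A ⧸ 𝔪) (S.residueField y) := IsScalarTower.of_algebraMap_eq fun _ => rfl
  refine exact_baseChange_descend _ _ (A ⧸ 𝔪) (S.residueField y) ?_
  have sq : IsPullback (f.fiberι y) (f.fiberToSpecResidueField y) f
      (Spec.map (CommRingCat.ofHom (algebraMap A (S.residueField y)))) := by
    rw [hφ]; exact IsPullback.of_hasPullback _ _
  haveI : Coh.IsQCoh F := hF.1
  haveI := isAffineHom_of_isPullback (A := A) (B := (Spec (CommRingCat.of A)).residueField y) f (f.fiberToSpecResidueField y) (f.fiberι y) sq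
  obtain ⟨e⟩ := nonempty_bcCx_iso (f.fiberι y) ρX (Coh.toGlobal (A := S.residueField y) (f.fiberToSpecResidueField y))
    F (compat_of_isPullback (A := A) (B := (Spec (CommRingCat.of A)).residueField y) f (f.fiberToSpecResidueField y) (f.fiberι y) sq) U
    (hasBC_of_isPullback (A := A) (B := (Spec (CommRingCat.of A)).residueField y) f (f.fiberToSpecResidueField y) (f.fiberι y) sq F) haff
  haveI : Coh.IsQCoh (Fb (f.fiberι y) F) := Groth.L16.AffineBC.isQCoh_pullback _ F
  have hcov' : ⨆ i, Ub (f.fiberι y) U i = ⊤ := top_unique fun x _ => by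
    obtain ⟨i, hi⟩ := Opens.mem_iSup.1 (hcov.ge (Opens.mem_top (f.fiberι y x)))
    exact Opens.mem_iSup.2 ⟨i, hi⟩
  obtain ⟨e'⟩ := exists_homology_equiv (Coh.toGlobal (A := S.residueField y) (f.fiberToSpecResidueField y))
    (Fb (f.fiberι y) F) (Ub (f.fiberι y) U) hcov' (isAffineOpen_iInf_preimage (f.fiberι y) U haff) (n + 1)
  haveI : Subsingleton (Coh.HH (f.fiber y) (Fb (f.fiberι y) F) (n + 1)) := hvan
  haveI := e'.toEquiv.subsingleton
  have hz0 : IsZero ((K (Coh.toGlobal (A := S.residueField y) (f.fiberToSpecResidueField y)) (Fb (f.fiberι y) F)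
      (Ub (f.fiberι y) U)).homology ((n + 1 : ℕ) : ℤ)) := ModuleCat.isZero_of_subsingleton _
  have hz : IsZero ((bc (S.residueField y) (K ρX F U)).homology ((n + 1 : ℕ) : ℤ)) :=
    hz0.of_iso ((HomologicalComplex.homologyFunctor _ _ _).mapIso e)
  rw [show ((n + 1 : ℕ) : ℤ) = (n : ℤ) + 1 by push_cast; rfl, ← HomologicalComplex.exactAt_iff_isZero_homology,
    HomologicalComplex.exactAt_iff' _ (n : ℤ) ((n : ℤ) + 1) ((n : ℤ) + 1 + 1) (by simp) (by simp),
    ShortComplex.ShortExact.moduleCat_exact_iff_function_exact] at hz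
  have hd : ∀ i (x : C ρX F U i), dd (K ρX F U) i (i + 1) x = dL ρX F U i x := K_d ρX F U
  have hd' : ∀ i, dd (K ρX F U) i (i + 1) = dL ρX F U i := fun i => LinearMap.ext (hd i)
  refine (Function.Exact.iff_of_ladder_linearEquiv
    (e₁ := bcE (S.residueField y) ((K ρX F U).X (n : ℤ))) (e₂ := bcE (S.residueField y) ((K ρX F U).X ((n : ℤ) + 1)))
    (e₃ := bcE (S.residueField y) ((K ρX F U).X ((n : ℤ) + 1 + 1))) ?_ ?_).2 hz
  · refine LinearMap.ext fun z => ?_
    rw [← hd']
    exact (bcE_dd _ (K ρX F U) _ _ z).symm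
  · refine LinearMap.ext fun z => ?_
    rw [← hd']
    exact (bcE_dd _ (K ρX F U) _ _ z).symm

/-- Cochains killed in `F / mᵏ F` are those in `mᵏ`. -/
theorem mapC_modPowπ_eq_zero_iff (hF : Coh.IsCoh F)
    (haff : ∀ (n : ℕ) (a : Fin (n + 1) → ι), IsAffineOpen (⨅ k, U (a k))) (k : ℕ) (i : ℤ) (x : C ρX F U i) :
    mapC ρX U (modPowπ 𝔪 k F) i x = 0 ↔ x ∈ 𝔪 ^ k • (⊤ : Submodule A (C ρX F U i)) := by
  classical
  haveI : IsLocallyNoetherian X := LocallyOfFiniteType.isLocallyNoetherian (X ↘ Spec (CommRingCat.of A))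
  have hs := fun a : Idx ι i => ((HomSh.modPow_spec 𝔪 hF k).2 (opn U a.1) (isAffineOpen_opn U haff a)).2
  refine ⟨fun hx => ?_, fun hx => ?_⟩
  · haveI := finite_idx (ι := ι) i
    cases nonempty_fintype (Idx ι i)
    rw [← Finset.univ_sum_single x]
    refine Submodule.sum_mem _ fun a _ => ?_
    have h1 : (show Γ(F, opn U a.1) from x a) ∈ Ideal.map (act ρX (opn U a.1)) (𝔪 ^ k) •
        (⊤ : Submodule Γ(X, opn U a.1) Γ(F, opn U a.1)) := by
      rw [Ideal.map_pow]
      exact (hs a (x a)).1 (congrFun hx a)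
    have h2 : x a ∈ 𝔪 ^ k • (⊤ : Submodule A (Sec ρX F (opn U a.1))) := by
      refine Submodule.smul_induction_on (p := fun z : Γ(F, opn U a.1) =>
        (show Sec ρX F (opn U a.1) from z) ∈ 𝔪 ^ k • (⊤ : Submodule A (Sec ρX F (opn U a.1))))
        h1 (fun r hr z _ => ?_) (fun u v hu hv => add_mem hu hv)
      revert z
      rw [Ideal.map] at hr
      refine Submodule.span_induction (fun r hr z _ => ?_) (fun z _ => ?_) (fun r s _ _ h h' z _ => ?_)
        (fun c r _ h z _ => ?_) hr
      · obtain ⟨b, hb, rfl⟩ := hr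
        exact Submodule.smul_mem_smul (r := b) (n := (show Sec ρX F (opn U a.1) from z)) hb trivial
      · rw [zero_smul]; exact zero_mem _
      · rw [add_smul]; exact add_mem (h z trivial) (h' z trivial)
      · rw [smul_eq_mul, mul_comm, mul_smul]; exact h _ trivial
    have := Submodule.mem_map_of_mem (f := LinearMap.single A (fun b : Idx ι i => Sec ρX F (opn U b.1)) a) h2
    rw [Submodule.map_smul''] at this
    exact Submodule.smul_mono le_rfl le_top this
  · refine Submodule.smul_induction_on hx (fun r hr z _ => ?_) (fun u v hu hv => by rw [map_add, hu, hv, add_zero])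
    funext a
    refine (hs a _).2 ?_
    rw [← Ideal.map_pow]
    exact Submodule.smul_mem_smul (Ideal.mem_map_of_mem _ hr) trivial

variable (F) in
theorem epi_trans (k : ℕ) : Epi (modPowTrans 𝔪 k F) := by
  haveI : Epi (modPowπ 𝔪 k F) := inferInstanceAs (Epi (cokernel.π _))
  exact epi_of_epi_fac (Formal.modPowπ_trans 𝔪 k F)

/-- The graded pieces have no cohomology in a degree where the fibre has none. -/
theorem subsingleton_kernel (hF : Coh.IsCoh F) (hfl : FlatMod.IsFlatOver (X ↘ Spec (CommRingCat.of A)) F) (n : ℕ)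
    (hvan : Subsingleton (CohIII.fiberH (X ↘ Spec (CommRingCat.of A)) F (IsLocalRing.closedPoint A) (n + 1)))
    (k : ℕ) : Subsingleton (Coh.HH X (kernel (modPowTrans 𝔪 k F)) (n + 1)) := by
  haveI : IsLocallyNoetherian X := LocallyOfFiniteType.isLocallyNoetherian (X ↘ Spec (CommRingCat.of A))
  haveI : CompactSpace X := QuasiCompact.compactSpace_of_compactSpace (X ↘ Spec (CommRingCat.of A))
  haveI : X.IsSeparated := ⟨by rw [← terminal.comp_from (X ↘ Spec (CommRingCat.of A))]; infer_instance⟩
  haveI : Coh.IsQCoh F := hF.1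
  obtain ⟨t, U, hcov, haff⟩ := exists_affine_cover (X := X)
  let T := modPowTrans 𝔪 k F
  have h₁ := (HomSh.modPow_spec 𝔪 hF (k + 1)).1
  have h₀ := (HomSh.modPow_spec 𝔪 hF k).1
  haveI : Coh.IsQCoh (modPow 𝔪 (k + 1) F) := h₁.1
  haveI : Coh.IsQCoh (modPow 𝔪 k F) := h₀.1
  haveI : Coh.IsQCoh (kernel T) := (CohKernel.isCoh_kernel_cokernel h₁ h₀ T).1.1
  haveI : Epi (modPowπ 𝔪 (k + 1) F) := inferInstanceAs (Epi (cokernel.π _))
  obtain ⟨e⟩ := exists_homology_equiv ρX (kernel T) U hcov haff (n + 1)
  suffices h : IsZero ((K ρX (kernel T) U).homology ((n + 1 : ℕ) : ℤ)) from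
    haveI := ModuleCat.subsingleton_of_isZero h
    e.symm.toEquiv.subsingleton
  rw [show ((n + 1 : ℕ) : ℤ) = (n : ℤ) + 1 by push_cast; rfl, ← HomologicalComplex.exactAt_iff_isZero_homology,
    HomologicalComplex.exactAt_iff' _ (n : ℤ) ((n : ℤ) + 1) ((n : ℤ) + 1 + 1) (by simp) (by simp),
    ShortComplex.moduleCat_exact_iff]
  intro (z : C ρX (kernel T) U ((n : ℤ) + 1)) hz
  replace hz : dL ρX (kernel T) U ((n : ℤ) + 1) z = 0 := (K_d ρX (kernel T) U _ z).symm.trans hz
  let S : ShortComplex X.Modules := ShortComplex.mk (kernel.ι T) T (kernel.condition T)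
  have hS : S.Exact := ShortComplex.exact_of_f_is_kernel _ (kernelIsKernel T)
  have hTι : ∀ {i : ℤ} (w : C ρX (kernel T) U i), mapC ρX U T i (mapC ρX U (kernel.ι T) i w) = 0 := fun {i} w => by
    rw [mapC_comp, kernel.condition]
    funext a
    rfl
  have hπT : ∀ {i : ℤ} (w : C ρX F U i),
      mapC ρX U T i (mapC ρX U (modPowπ 𝔪 (k + 1) F) i w) = mapC ρX U (modPowπ 𝔪 k F) i w := fun {i} w => by
    rw [mapC_comp, Formal.modPowπ_trans]
  obtain ⟨x, hx⟩ := mapC_surjective ρX U (modPowπ 𝔪 (k + 1) F) haff _ (mapC ρX U (kernel.ι T) _ z)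
  have hx0 : x ∈ 𝔪 ^ k • (⊤ : Submodule A (C ρX F U ((n : ℤ) + 1))) := by
    rw [← mapC_modPowπ_eq_zero_iff U hF haff, ← hπT, hx, hTι]
  have hdx : dL ρX F U ((n : ℤ) + 1) x ∈ 𝔪 ^ (k + 1) • (⊤ : Submodule A (C ρX F U ((n : ℤ) + 1 + 1))) := by
    rw [← mapC_modPowπ_eq_zero_iff U hF haff, mapC_dL, hx, ← mapC_dL, hz, map_zero]
  haveI : Module.Flat A (C ρX F U ((n : ℤ) + 1 + 1)) :=
    flat_K (X ↘ Spec (CommRingCat.of A)) U F (fun V hV => flat_sec _ F hfl hV) haff _
  obtain ⟨w, hw, hwx⟩ := exists_boundary_mod (dL ρX F U (n : ℤ)) (dL ρX F U ((n : ℤ) + 1)) 𝔪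
    (dL_dL ρX F U (n : ℤ)) (exact_residue U hF hcov haff n hvan) k x hx0 hdx
  rw [← mapC_modPowπ_eq_zero_iff U hF haff, ← hπT] at hw
  obtain ⟨w', hw'⟩ := (mapC_exact ρX U hS _).2 _ hw
  refine ⟨w', (K_d ρX (kernel T) U (n : ℤ) w').trans ((mapC_exact ρX U hS _).1 ?_)⟩
  rw [← mapC_modPowπ_eq_zero_iff U hF haff, map_sub, sub_eq_zero, mapC_dL, hx] at hwx
  show mapC ρX U (kernel.ι T) _ (dL ρX (kernel T) U (n : ℤ) w') = mapC ρX U (kernel.ι T) _ z
  rw [mapC_dL, show mapC ρX U (kernel.ι T) _ w' = _ from hw']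
  exact hwx.symm

/-- Cohomology surjects onto that of the thickenings. -/
theorem surjective_toHHmodPow (hF : Coh.IsCoh F) (hfl : FlatMod.IsFlatOver (X ↘ Spec (CommRingCat.of A)) F) (n : ℕ)
    (hvan : Subsingleton (CohIII.fiberH (X ↘ Spec (CommRingCat.of A)) F (IsLocalRing.closedPoint A) (n + 1)))
    (p : ℕ) : Function.Surjective (toHHmodPow 𝔪 F n p) := by
  intro x
  haveI : ∀ m, Epi (modPowπ 𝔪 m F) := fun m => inferInstanceAs (Epi (cokernel.π _))
  have hlift : ∀ k (h : p ≤ k), ∃ y, hmap (modPowLE 𝔪 (Nat.succ_le_succ h) F) n y = x := by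
    intro k h
    induction k, h using Nat.le_induction with
    | base =>
      refine ⟨x, ?_⟩
      rw [show modPowLE 𝔪 (le_refl (p + 1)) F = 𝟙 _ by
        rw [← cancel_epi (modPowπ 𝔪 (p + 1) F), modPowπ_modPowLE, Category.comp_id], hmap_id]
    | succ k hk ih =>
      obtain ⟨y, hy⟩ := ih
      haveI := epi_trans (A := A) F (k + 1)
      have hS : (ShortComplex.mk (kernel.ι (modPowTrans 𝔪 (k + 1) F)) (modPowTrans 𝔪 (k + 1) F)
          (kernel.condition _)).ShortExact :=
        { exact := ShortComplex.exact_of_f_is_kernel _ (kernelIsKernel _) }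
      haveI := subsingleton_kernel hF hfl n hvan (k + 1)
      obtain ⟨y', hy'⟩ := (CohLinear.exact_hmap_delta hS n y).1 (Subsingleton.elim _ _)
      refine ⟨y', ?_⟩
      rw [show modPowLE 𝔪 (Nat.succ_le_succ (hk.trans k.le_succ)) F =
          modPowTrans 𝔪 (k + 1) F ≫ modPowLE 𝔪 (Nat.succ_le_succ hk) F by
        rw [← cancel_epi (modPowπ 𝔪 (k + 1 + 1) F), modPowπ_modPowLE, ← Category.assoc, Formal.modPowπ_trans,
          modPowπ_modPowLE], hmap_comp]
      exact (congrArg (hmap (modPowLE 𝔪 (Nat.succ_le_succ hk) F) n) hy').trans hy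
  obtain ⟨c, hc⟩ := exists_range_eq 𝔪 hF n
  obtain ⟨y, rfl⟩ := hlift (p + c) (Nat.le_add_right p c)
  exact hc p (p + c) (Nat.le_add_right p c) le_rfl y

end Groth.L16.Rees.FlatSurj
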