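import Groth.Agent.L16.Rees.Setup

/-!
# Finiteness over the Rees algebra: stable families in `Hᵖ(X, Iᵏ F)` are generated in bounded degree
-/

set_option autoImplicit false
set_option linter.style.haveILetI false

universe u

open CategoryTheory CategoryTheory.Limits AlgebraicGeometry TopologicalSpace Opposite Polynomial

noncomputable section

namespace Groth.L16.Rees

open AffineBC (Xb gb η β)
open Formal (smulMod)
open Formal2 (idealPowMod idealPowModι)

variable {A : Type u} [CommRing A] (I : Ideal A) {X : Scheme.{u}} [X.Over (Spec (CommRingCat.of A))]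
  (F : X.Modules)

/-- The surjection `∐ F ⟶ Iᵏ F`. -/
def eI (k : ℕ) : (∐ fun _ : ↥(I ^ k) => F) ⟶ idealPowMod I k F :=
  Abelian.factorThruImage (Formal.smulFamily (I ^ k) F)

theorem eI_ι (k : ℕ) : eI I F k ≫ idealPowModι I k F = Formal.smulFamily (I ^ k) F :=
  Abelian.image.fac _

instance epi_eI (k : ℕ) : Epi (eI I F k) :=
  inferInstanceAs (Epi (Abelian.factorThruImage (Formal.smulFamily (I ^ k) F)))

theorem smulMod_modPowπ {k : ℕ} {a : A} (ha : a ∈ I ^ k) : smulMod A F a ≫ Formal.modPowπ I k F = 0 := by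
  have h : smulMod A F a = Sigma.ι (fun _ : ↥(I ^ k) => F) ⟨a, ha⟩ ≫ Formal.smulFamily (I ^ k) F := by
    rw [Formal.smulFamily, Sigma.ι_desc]
  rw [h, Category.assoc]
  exact (congrArg (_ ≫ ·) (cokernel.condition (Formal.smulFamily (I ^ k) F))).trans Limits.comp_zero

theorem ι_eI {k : ℕ} (b : ↥(I ^ k)) :
    Sigma.ι (fun _ : ↥(I ^ k) => F) b ≫ eI I F k ≫ idealPowModι I k F = smulMod A F (b : A) := by
  rw [eI_ι]
  exact Sigma.ι_desc _ _

/-- Multiplication `Iᵏ F ⟶ Iˡ F` by an element of `I^(l-k)`. -/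
def mulK {k l : ℕ} (h : k ≤ l) (a : A) (ha : a ∈ I ^ (l - k)) : idealPowMod I k F ⟶ idealPowMod I l F :=
  kernel.lift _ (idealPowModι I k F ≫ smulMod A F a) (by
    rw [← cancel_epi (eI I F k), Limits.comp_zero]
    apply Sigma.hom_ext
    intro b
    rw [Limits.comp_zero, ← Category.assoc (eI I F k), ← Category.assoc (eI I F k), eI_ι,
      Formal.smulFamily, Category.assoc, Sigma.ι_desc_assoc, ← Category.assoc, ← smulMod_mul]
    refine smulMod_modPowπ I F ?_
    have := Ideal.mul_mem_mul ha b.2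
    rwa [← pow_add, Nat.sub_add_cancel h] at this)

theorem mulK_ι {k l : ℕ} (h : k ≤ l) (a : A) (ha : a ∈ I ^ (l - k)) :
    mulK I F h a ha ≫ idealPowModι I l F = idealPowModι I k F ≫ smulMod A F a :=
  kernel.lift_ι _ _ _

theorem mulK_comp {k m l : ℕ} (h : k ≤ m) (h' : m ≤ l) (a : A) (ha : a ∈ I ^ (m - k)) (a' : A)
    (ha' : a' ∈ I ^ (l - m)) :
    mulK I F h a ha ≫ mulK I F h' a' ha' = mulK I F (h.trans h') (a' * a) (by
      have := Ideal.mul_mem_mul ha' ha
      rwa [← pow_add, Nat.sub_add_sub_cancel h' h] at this) := by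
  rw [← cancel_mono (idealPowModι I l F), Category.assoc, mulK_ι, mulK_ι, ← Category.assoc, mulK_ι,
    Category.assoc, ← smulMod_mul]

theorem mulK_one (k : ℕ) : mulK I F (le_refl k) 1 (by simp) = 𝟙 _ := by
  rw [← cancel_mono (idealPowModι I k F), mulK_ι, smulMod_one, Category.comp_id, Category.id_comp]

variable [Coh.IsQCoh F]

/-- The component `Iᵏ F ⟶ ⊕ Iˡ F`. -/
theorem exists_φ (k : ℕ) :
    ∃ φ : idealPowMod I k F ⟶ Gm I X F,
      φ ≫ imG I X F = idealPowModι I k F ≫ η A A[X] X F ≫ β A A[X] X F (Polynomial.X ^ k) := by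
  let L : (∐ fun _ : ↥(I ^ k) => F) ⟶ Gm I X F := Sigma.desc fun a =>
    η A (reesAlgebra I) X F ≫ pm I X F ≫ βM I X F ⟨monomial k (a : A), reesAlgebra.monomial_mem.2 a.2⟩
  have hL : L ≫ imG I X F = eI I F k ≫ idealPowModι I k F ≫ η A A[X] X F ≫ β A A[X] X F (Polynomial.X ^ k) := by
    apply Sigma.hom_ext
    intro a
    rw [← Category.assoc (eI I F k), eI_ι, Formal.smulFamily]
    simp only [L, Sigma.ι_desc_assoc, Category.assoc]
    rw [βM_im, reassoc_of% η_pm_imG I X F, ← reassoc_of% β_algebraMap X F A[X] (a : A), ← β_mul]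
    congr 2
    rw [Polynomial.X_pow_mul, Polynomial.algebraMap_eq, C_mul_X_pow_eq_monomial]
  have h0 : kernel.ι (eI I F k) ≫ L = 0 := by
    rw [← cancel_mono (imG I X F), Category.assoc, hL, kernel.condition_assoc, Limits.zero_comp, Limits.zero_comp]
  refine ⟨Abelian.epiDesc (eI I F k) L h0, ?_⟩
  rw [← cancel_epi (eI I F k), ← Category.assoc, Abelian.comp_epiDesc, hL]

variable [IsNoetherianRing A] [IsProper (X ↘ Spec (CommRingCat.of A))]

omit [Coh.IsQCoh F] in
theorem isCoh_M' {F : X.Modules} (hF : Coh.IsCoh F) : Coh.IsCoh (M' I X F) := by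
  haveI : Coh.IsQCoh F := hF.1
  haveI : IsLocallyNoetherian X := LocallyOfFiniteType.isLocallyNoetherian (X ↘ Spec (CommRingCat.of A))
  haveI : IsLocallyNoetherian (Xb A (reesAlgebra I) X) :=
    LocallyOfFiniteType.isLocallyNoetherian (Xb A (reesAlgebra I) X ↘ Spec (CommRingCat.of (reesAlgebra I)))
  haveI : IsLocallyNoetherian (Xb A A[X] X) :=
    LocallyOfFiniteType.isLocallyNoetherian (Xb A A[X] X ↘ Spec (CommRingCat.of A[X]))
  haveI : Coh.IsQCoh (PT A X F) := AffineBC.isQCoh_pullback _ F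
  haveI : Coh.IsQCoh ((Coh.push (jT I X)).obj (PT A X F)) := QcqsPush.isQCoh_push (PT A X F) (jT I X)
  exact CohSupport.isCoh_image (AffineBC.isCoh_pullback (gb A (reesAlgebra I) X) hF) _

omit [Coh.IsQCoh F] in
theorem hom_zero_Gm {F : X.Modules} (hF : Coh.IsCoh F) {Q : X.Modules} (ψ : Gm I X F ⟶ Q)
    (h : ∀ b, η A (reesAlgebra I) X F ≫ β A (reesAlgebra I) X F b ≫ pm I X F ≫ ψ = 0) : ψ = 0 := by
  haveI : Coh.IsQCoh F := hF.1
  haveI : Coh.IsQCoh (M' I X F) := (isCoh_M' I hF).1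
  haveI : Coh.IsQCoh (PB I X F) := AffineBC.isQCoh_pullback _ F
  have h1 := hom_zero_of_generators X F (reesAlgebra I) (pm I X F ≫ ψ) h
  refine AffineBC.hom_ext_affine _ _ fun U hU m => ?_
  obtain ⟨n, rfl⟩ := AffineBC.surjective_app_of_epi (Abelian.factorThruImage (τ I X F))
    (hU.preimage (gb A (reesAlgebra I) X)) m
  exact congr(($h1).app U n)

omit [Coh.IsQCoh F] in
/-- The structure of `⊕ Iᵏ F` as a graded module. -/
theorem exists_components {F : X.Modules} (hF : Coh.IsCoh F) :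
    ∃ (φ : ∀ k, idealPowMod I k F ⟶ Gm I X F) (ψ : ∀ l, Gm I X F ⟶ idealPowMod I l F),
      (∀ k l (b : reesAlgebra I) (h : k ≤ l),
        φ k ≫ βM I X F b ≫ ψ l = mulK I F h ((b : A[X]).coeff (l - k)) (b.2 _)) ∧
      ∀ k l (b : reesAlgebra I), l < k → φ k ≫ βM I X F b ≫ ψ l = 0 := by
  haveI : Coh.IsQCoh F := hF.1
  choose φ hφ using exists_φ I F
  choose c hc using exists_coeff (A := A) X F
  have hz : ∀ l, (imG I X F ≫ c l) ≫ Formal.modPowπ I l F = 0 := by
    intro l
    refine hom_zero_Gm I hF _ fun b => ?_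
    rw [reassoc_of% β_pm I X F b, Category.assoc, reassoc_of% βM_im I X F b, reassoc_of% η_pm_imG I X F,
      reassoc_of% hc l (b : A[X])]
    exact smulMod_modPowπ I F (b.2 l)
  let ψ := fun l => kernel.lift _ (imG I X F ≫ c l) (hz l)
  have hψ : ∀ l, ψ l ≫ idealPowModι I l F = imG I X F ≫ c l := fun l => kernel.lift_ι _ _ _
  have main : ∀ k l (b : reesAlgebra I), (φ k ≫ βM I X F b ≫ ψ l) ≫ idealPowModι I l F =
      idealPowModι I k F ≫ smulMod A F (((b : A[X]) * Polynomial.X ^ k).coeff l) := by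
    intro k l b
    rw [Category.assoc, Category.assoc, hψ, reassoc_of% βM_im I X F b, reassoc_of% hφ k,
      ← reassoc_of% β_mul X F A[X] (b : A[X]) (Polynomial.X ^ k), hc]
  refine ⟨φ, ψ, fun k l b h => ?_, fun k l b h => ?_⟩
  · rw [← cancel_mono (idealPowModι I l F), main, mulK_ι, coeff_mul_X_pow', if_pos h]
  · rw [← cancel_mono (idealPowModι I l F), main, coeff_mul_X_pow', if_neg (not_le.2 h), smulMod_zero,
      Limits.comp_zero, Limits.zero_comp]

omit [Coh.IsQCoh F] in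
/-- A family of subgroups of `Hᵖ(X, Iᵏ F)` stable under multiplication is generated in bounded degree. -/
theorem exists_generated {F : X.Modules} (hF : Coh.IsCoh F) (p : ℕ)
    (Q : ∀ k, AddSubgroup (Coh.HH X (idealPowMod I k F) p))
    (hQ : ∀ (k l : ℕ) (h : k ≤ l) (a : A) (ha : a ∈ I ^ (l - k)), ∀ y ∈ Q k,
      CohLinear.hmap (mulK I F h a ha) p y ∈ Q l) :
    ∃ k₀, ∀ K, k₀ ≤ K → ∀ (l : ℕ) (hl : K ≤ l), ∀ y ∈ Q l, y ∈ AddSubgroup.closure
      {z | ∃ (a : A) (ha : a ∈ I ^ (l - K)) (q : Coh.HH X (idealPowMod I K F) p),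
        q ∈ Q K ∧ z = CohLinear.hmap (mulK I F hl a ha) p q} := by
  haveI : Coh.IsQCoh F := hF.1
  obtain ⟨φ, ψ, hR, hR0⟩ := exists_components I hF
  haveI : Coh.IsQCoh (M' I X F) := (isCoh_M' I hF).1
  haveI : X.IsSeparated := ⟨by rw [← terminal.comp_from (X ↘ Spec (CommRingCat.of A))]; infer_instance⟩
  obtain ⟨e, he⟩ := exists_push_endo (gb A (reesAlgebra I) X) (M' I X F) p
  haveI hfin : Module.Finite (reesAlgebra I) (Coh.HH (Xb A (reesAlgebra I) X) (M' I X F) p) :=
    ProperFinite.finite_HH (reesAlgebra I) (isCoh_M' I hF) p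
  have heb : ∀ (b : reesAlgebra I) x, e (b • x) = CohLinear.hmap (βM I X F b) p (e x) :=
    fun b x => (congrArg e (hmap_smulMod (reesAlgebra I) (M' I X F) b p x).symm).trans (he _ x)
  let S : Set (Coh.HH (Xb A (reesAlgebra I) X) (M' I X F) p) :=
    {x | ∃ k, ∃ q ∈ Q k, e x = CohLinear.hmap (φ k) p q}
  obtain ⟨t, htS, ht⟩ := (Submodule.fg_span_iff_fg_span_finset_subset S).1 (IsNoetherian.noetherian (Submodule.span (reesAlgebra I) S))
  choose deg q hq hx using fun z : t => htS z.2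
  refine ⟨Finset.univ.sup deg, fun K hK l hl y hy => ?_⟩
  have hmem : e.symm (CohLinear.hmap (φ l) p y) ∈ Submodule.span (reesAlgebra I) (t : Set _) := by
    rw [← ht]
    exact Submodule.subset_span ⟨l, y, hy, e.apply_symm_apply _⟩
  set C := AddSubgroup.closure {z | ∃ (a : A) (ha : a ∈ I ^ (l - K)) (q : Coh.HH X (idealPowMod I K F) p),
        q ∈ Q K ∧ z = CohLinear.hmap (mulK I F hl a ha) p q}
  have key : ∀ (z : t) (b : reesAlgebra I), CohLinear.hmap (ψ l) p (e (b • (z : Coh.HH _ (M' I X F) p))) ∈ C := by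
    intro z b
    have hd : deg z ≤ K := (Finset.le_sup (Finset.mem_univ z)).trans hK
    rw [heb, hx z, ← CohLinear.hmap_comp, ← CohLinear.hmap_comp, hR _ _ b (hd.trans hl)]
    -- split the coefficient
    suffices ∀ a (ha : a ∈ I ^ (l - deg z)),
        CohLinear.hmap (mulK I F (hd.trans hl) a ha) p (q z) ∈ C from this _ _
    intro a ha
    have hsplit : a ∈ I ^ (l - K) * I ^ (K - deg z) := by
      rwa [← pow_add, Nat.sub_add_sub_cancel hl hd]
    refine Submodule.mul_induction_on' (C := fun c hc => ∀ hc' : c ∈ I ^ (l - deg z),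
      CohLinear.hmap (mulK I F (hd.trans hl) c hc') p (q z) ∈ C) ?_ ?_ hsplit ha
    · intro a' ha' c hc hc'
      rw [← mulK_comp I F hd hl c hc a' ha', CohLinear.hmap_comp]
      exact AddSubgroup.subset_closure ⟨a', ha', _, hQ _ _ hd c hc _ (hq z), rfl⟩
    · intro c₁ hc₁ c₂ hc₂ h1 h2 hc'
      have g1 : c₁ ∈ I ^ (l - deg z) := by rwa [← pow_add, Nat.sub_add_sub_cancel hl hd] at hc₁
      have g2 : c₂ ∈ I ^ (l - deg z) := by rwa [← pow_add, Nat.sub_add_sub_cancel hl hd] at hc₂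
      have : mulK I F (hd.trans hl) (c₁ + c₂) hc' = mulK I F (hd.trans hl) c₁ g1 + mulK I F (hd.trans hl) c₂ g2 := by
        rw [← cancel_mono (idealPowModι I l F), Preadditive.add_comp, mulK_ι, mulK_ι, mulK_ι, ← Preadditive.comp_add]
        congr 1
        refine Scheme.Modules.hom_ext _ _ fun U => ?_
        ext m
        show (Formal.smulModΓ F _).app U m = (Formal.smulModΓ F _).app U m + (Formal.smulModΓ F _).app U m
        rw [smulModΓ_app, smulModΓ_app, smulModΓ_app, map_add]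
        exact (congrArg (fun r : Γ(X, U) => r • m) (map_add (Coh.resTop X (op U)) _ _)).trans (add_smul _ _ m)
      rw [this, CohLinear.hmap_apply, CohLinear.tm, Functor.map_add, Sheaf.H.map_add_apply]
      exact add_mem (h1 g1) (h2 g2)
  have hfin' : ∀ x ∈ Submodule.span (reesAlgebra I) (t : Set _), ∀ b : reesAlgebra I,
      CohLinear.hmap (ψ l) p (e (b • x)) ∈ C := by
    intro x hx'
    induction hx' using Submodule.span_induction with
    | mem x hx' => exact fun b => key ⟨x, hx'⟩ b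
    | zero => intro b; rw [smul_zero, map_zero, map_zero]; exact zero_mem _
    | add x y _ _ h1 h2 => intro b; rw [smul_add, map_add, map_add]; exact add_mem (h1 b) (h2 b)
    | smul r x _ h => intro b; rw [smul_smul]; exact h _
  have h1 := hfin' _ hmem 1
  rw [heb, e.apply_symm_apply, ← CohLinear.hmap_comp, ← CohLinear.hmap_comp, hR l l 1 le_rfl] at h1
  have h2 : mulK I F (le_refl l) (((1 : reesAlgebra I) : A[X]).coeff (l - l)) ((1 : reesAlgebra I).2 _) = 𝟙 _ := by
    rw [← mulK_one I F l]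
    congr 1
    simp
  rwa [h2, CohLinear.hmap_id] at h1

end Groth.L16.Rees
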